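import Groth.Agent.H13Desc.Eff.Glue
import Groth.Agent.H13Desc.Eff.Affine
import Groth.Agent.H13Desc.Eff.Refine
import Groth.Agent.H13Desc.Fpqc
import Groth.Agent.H18Descent.Basic
import Groth.Agent.S1133

/-!
# Representability by an affine scheme descends along an fppf covering

A presheaf `G` over a scheme `W`, satisfying fppf descent, whose pullback to an fppf covering `W' → W`
is represented by a scheme affine over `W'`, is represented by a scheme affine over `W`.
-/

set_option autoImplicit false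
set_option backward.isDefEq.respectTransparency false
set_option backward.isDefEq.respectTransparency.types false
set_option linter.style.haveILetI false
set_option linter.deprecated false

universe u

noncomputable section

open CategoryTheory CategoryTheory.Limits AlgebraicGeometry Opposite Desc TopologicalSpace

namespace Groth.Agent.H15Magnet.AffineRep

/-- An affine descent datum along an fpqc covering is effective. -/
theorem isEffective_affine {X S : Scheme.{u}} (p : X ⟶ S) [Surjective p] [Flat p]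
    [H13Desc.Eff.IsCover p] (D : SchDD p) [IsAffineHom D.obj.hom] :
    ∃ U : Over S, Nonempty ((toDD p).obj U ≅ D) := by
  refine H13Desc.Eff.isEffective_of_charts fun a => ?_
  obtain ⟨_, ⟨V : S.Opens, hV, rfl⟩, haV, -⟩ := S.isBasis_affineOpens.exists_subset_of_mem_open
    (Set.mem_univ ((D.obj.hom ≫ p) a)) isOpen_univ
  obtain ⟨n, k, O, g, hO, hg, _, _, _⟩ :=
    H13Desc.fpqc_exists_affine_refinement (H13Desc.Eff.IsCover.ofArrows p) V hV
  let π : (∐ fun l => (O l).toScheme) ⟶ X := Sigma.desc fun l => (O l).ι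
  have hc : π ≫ p = Sigma.desc g ≫ V.ι := Sigma.hom_ext _ _ fun l => by simp [π, hg]
  haveI : IsAffineHom (H13Desc.Eff.pullW D π (Sigma.desc g) hc).obj.hom :=
    MorphismProperty.pullback_snd D.obj.hom π ‹IsAffineHom D.obj.hom›
  obtain ⟨Z, ⟨e⟩⟩ := Groth.Agent.S1133.result (Sigma.desc g) (H13Desc.Eff.pullW D π (Sigma.desc g) hc)
  obtain ⟨C, hC⟩ := H13Desc.Eff.exists_chart_of_refinement D π (Sigma.desc g) hc Z e
  exact ⟨C, hC haV⟩

variable {S : Scheme.{u}} (G : (Over S)ᵒᵖ ⥤ Type u)

/-- The sheaf condition for one covering morphism. -/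
theorem isSheafFor_singleton_over (hG : Presheaf.IsSheaf (Scheme.fppfTopology.over S) G) {A B : Over S}
    (f : A ⟶ B) [Flat f.left] [Surjective f.left] [LocallyOfFinitePresentation f.left] :
    (Presieve.singleton f).IsSheafFor G := by
  rw [isSheaf_iff_isSheaf_of_type] at hG
  rw [Presieve.isSheafFor_iff_generate]
  refine hG _ ?_
  rw [GrothendieckTopology.mem_over_iff]
  refine GrothendieckTopology.superset_covering _ ?_
    (Precoverage.generate_mem_toGrothendieck (Scheme.Hom.singleton_mem_fppfPrecoverage f.left))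
  rintro Y g ⟨Z, h, _, ⟨⟩, rfl⟩
  rw [Sieve.overEquiv_iff]
  exact ⟨A, Over.homMk h (by simp), f, ⟨⟩, Over.OverMorphism.ext rfl⟩

variable {G} {W W' Z' : Over S} (q : G ⟶ yoneda.obj W) (p : W' ⟶ W) (π : Z' ⟶ W') (ξ : G.obj (op Z'))

/-- `ξ` exhibits `Z'` as the pullback of `G` along `p`. -/
def IsRep : Prop := q.app (op Z') ξ = π ≫ p ∧
  ∀ (T : Over S) (g : G.obj (op T)) (x : T ⟶ W'), q.app (op T) g = x ≫ p →
    ∃! z : T ⟶ Z', z ≫ π = x ∧ G.map z.op ξ = g

variable {q p π ξ}

theorem IsRep.q_map (h : IsRep q p π ξ) {T : Over S} (z : T ⟶ Z') :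
    q.app (op T) (G.map z.op ξ) = z ≫ π ≫ p := by
  have := ConcreteCategory.congr_hom (q.naturality z.op) ξ
  simp only [types_comp_apply] at this
  exact this.trans (congrArg (z ≫ ·) h.1)

theorem IsRep.ext (h : IsRep q p π ξ) {T : Over S} {z z' : T ⟶ Z'} (hπ : z ≫ π = z' ≫ π)
    (hξ : G.map z.op ξ = G.map z'.op ξ) : z = z' :=
  (h.2 T _ (z' ≫ π) ((h.q_map z').trans (Category.assoc _ _ _).symm)).unique ⟨hπ, hξ⟩ ⟨rfl, rfl⟩

theorem IsRep.exists_move (h : IsRep q p π ξ) {T : Over S} (a : T ⟶ Z') (x₁ : T ⟶ W')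
    (hx : a ≫ π ≫ p = x₁ ≫ p) : ∃! b : T ⟶ Z', b ≫ π = x₁ ∧ G.map b.op ξ = G.map a.op ξ :=
  h.2 T _ x₁ ((h.q_map a).trans hx)

/-- Transport of a point along the representability. -/
def IsRep.move (h : IsRep q p π ξ) {T : Over S} (a : T ⟶ Z') (x₁ : T ⟶ W')
    (hx : a ≫ π ≫ p = x₁ ≫ p) : T ⟶ Z' := (h.exists_move a x₁ hx).exists.choose

theorem IsRep.move_π (h : IsRep q p π ξ) {T : Over S} (a : T ⟶ Z') (x₁ : T ⟶ W')
    (hx : a ≫ π ≫ p = x₁ ≫ p) : h.move a x₁ hx ≫ π = x₁ := (h.exists_move a x₁ hx).exists.choose_spec.1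

theorem IsRep.move_ξ (h : IsRep q p π ξ) {T : Over S} (a : T ⟶ Z') (x₁ : T ⟶ W')
    (hx : a ≫ π ≫ p = x₁ ≫ p) : G.map (h.move a x₁ hx).op ξ = G.map a.op ξ :=
  (h.exists_move a x₁ hx).exists.choose_spec.2

theorem IsRep.eq_move (h : IsRep q p π ξ) {T T' : Over S} (g : T' ⟶ T) (a : T ⟶ Z') (x₁ : T ⟶ W')
    (hx : a ≫ π ≫ p = x₁ ≫ p) (b : T' ⟶ Z') (h1 : b ≫ π = g ≫ x₁)
    (h2 : G.map b.op ξ = G.map (g ≫ a).op ξ) : b = g ≫ h.move a x₁ hx := by
  refine h.ext ?_ ?_
  · rw [h1, Category.assoc, h.move_π]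
  · rw [h2, op_comp, op_comp, FunctorToTypes.map_comp_apply, FunctorToTypes.map_comp_apply, h.move_ξ]

/-- A point of `Z'` over a point of `W'`, as a morphism over `S`. -/
def liftHom (π : Z' ⟶ W') {T : Scheme.{u}} {x : T ⟶ W'.left} (v : Lifts (Over.mk π.left) x) :
    Over.mk (x ≫ W'.hom) ⟶ Z' :=
  Over.homMk v.1 (by
    have hv : v.1 ≫ π.left = x := v.2
    change v.1 ≫ Z'.hom = x ≫ W'.hom
    rw [← Over.w π, ← Category.assoc, hv])

variable (p) in
theorem base_eq {T : Scheme.{u}} (x₀ x₁ : T ⟶ W'.left) (e : x₀ ≫ p.left = x₁ ≫ p.left) :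
    x₁ ≫ W'.hom = x₀ ≫ W'.hom := by
  rw [← Over.w p, ← Category.assoc, ← Category.assoc, e]

theorem liftHom_comp (π : Z' ⟶ W') {T : Scheme.{u}} {x₀ : T ⟶ W'.left} (x₁ : T ⟶ W'.left)
    (e : x₀ ≫ p.left = x₁ ≫ p.left) (v : Lifts (Over.mk π.left) x₀) :
    liftHom π v ≫ π ≫ p = (Over.homMk x₁ (base_eq p x₀ x₁ e) : Over.mk (x₀ ≫ W'.hom) ⟶ W') ≫ p := by
  apply Over.OverMorphism.ext
  have hv : v.1 ≫ π.left = x₀ := v.2
  change v.1 ≫ π.left ≫ p.left = x₁ ≫ p.left
  rw [← Category.assoc, hv, e]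

/-- The descended point. -/
def IsRep.trans' (h : IsRep q p π ξ) {T : Scheme.{u}} (x₀ x₁ : T ⟶ W'.left)
    (e : x₀ ≫ p.left = x₁ ≫ p.left) (v : Lifts (Over.mk π.left) x₀) : Lifts (Over.mk π.left) x₁ :=
  ⟨(h.move (liftHom π v) _ (liftHom_comp π x₁ e v)).left,
    congrArg CommaMorphism.left (h.move_π (liftHom π v) _ (liftHom_comp π x₁ e v))⟩

/-- Characterization of the transport. -/
theorem IsRep.trans'_val (h : IsRep q p π ξ) {T : Scheme.{u}} (x₀ x₁ : T ⟶ W'.left)
    (e : x₀ ≫ p.left = x₁ ≫ p.left) (v : Lifts (Over.mk π.left) x₀) {T' : Over S} (g : T'.left ⟶ T)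
    (a b : T' ⟶ Z') (ha : a.left = g ≫ v.1) (h1 : b.left ≫ π.left = g ≫ x₁)
    (h2 : G.map b.op ξ = G.map a.op ξ) : b.left = g ≫ (h.trans' x₀ x₁ e v).1 := by
  let go : T' ⟶ Over.mk (x₀ ≫ W'.hom) := Over.homMk g (by
    have hv : v.1 ≫ π.left = x₀ := v.2
    change g ≫ x₀ ≫ W'.hom = T'.hom
    rw [← Over.w a, ha, ← Over.w π]
    simp only [Category.assoc]
    exact congrArg (g ≫ ·) ((congrArg (· ≫ W'.hom) hv).symm.trans (Category.assoc _ _ _)))
  have hga : a = go ≫ liftHom π v := Over.OverMorphism.ext ha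
  exact congrArg CommaMorphism.left
    (h.eq_move go (liftHom π v) _ (liftHom_comp π x₁ e v) b (Over.OverMorphism.ext h1) (by rw [h2, hga]))

theorem IsRep.trans'_id (h : IsRep q p π ξ) {T : Scheme.{u}} (x : T ⟶ W'.left) (e : x ≫ p.left = x ≫ p.left)
    (v : Lifts (Over.mk π.left) x) : (h.trans' x x e v).1 = v.1 := by
  have hv : v.1 ≫ π.left = x := v.2
  have := h.trans'_val x x e v (T' := Over.mk (x ≫ W'.hom)) (𝟙 T) (liftHom π v) (liftHom π v)
    (Category.id_comp _).symm (hv.trans (Category.id_comp _).symm) rfl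
  exact (Category.id_comp _).symm.trans this.symm

/-- The moved point over its own base. -/
theorem IsRep.liftHom_trans' (h : IsRep q p π ξ) {T : Scheme.{u}} (x₀ x₁ : T ⟶ W'.left)
    (e : x₀ ≫ p.left = x₁ ≫ p.left) (v : Lifts (Over.mk π.left) x₀) :
    ∃ b : Over.mk (x₀ ≫ W'.hom) ⟶ Z', b.left = (h.trans' x₀ x₁ e v).1 ∧ b.left ≫ π.left = x₁ ∧
      G.map b.op ξ = G.map (liftHom π v).op ξ :=
  ⟨_, rfl, (h.trans' x₀ x₁ e v).2, h.move_ξ (liftHom π v) _ (liftHom_comp π x₁ e v)⟩

theorem IsRep.trans'_trans (h : IsRep q p π ξ) {T : Scheme.{u}} (x₀ x₁ x₂ : T ⟶ W'.left)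
    (e₀ : x₀ ≫ p.left = x₁ ≫ p.left) (e₁ : x₁ ≫ p.left = x₂ ≫ p.left) (v : Lifts (Over.mk π.left) x₀) :
    (h.trans' x₁ x₂ e₁ (h.trans' x₀ x₁ e₀ v)).1 = (h.trans' x₀ x₂ (e₀.trans e₁) v).1 := by
  obtain ⟨b, hb, hb1, hb2⟩ := h.liftHom_trans' x₀ x₁ e₀ v
  obtain ⟨c, hc, hc1, hc2⟩ := h.liftHom_trans' x₁ x₂ e₁ (h.trans' x₀ x₁ e₀ v)
  let idh : Over.mk (x₀ ≫ W'.hom) ⟶ Over.mk (x₁ ≫ W'.hom) := Over.homMk (𝟙 T) (by
    change 𝟙 T ≫ x₁ ≫ W'.hom = x₀ ≫ W'.hom
    rw [Category.id_comp, base_eq p x₀ x₁ e₀])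
  have hbl : b = idh ≫ liftHom π (h.trans' x₀ x₁ e₀ v) := Over.OverMorphism.ext (hb.trans (Category.id_comp _).symm)
  have key := h.trans'_val x₀ x₂ (e₀.trans e₁) v (T' := Over.mk (x₀ ≫ W'.hom)) (𝟙 T) (liftHom π v) (idh ≫ c)
    (Category.id_comp _).symm (by
      change (𝟙 T ≫ c.left) ≫ π.left = _
      rw [Category.assoc, hc1]) (by
      rw [← hb2, hbl, op_comp, op_comp, FunctorToTypes.map_comp_apply, FunctorToTypes.map_comp_apply, hc2])
  rw [← hc]
  exact (Category.id_comp _).symm.trans (key.trans (Category.id_comp _))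

/-- The descent datum of `IsRep`. -/
def IsRep.datum (h : IsRep q p π ξ) : SchDD p.left where
  obj := Over.mk π.left
  φ T x₀ x₁ e :=
    { toFun := h.trans' x₀ x₁ e
      invFun := h.trans' x₁ x₀ e.symm
      left_inv := fun v => Subtype.ext ((h.trans'_trans x₀ x₁ x₀ e e.symm v).trans (h.trans'_id x₀ _ v))
      right_inv := fun v => Subtype.ext ((h.trans'_trans x₁ x₀ x₁ e.symm e v).trans (h.trans'_id x₁ _ v)) }
  φ_natural T T' g x₀ x₁ e e' v v' hv := by
    obtain ⟨b, hb, hb1, hb2⟩ := h.liftHom_trans' (g ≫ x₀) (g ≫ x₁) e' v'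
    refine hb.symm.trans (h.trans'_val x₀ x₁ e v (T' := Over.mk ((g ≫ x₀) ≫ W'.hom)) g (liftHom π v') b hv hb1 hb2)
  φ_self T x v := Subtype.ext (h.trans'_id x rfl v)
  φ_comp T x₀ x₁ x₂ e₀ e₁ v := Subtype.ext (h.trans'_trans x₀ x₁ x₂ e₀ e₁ v)

/-- Representability by an affine morphism descends along fppf coverings. -/
theorem exists_rep (hG : Presheaf.IsSheaf (Scheme.fppfTopology.over S) G) (h : IsRep q p π ξ)
    [Flat p.left] [Surjective p.left] [LocallyOfFinitePresentation p.left] [IsAffineHom π.left] :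
    ∃ (Z : Over S) (j : Z ⟶ W) (e : G.RepresentableBy Z), IsAffineHom j.left ∧
      ∀ (T : Over S) (z : T ⟶ Z), q.app (op T) (e.homEquiv z) = z ≫ j := by
  haveI : IsAffineHom h.datum.obj.hom := inferInstanceAs (IsAffineHom π.left)
  obtain ⟨U, ⟨e⟩⟩ := isEffective_affine p.left h.datum
  let P := pullback p.left U.hom
  let E : P ⟶ Z'.left := e.hom.hom.left
  let E' : Z'.left ⟶ P := e.inv.hom.left
  have hE : E ≫ π.left = pullback.fst p.left U.hom := Over.w e.hom.hom
  have hE' : E' ≫ pullback.fst p.left U.hom = π.left := Over.w e.inv.hom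
  have hEE' : E ≫ E' = 𝟙 _ := by
    show e.hom.hom.left ≫ e.inv.hom.left = _
    rw [← Over.comp_left, ← SchDD.comp_hom, e.hom_inv_id]; rfl
  haveI : IsAffineHom (pullback.fst p.left U.hom) := by
    rw [← hE]
    have : IsIso E := inferInstanceAs (IsIso e.hom.hom.left)
    infer_instance
  haveI hUaff : IsAffineHom U.hom :=
    H13Desc.Eff.IsCover.descend p.left @IsAffineHom (IsPullback.of_hasPullback p.left U.hom) inferInstance
  let Z : Over S := Over.mk (U.hom ≫ W.hom)
  let j : Z ⟶ W := Over.homMk U.hom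
  let Po : Over S := Over.mk (pullback.snd p.left U.hom ≫ Z.hom)
  let s : Po ⟶ Z := Over.homMk (pullback.snd p.left U.hom)
  let fw : Po ⟶ W' := Over.homMk (pullback.fst p.left U.hom) (by
    change pullback.fst p.left U.hom ≫ W'.hom = pullback.snd p.left U.hom ≫ U.hom ≫ W.hom
    rw [← Over.w p, reassoc_of% pullback.condition (f := p.left) (g := U.hom)])
  let Eo : Po ⟶ Z' := Over.homMk E (by
    change E ≫ Z'.hom = Po.hom
    rw [← Over.w π, reassoc_of% hE]
    exact Over.w fw)
  have hEo : Eo ≫ π = fw := Over.OverMorphism.ext hE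
  have hsq : fw ≫ p = s ≫ j := Over.OverMorphism.ext pullback.condition
  let η : G.obj (op Po) := G.map Eo.op ξ
  haveI : Flat s.left := inferInstanceAs (Flat (pullback.snd p.left U.hom))
  haveI : Surjective s.left := inferInstanceAs (Surjective (pullback.snd p.left U.hom))
  haveI : LocallyOfFinitePresentation s.left :=
    inferInstanceAs (LocallyOfFinitePresentation (pullback.snd p.left U.hom))
  -- canonical transport corresponds to the transport
  have comm : ∀ {T : Scheme.{u}} (v v' : T ⟶ P) (hv : v ≫ pullback.snd _ _ = v' ≫ pullback.snd _ _)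
      (hx : (v ≫ pullback.fst _ _) ≫ p.left = (v' ≫ pullback.fst _ _) ≫ p.left),
      v' ≫ E = (h.trans' _ _ hx ⟨v ≫ E, by rw [Category.assoc]; exact congrArg (v ≫ ·) hE⟩).1 := by
    intro T v v' hv hx
    have h1 := e.hom.comm _ _ hx ⟨v, rfl⟩ ⟨v ≫ E, by rw [Category.assoc]; exact congrArg (v ≫ ·) hE⟩ rfl
    have h2 : ((((toDD p.left).obj U).φ _ _ hx) ⟨v, rfl⟩).1 = v' :=
      pullback.hom_ext (pullback.lift_fst _ _ _) ((pullback.lift_snd _ _ _).trans hv)
    rw [h2] at h1
    exact h1.symm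
  have hcompat : ∀ {T : Over S} (v v' : T ⟶ Po), v ≫ s = v' ≫ s → G.map v.op η = G.map v'.op η := by
    intro T v v' hv
    have hl : v.left ≫ pullback.snd _ _ = v'.left ≫ pullback.snd _ _ := congrArg CommaMorphism.left hv
    have hx : (v.left ≫ pullback.fst _ _) ≫ p.left = (v'.left ≫ pullback.fst _ _) ≫ p.left := by
      rw [Category.assoc, Category.assoc, pullback.condition, reassoc_of% hl]
    obtain ⟨b, hb, hb1, hb2⟩ := h.liftHom_trans' _ _ hx
      ⟨v.left ≫ E, by rw [Category.assoc]; exact congrArg (v.left ≫ ·) hE⟩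
    let idh : T ⟶ Over.mk ((v.left ≫ pullback.fst p.left U.hom) ≫ W'.hom) := Over.homMk (𝟙 _) (by
      change 𝟙 _ ≫ (v.left ≫ pullback.fst p.left U.hom) ≫ W'.hom = T.hom
      rw [Category.id_comp, Category.assoc]
      exact (congrArg (v.left ≫ ·) (Over.w fw)).trans (Over.w v))
    have e1 : v ≫ Eo = idh ≫ liftHom π (⟨v.left ≫ E, by
        rw [Category.assoc]; exact congrArg (v.left ≫ ·) hE⟩ : Lifts (Over.mk π.left) (v.left ≫ pullback.fst p.left U.hom)) :=
      Over.OverMorphism.ext (Category.id_comp _).symm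
    have e2 : v' ≫ Eo = idh ≫ b := Over.OverMorphism.ext (by
      refine ((comm v.left v'.left hl hx).trans hb.symm).trans (Category.id_comp _).symm)
    simp only [η, ← FunctorToTypes.map_comp_apply, ← op_comp, e1, e2]
    rw [op_comp, op_comp, FunctorToTypes.map_comp_apply, FunctorToTypes.map_comp_apply, hb2]
  obtain ⟨g₀, hg₀, -⟩ := (Presieve.isSheafFor_singleton.1 (isSheafFor_singleton_over G hG s)) η
    (fun {T} v v' hv => hcompat v v' hv)
  have hqg : q.app (op Z) g₀ = j := by
    have h1 := ConcreteCategory.congr_hom (q.naturality s.op) g₀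
    simp only [types_comp_apply] at h1
    rw [hg₀] at h1
    have h2 : s ≫ q.app (op Z) g₀ = s ≫ j := by
      refine h1.symm.trans ((h.q_map Eo).trans ?_)
      rw [← Category.assoc, hEo, hsq]
    apply Over.OverMorphism.ext
    rw [← cancel_epi (pullback.snd p.left U.hom)]
    exact congrArg CommaMorphism.left h2
  have hq : ∀ {T : Over S} (z : T ⟶ Z), q.app (op T) (G.map z.op g₀) = z ≫ j := fun z => by
    have h1 := ConcreteCategory.congr_hom (q.naturality z.op) g₀
    simp only [types_comp_apply] at h1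
    exact h1.trans (congrArg (z ≫ ·) hqg)
  have hb : ∀ T : Over S, Function.Bijective (fun z : T ⟶ Z => G.map z.op g₀) := by
    intro T
    refine ⟨fun z z' hz => ?_, fun g => ?_⟩
    · have hzj : z ≫ j = z' ≫ j := (hq z).symm.trans ((congrArg (q.app (op T)) hz).trans (hq z'))
      let K := pullback p.left (z ≫ j).left
      let Ko : Over S := Over.mk (pullback.snd p.left (z ≫ j).left ≫ T.hom)
      let k : Ko ⟶ T := Over.homMk (pullback.snd p.left (z ≫ j).left)
      let x : Ko ⟶ W' := Over.homMk (pullback.fst p.left (z ≫ j).left) (by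
        change _ ≫ W'.hom = pullback.snd p.left (z ≫ j).left ≫ T.hom
        rw [← Over.w p, reassoc_of% pullback.condition (f := p.left) (g := (z ≫ j).left), Over.w (z ≫ j)])
      have hxk : x ≫ p = k ≫ z ≫ j := Over.OverMorphism.ext pullback.condition
      let mk' : ∀ w : T ⟶ Z, w ≫ j = z ≫ j → (Ko ⟶ Po) := fun w hw =>
        Over.homMk (pullback.lift x.left (k ≫ w).left (by
          rw [← hw] at hxk
          exact congrArg CommaMorphism.left (hxk.trans (Category.assoc _ _ _).symm))) (by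
          change pullback.lift _ _ _ ≫ pullback.snd p.left U.hom ≫ Z.hom = Ko.hom
          rw [pullback.lift_snd_assoc]
          exact Over.w (k ≫ w))
      have hs : ∀ w hw, mk' w hw ≫ s = k ≫ w := fun w hw => Over.OverMorphism.ext (pullback.lift_snd _ _ _)
      have hfw : ∀ w hw, mk' w hw ≫ fw = x := fun w hw => Over.OverMorphism.ext (pullback.lift_fst _ _ _)
      have e1 : mk' z rfl ≫ Eo = mk' z' hzj.symm ≫ Eo := by
        refine h.ext ?_ ?_
        · rw [Category.assoc, Category.assoc, hEo, hfw z rfl, hfw z' hzj.symm]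
        · rw [op_comp, op_comp, FunctorToTypes.map_comp_apply, FunctorToTypes.map_comp_apply]
          change G.map (mk' z rfl).op η = G.map (mk' z' hzj.symm).op η
          rw [← hg₀, ← FunctorToTypes.map_comp_apply, ← FunctorToTypes.map_comp_apply, ← op_comp, ← op_comp,
            hs z rfl, hs z' hzj.symm, op_comp, op_comp, FunctorToTypes.map_comp_apply, FunctorToTypes.map_comp_apply]
          exact congrArg (G.map k.op) hz
      have e2 : (mk' z rfl).left = (mk' z' hzj.symm).left := by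
        have e3 : (mk' z rfl).left ≫ E = (mk' z' hzj.symm).left ≫ E := congrArg CommaMorphism.left e1
        have e4 : ((mk' z rfl).left ≫ E) ≫ E' = ((mk' z' hzj.symm).left ≫ E) ≫ E' := congrArg (· ≫ E') e3
        rw [Category.assoc, Category.assoc, hEE'] at e4
        exact (Category.comp_id _).symm.trans (e4.trans (Category.comp_id _))
      apply Over.OverMorphism.ext
      rw [← cancel_epi (pullback.snd p.left (z ≫ j).left)]
      have e3 := congrArg (· ≫ pullback.snd p.left U.hom) e2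
      exact ((pullback.lift_snd _ _ _).symm.trans e3).trans (pullback.lift_snd _ _ _)
    · let w : T ⟶ W := q.app (op T) g
      let Ko : Over S := Over.mk (pullback.snd p.left w.left ≫ T.hom)
      let k : Ko ⟶ T := Over.homMk (pullback.snd p.left w.left)
      let x : Ko ⟶ W' := Over.homMk (pullback.fst p.left w.left) (by
        change _ ≫ W'.hom = pullback.snd p.left w.left ≫ T.hom
        rw [← Over.w p, reassoc_of% pullback.condition (f := p.left) (g := w.left), Over.w w])
      have hxk : q.app (op Ko) (G.map k.op g) = x ≫ p := by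
        have h1 := ConcreteCategory.congr_hom (q.naturality k.op) g
        simp only [types_comp_apply] at h1
        exact h1.trans (Over.OverMorphism.ext pullback.condition.symm)
      obtain ⟨v, ⟨hv1, hv2⟩, -⟩ := h.2 Ko _ x hxk
      let vP : Ko ⟶ Po := Over.homMk (v.left ≫ E') (by
        change (v.left ≫ E') ≫ Po.hom = Ko.hom
        rw [show Po.hom = pullback.fst p.left U.hom ≫ W'.hom from (Over.w fw).symm, Category.assoc,
          reassoc_of% hE']
        exact (congrArg (v.left ≫ ·) (Over.w π)).trans (Over.w v))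
      have hE'E : E' ≫ E = 𝟙 _ := by
        show e.inv.hom.left ≫ e.hom.hom.left = _
        rw [← Over.comp_left, ← SchDD.comp_hom, e.inv_hom_id]; rfl
      have hvP : vP ≫ Eo = v := Over.OverMorphism.ext (by
        change (v.left ≫ E') ≫ E = v.left
        rw [Category.assoc, hE'E, Category.comp_id])
      have hd : ∀ {R : Scheme.{u}} (a b : R ⟶ Ko.left), a ≫ k.left = b ≫ k.left →
          a ≫ (vP ≫ s).left = b ≫ (vP ≫ s).left := by
        intro R a b hab
        let Ro : Over S := Over.mk ((a ≫ k.left) ≫ T.hom)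
        let ao : Ro ⟶ Ko := Over.homMk a (by
          change a ≫ Ko.hom = (a ≫ k.left) ≫ T.hom
          exact (Category.assoc _ _ _).symm)
        let bo : Ro ⟶ Ko := Over.homMk b (by
          change b ≫ Ko.hom = (a ≫ k.left) ≫ T.hom
          rw [hab]; exact (Category.assoc _ _ _).symm)
        have hk' : ao ≫ k = bo ≫ k := Over.OverMorphism.ext hab
        have hξ : G.map (bo ≫ v).op ξ = G.map (ao ≫ v).op ξ := by
          rw [op_comp, op_comp, FunctorToTypes.map_comp_apply, FunctorToTypes.map_comp_apply, hv2,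
            ← FunctorToTypes.map_comp_apply, ← FunctorToTypes.map_comp_apply, ← op_comp, ← op_comp, hk']
        have hx0 : (a ≫ x.left) ≫ p.left = (b ≫ x.left) ≫ p.left := by
          rw [Category.assoc, Category.assoc,
            show x.left ≫ p.left = k.left ≫ w.left from pullback.condition, reassoc_of% hab]
        let va : Lifts (Over.mk π.left) (a ≫ x.left) :=
          ⟨a ≫ v.left, (Category.assoc _ _ _).trans (congrArg (a ≫ ·) (congrArg CommaMorphism.left hv1))⟩
        have hb1 : (bo ≫ v).left ≫ π.left = 𝟙 R ≫ b ≫ x.left := by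
          rw [Category.id_comp]
          exact (Category.assoc _ _ _).trans (congrArg (b ≫ ·) (congrArg CommaMorphism.left hv1))
        have key := h.trans'_val _ _ hx0 va (T' := Ro) (𝟙 R) (ao ≫ v) (bo ≫ v)
          (Category.id_comp _).symm hb1 hξ
        replace key := key.trans (Category.id_comp _)
        have hvaE : (a ≫ v.left ≫ E') ≫ pullback.fst p.left U.hom = a ≫ x.left := by
          rw [Category.assoc, Category.assoc, hE']
          exact congrArg (a ≫ ·) (congrArg CommaMorphism.left hv1)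
        have h1 := e.inv.comm _ _ hx0 va ⟨a ≫ v.left ≫ E', hvaE⟩ (Category.assoc _ _ _).symm
        have h2 := congrArg (· ≫ pullback.snd p.left U.hom) h1
        change pullback.lift _ ((a ≫ v.left ≫ E') ≫ pullback.snd p.left U.hom) _ ≫ pullback.snd p.left U.hom =
          ((h.trans' _ _ hx0 va).1 ≫ E') ≫ pullback.snd p.left U.hom at h2
        rw [pullback.lift_snd, ← key] at h2
        simpa [vP, s, bo] using h2
      haveI : EffectiveEpi k.left := inferInstanceAs (EffectiveEpi (pullback.snd p.left w.left))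
      let zl := EffectiveEpi.desc k.left (vP ≫ s).left (fun a b hab => hd a b hab)
      have hzl : k.left ≫ zl = (vP ≫ s).left := EffectiveEpi.fac _ _ _
      let z : T ⟶ Z := Over.homMk zl (by
        rw [← cancel_epi k.left, reassoc_of% hzl]
        exact (Over.w (vP ≫ s)).trans (Over.w k).symm)
      refine ⟨z, ?_⟩
      haveI : Flat k.left := inferInstanceAs (Flat (pullback.snd p.left w.left))
      haveI : Surjective k.left := inferInstanceAs (Surjective (pullback.snd p.left w.left))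
      haveI : LocallyOfFinitePresentation k.left :=
        inferInstanceAs (LocallyOfFinitePresentation (pullback.snd p.left w.left))
      refine (isSheafFor_singleton_over G hG k).isSeparatedFor.ext fun Y i hi => ?_
      obtain ⟨⟩ := hi
      have hkz : k ≫ z = vP ≫ s := Over.OverMorphism.ext hzl
      rw [← FunctorToTypes.map_comp_apply, ← op_comp, hkz, op_comp, FunctorToTypes.map_comp_apply, hg₀]
      simp only [η, ← FunctorToTypes.map_comp_apply, ← op_comp, hvP]
      exact hv2
  refine ⟨Z, j, { homEquiv := fun {T} => Equiv.ofBijective _ (hb T), homEquiv_comp := ?_ }, hUaff,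
    fun T z => hq z⟩
  intro T T' f z
  exact FunctorToTypes.map_comp_apply G _ _ _

end Groth.Agent.H15Magnet.AffineRep
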