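import Groth.Agent.H15Magnet.Chart
import Mathlib.AlgebraicGeometry.Morphisms.FormallyUnramified
import Mathlib.LinearAlgebra.TensorProduct.RightExactness

/-!
# Infinitesimal uniqueness for maps out of `A(N)_S ×_S T`
-/

set_option autoImplicit false
set_option linter.unusedSectionVars false
set_option linter.style.haveILetI false
set_option backward.isDefEq.respectTransparency false
set_option synthInstance.maxHeartbeats 200000

universe u

noncomputable section

open CategoryTheory CategoryTheory.Limits MonoidalCategory CartesianMonoidalCategory MonObj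
  AlgebraicGeometry Opposite Magnet
open scoped TensorProduct

namespace Groth.Agent.H15Magnet

attribute [local instance] ULift.algebra'

variable {S : Scheme.{u}} {N : Type} [AddCommMonoid N] {R R' : Type u} [CommRing R] [CommRing R']

/-- A ring map as a `ℤ`-algebra map. -/
def zAlg (q : R →+* R') : R →ₐ[Z.{u}] R' :=
  { q with commutes' := fun r => by simp }

/-- `ℤ[N] ⊗ R → ℤ[N] ⊗ R'`. -/
abbrev tensMap (N : Type) [AddCommMonoid N] (q : R →+* R') :
    CommRingCat.of (MonoidAlgebra (Z.{u}) (Multiplicative N) ⊗[Z.{u}] R) ⟶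
      CommRingCat.of (MonoidAlgebra (Z.{u}) (Multiplicative N) ⊗[Z.{u}] R') :=
  CommRingCat.ofHom (Algebra.TensorProduct.map
    (AlgHom.id (Z.{u}) (MonoidAlgebra (Z.{u}) (Multiplicative N))) (zAlg q)).toRingHom

/-- The map of bases attached to a ring map. -/
abbrev baseMap (str : Spec (CommRingCat.of R) ⟶ S) (q : R →+* R') :
    Over.mk (Spec.map (CommRingCat.ofHom q) ≫ str) ⟶ Over.mk str :=
  Over.homMk (Spec.map (CommRingCat.ofHom q)) rfl

lemma chart_whiskerLeft (str : Spec (CommRingCat.of R) ⟶ S) (q : R →+* R') :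
    (chart (Spec.map (CommRingCat.ofHom q) ≫ str) N).inv ≫ (AMonS S N ◁ baseMap str q).left =
      Spec.map (tensMap N q) ≫ (chart str N).inv := by
  apply (isPullback_amon N (Over.mk str)).hom_ext
  · have h := congrArg CommaMorphism.left (whiskerLeft_snd (AMonS S N) (baseMap str q))
    simp only [Over.comp_left] at h
    rw [Category.assoc, h, reassoc_of% chart_inv_snd, Category.assoc, chart_inv_snd]
    erw [← Spec.map_comp, ← Spec.map_comp]
    congr 1
  · rw [Category.assoc, fstA_whiskerLeft, chart_inv_fstA, Category.assoc, chart_inv_fstA]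
    erw [← Spec.map_comp]
    congr 1
    refine CommRingCat.hom_ext (RingHom.ext fun x => ?_)
    change x ⊗ₜ[Z.{u}] (1 : R') = Algebra.TensorProduct.map
      (AlgHom.id (Z.{u}) _) (zAlg q) (x ⊗ₜ[Z.{u}] (1 : R))
    rw [Algebra.TensorProduct.map_tmul, map_one]
    rfl

lemma tensMap_surjective (q : R →+* R') (hq : Function.Surjective q) :
    Function.Surjective (tensMap N q) :=
  Algebra.TensorProduct.map_surjective
    (AlgHom.id (Z.{u}) (MonoidAlgebra (Z.{u}) (Multiplicative N))) (zAlg q) (fun x => ⟨x, rfl⟩) hq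

lemma mul_eq_zero_of_mem_map {P Q : Type*} [CommRing P] [CommRing Q] (f : P →+* Q) {I : Ideal P}
    (hI : I ^ 2 = ⊥) {a b : Q} (ha : a ∈ Ideal.map f I) (hb : b ∈ Ideal.map f I) : a * b = 0 := by
  have m := Ideal.mul_mem_mul ha hb
  rw [← Ideal.map_mul, ← pow_two, hI, Ideal.map_bot] at m
  exact Ideal.mem_bot.1 m

/-- `ℤ[N] ⊗ R → ℤ[N] ⊗ R'` as a ring homomorphism. -/
abbrev tensHom (N : Type) [AddCommMonoid N] (q : R →+* R') :
    MonoidAlgebra (Z.{u}) (Multiplicative N) ⊗[Z.{u}] R →+*
      MonoidAlgebra (Z.{u}) (Multiplicative N) ⊗[Z.{u}] R' :=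
  (Algebra.TensorProduct.map
    (AlgHom.id (Z.{u}) (MonoidAlgebra (Z.{u}) (Multiplicative N))) (zAlg q)).toRingHom

lemma tensor_mul_eq_zero {K A B B' : Type*} [CommRing K] [CommRing A] [CommRing B] [CommRing B']
    [Algebra K A] [Algebra K B] [Algebra K B'] (g : B →ₐ[K] B') (hg : Function.Surjective g)
    (hI : RingHom.ker g ^ 2 = ⊥) {a b : A ⊗[K] B}
    (ha : Algebra.TensorProduct.map (AlgHom.id K A) g a = 0)
    (hb : Algebra.TensorProduct.map (AlgHom.id K A) g b = 0) : a * b = 0 := by
  have h := Algebra.TensorProduct.lTensor_ker (A := A) g hg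
  exact mul_eq_zero_of_mem_map (Algebra.TensorProduct.includeRight (R := K) (A := A)
    (B := B)).toRingHom hI ((SetLike.ext_iff.1 h a).1 ha) ((SetLike.ext_iff.1 h b).1 hb)

lemma tensHom_mul_eq_zero (q : R →+* R') (hq : Function.Surjective q)
    (hI : RingHom.ker q ^ 2 = ⊥)
    {a b : MonoidAlgebra (Z.{u}) (Multiplicative N) ⊗[Z.{u}] R}
    (ha : tensHom N q a = 0) (hb : tensHom N q b = 0) : a * b = 0 :=
  tensor_mul_eq_zero (zAlg q) hq hI ha hb

/-- Maps out of `A(N) × Spec R` are rigid along square-zero thickenings, over a formally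
unramified morphism. -/
lemma amon_hom_ext {X Y : Over S} (f : X ⟶ Y) [FormallyUnramified f.left]
    (str : Spec (CommRingCat.of R) ⟶ S) (q : R →+* R') (hq : Function.Surjective q)
    (hI : RingHom.ker q ^ 2 = ⊥) {g₁ g₂ : AMonS S N ⊗ Over.mk str ⟶ X}
    (h₁ : (AMonS S N ◁ baseMap str q) ≫ g₁ = (AMonS S N ◁ baseMap str q) ≫ g₂)
    (h₂ : g₁ ≫ f = g₂ ≫ f) : g₁ = g₂ := by
  apply Over.OverMorphism.ext
  rw [← cancel_epi (chart str N).inv]
  haveI := IsClosedImmersion.spec_of_surjective (tensMap N q) (tensMap_surjective q hq)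
  refine FormallyUnramified.hom_ext (Spec.map (tensMap N q)) ⟨2, ?_⟩ f.left ?_ ?_
  · rw [Scheme.ker_of_isAffine]
    have hk : RingHom.ker (Spec.map (tensMap N q)).appTop.hom ^ 2 = ⊥ := by
      rw [eq_bot_iff, pow_two, Ideal.mul_le]
      intro a ha b hb
      let e := Scheme.ΓSpecIso (CommRingCat.of (MonoidAlgebra (Z.{u}) (Multiplicative N) ⊗[Z.{u}] R))
      let ee : Γ(Spec (CommRingCat.of (MonoidAlgebra (Z.{u}) (Multiplicative N) ⊗[Z.{u}] R)), ⊤) →+*
          MonoidAlgebra (Z.{u}) (Multiplicative N) ⊗[Z.{u}] R := e.hom.hom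
      have key : ∀ c, (Spec.map (tensMap N q)).appTop c = 0 →
          tensHom N q (ee c) = 0 := fun c hc => by
        have := ConcreteCategory.congr_hom (Scheme.ΓSpecIso_naturality (tensMap N q)) c
        rw [ConcreteCategory.comp_apply, ConcreteCategory.comp_apply, hc, map_zero] at this
        exact this.symm
      have hab : ee (a * b) = 0 := by
        rw [map_mul ee]
        exact tensHom_mul_eq_zero q hq hI (key a ha) (key b hb)
      exact (ConcreteCategory.bijective_of_isIso e.hom).1 (hab.trans (map_zero ee).symm)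
    ext U : 2
    simp [← Ideal.map_pow, hk]
  · rw [← reassoc_of% (chart_whiskerLeft str q), ← reassoc_of% (chart_whiskerLeft str q)]
    exact congrArg (fun m => (chart (Spec.map (CommRingCat.ofHom q) ≫ str) N).inv ≫ m)
      (congrArg CommaMorphism.left h₁)
  · rw [Category.assoc, Category.assoc]
    exact congrArg (fun m => (chart str N).inv ≫ m) (congrArg CommaMorphism.left h₂)

end Groth.Agent.H15Magnet

namespace Groth.Agent.H15Magnet

/-- Points of the attractor are rigid along square-zero thickenings, over a formally unramified map. -/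
lemma attr_lift_unique {S : Scheme.{u}} {M : Type} [AddCommMonoid M] (N : AddSubmonoid M) {X Y : Over S}
    (aX : MonAct (AMonS S M) X) (f : X ⟶ Y) [FormallyUnramified f.left] {R R' : Type u} [CommRing R]
    [CommRing R'] (str : Spec (CommRingCat.of R) ⟶ S) (q : R →+* R') (hq : Function.Surjective q)
    (hI : RingHom.ker q ^ 2 = ⊥) (l₁ l₂ : (attr aX N).obj (op (Over.mk str)))
    (htop : (attr aX N).map (baseMap str q).op l₁ = (attr aX N).map (baseMap str q).op l₂)
    (hbot : l₁.1 ≫ f = l₂.1 ≫ f) : l₁ = l₂ :=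
  Subtype.ext (amon_hom_ext f str q hq hI (congrArg Subtype.val htop) hbot)

end Groth.Agent.H15Magnet
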