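import Groth.Agent.H15Magnet.Factor
import Groth.Agent.H15Magnet.Unram

/-!
# The ideal cutting out an attractor in an affine scheme over `S`
-/

set_option autoImplicit false
set_option linter.unusedSectionVars false
set_option linter.style.haveILetI false
set_option backward.isDefEq.respectTransparency false
set_option backward.isDefEq.respectTransparency.types false

universe u

noncomputable section

open CategoryTheory CategoryTheory.Limits MonoidalCategory CartesianMonoidalCategory MonObj
  AlgebraicGeometry Opposite Magnet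
open scoped TensorProduct

namespace Groth.Agent.H15Magnet

attribute [local instance] ULift.algebra'

variable {S : Scheme.{u}} {M P : Type} [AddCommMonoid M] [AddCommMonoid P] {R R' : Type u} [CommRing R]
  [CommRing R']

/-- The coefficient of `Xᵐ`. -/
def coefAt (m : M) : MonoidAlgebra (Z.{u}) (Multiplicative M) ⊗[Z.{u}] R →ₗ[Z.{u}] R :=
  TensorProduct.lid (Z.{u}) R ∘ₗ TensorProduct.map
    ((MonoidAlgebra.basis (Multiplicative M) (Z.{u})).coord (Multiplicative.ofAdd m)) LinearMap.id

lemma coefAt_tmul (m : M) (b : MonoidAlgebra (Z.{u}) (Multiplicative M)) (r : R) :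
    coefAt m (b ⊗ₜ[Z.{u}] r) =
      ((MonoidAlgebra.basis (Multiplicative M) (Z.{u})).coord (Multiplicative.ofAdd m) b) • r := by
  simp [coefAt]

lemma eq_zero_of_coefAt (v : MonoidAlgebra (Z.{u}) (Multiplicative M) ⊗[Z.{u}] R)
    (h : ∀ m : M, coefAt m v = 0) : v = 0 := by
  classical
  let b := MonoidAlgebra.basis (Multiplicative M) (Z.{u})
  let E := (TensorProduct.congr b.repr (LinearEquiv.refl (Z.{u}) R)).trans
    (TensorProduct.finsuppScalarLeft (Z.{u}) R (Multiplicative M))
  refine E.injective (Finsupp.ext fun m => ?_)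
  rw [map_zero, Finsupp.zero_apply, ← h m.toAdd]
  refine LinearMap.congr_fun (?_ : (Finsupp.lapply m).comp E.toLinearMap = coefAt m.toAdd) v
  refine TensorProduct.ext' fun x r => ?_
  simp [E, b, coefAt_tmul]

lemma coefAt_map (m : M) (q : R →+* R') (v : MonoidAlgebra (Z.{u}) (Multiplicative M) ⊗[Z.{u}] R) :
    coefAt m (Algebra.TensorProduct.map (AlgHom.id (Z.{u}) _) (zAlg q) v) = q (coefAt m v) := by
  induction v using TensorProduct.induction_on with
  | zero => simp
  | tmul x r =>
    rw [Algebra.TensorProduct.map_tmul, coefAt_tmul, coefAt_tmul, AlgHom.id_apply]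
    exact ((zAlg q).toLinearMap.map_smul _ r).symm
  | add x y hx hy => simp [map_add, hx, hy]

lemma coefAt_monProj (N : AddSubmonoid M) (m : M) [Decidable (m ∈ N)]
    (v : MonoidAlgebra (Z.{u}) (Multiplicative M) ⊗[Z.{u}] R) :
    coefAt m (TensorProduct.map (monProj.{u} N) LinearMap.id v) = if m ∈ N then coefAt m v else 0 := by
  classical
  let b := MonoidAlgebra.basis (Multiplicative M) (Z.{u})
  have key : b.coord (Multiplicative.ofAdd m) ∘ₗ monProj.{u} N =
      if m ∈ N then b.coord (Multiplicative.ofAdd m) else 0 := by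
    refine b.ext fun p => ?_
    rw [LinearMap.comp_apply, show b p = MonoidAlgebra.single p 1 by simp [b], monProj_single]
    by_cases hp : p = Multiplicative.ofAdd m
    · rw [hp, toAdd_ofAdd]
      split_ifs with hm <;> simp [b]
    · have : (b.repr (MonoidAlgebra.single p 1)) (Multiplicative.ofAdd m) = 0 := by
        rw [show MonoidAlgebra.single p (1 : Z.{u}) = b p by simp [b], b.repr_self, Finsupp.single_eq_of_ne (Ne.symm hp)]
      split_ifs <;> simp [this]
  induction v using TensorProduct.induction_on with
  | zero => simp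
  | tmul x r =>
    rw [TensorProduct.map_tmul, coefAt_tmul, coefAt_tmul, LinearMap.id_apply,
      show b.coord (Multiplicative.ofAdd m) (monProj.{u} N x) = _ from LinearMap.congr_fun key x]
    split_ifs <;> simp [b]
  | add x y hx hy => simp only [map_add, hx, hy]; split_ifs <;> simp

lemma mem_range_iff (N : AddSubmonoid M) (v : MonoidAlgebra (Z.{u}) (Multiplicative M) ⊗[Z.{u}] R) :
    v ∈ Set.range (Algebra.TensorProduct.map (monMap.{u} N.subtype) (AlgHom.id (Z.{u}) R)) ↔
      ∀ m : M, m ∉ N → coefAt m v = 0 := by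
  classical
  constructor
  · intro h m hm
    rw [← monProj_eq_self N h, coefAt_monProj, if_neg hm]
  · intro h
    have : TensorProduct.map (monProj.{u} N) LinearMap.id v = v := by
      refine sub_eq_zero.1 (eq_zero_of_coefAt _ fun m => ?_)
      rw [map_sub, coefAt_monProj]
      split_ifs with hm
      · exact sub_self _
      · rw [h m hm, sub_self]
    rw [← this]
    exact monProj_mem_range N v

variable {X : Over S}

/-- The ideal of coefficients outside `N` of the orbit map of a point. -/
theorem exists_coef_ideal [IsAffineHom X.hom] (a : MonAct (AMonS S M) X) (N : AddSubmonoid M)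
    (str : Spec (CommRingCat.of R) ⟶ S) (x : Over.mk str ⟶ X) :
    ∃ c : Ideal R, ∀ (R' : Type u) [CommRing R'] (q : R →+* R'),
      (∃ φ : (attr a N).obj (op (Over.mk (Spec.map (CommRingCat.ofHom q) ≫ str))),
        (attrToX a N).app _ φ = baseMap str q ≫ x) ↔ c ≤ RingHom.ker q := by
  classical
  let W := pullback X.hom str
  haveI : IsAffine W := isAffine_of_isAffineHom (pullback.snd X.hom str)
  let ω : Spec (CommRingCat.of (MonoidAlgebra (Z.{u}) (Multiplicative M) ⊗[Z.{u}] R)) ⟶ W :=
    pullback.lift ((chart str M).inv ≫ ((AMonS S M ◁ x) ≫ a.act).left)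
      ((chart str M).inv ≫ (snd (AMonS S M) (Over.mk str)).left) (by
        rw [Category.assoc, Over.w, Category.assoc]
        congr 1
        exact (Over.w (snd (AMonS S M) (Over.mk str))).symm)
  let θ : Γ(W, ⊤) ⟶ CommRingCat.of (MonoidAlgebra (Z.{u}) (Multiplicative M) ⊗[Z.{u}] R) :=
    ω.appTop ≫ (Scheme.ΓSpecIso _).hom
  refine ⟨Ideal.span {r | ∃ (e : Γ(W, ⊤)) (m : M), m ∉ N ∧ coefAt m (θ e) = r}, fun R' _ q => ?_⟩
  let str' := Spec.map (CommRingCat.ofHom q) ≫ str
  let inclM : CommRingCat.of (MonoidAlgebra (Z.{u}) (Multiplicative N) ⊗[Z.{u}] R') ⟶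
      CommRingCat.of (MonoidAlgebra (Z.{u}) (Multiplicative M) ⊗[Z.{u}] R') :=
    CommRingCat.ofHom (Algebra.TensorProduct.map (monMap.{u} N.subtype) (AlgHom.id (Z.{u}) R')).toRingHom
  let x' := baseMap str q ≫ x
  have hω' : Spec.map (tensMap M q) ≫ ω ≫ pullback.fst _ _ =
      (chart str' M).inv ≫ ((AMonS S M ◁ x') ≫ a.act).left := by
    rw [pullback.lift_fst, ← reassoc_of% (chart_whiskerLeft (N := M) str q), ← Over.comp_left]
    simp only [x', MonoidalCategory.whiskerLeft_comp, Category.assoc]
    rfl
  rw [Ideal.span_le]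
  constructor
  · rintro ⟨φ, hφ⟩ r ⟨e, m, hm, rfl⟩
    rw [SetLike.mem_coe, RingHom.mem_ker, ← coefAt_map]
    refine (mem_range_iff N _).1 ?_ m hm
    have hfac := factor_of_eq a N _ φ _ hφ
    let θ' : Spec (CommRingCat.of (MonoidAlgebra (Z.{u}) (Multiplicative N) ⊗[Z.{u}] R')) ⟶ W :=
      pullback.lift ((chart str' N).inv ≫ φ.1.left)
        ((chart str' N).inv ≫ (snd (AMonS S N) (Over.mk str')).left ≫ Spec.map (CommRingCat.ofHom q)) (by
          rw [Category.assoc, Over.w, Category.assoc, Category.assoc]
          congr 1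
          exact (Over.w (snd (AMonS S N) (Over.mk str'))).symm)
    have hcomm : Spec.map (tensMap M q) ≫ ω = Spec.map inclM ≫ θ' := by
      apply pullback.hom_ext
      · rw [Category.assoc, hω', Category.assoc, pullback.lift_fst,
          ← reassoc_of% (chart_map str' N.subtype)]
        exact congrArg (fun f => (chart str' M).inv ≫ f) (congrArg CommaMorphism.left hfac.symm)
      · simp only [ω, θ', inclM, Category.assoc, pullback.lift_snd, chart_inv_snd,
          reassoc_of% chart_inv_snd, ← Spec.map_comp]
        refine congrArg Spec.map (CommRingCat.hom_ext (RingHom.ext fun r => ?_))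
        simp [tensMap, zAlg]
    have := congrArg (fun f => f.appTop ≫ (Scheme.ΓSpecIso _).hom) hcomm
    simp only [Scheme.Hom.comp_appTop, Category.assoc, Scheme.ΓSpecIso_naturality] at this
    exact ⟨_, (ConcreteCategory.congr_hom this e).symm⟩
  · intro hle
    obtain ⟨ψ, hψ⟩ := exists_factor_affine inclM (monMap_tensor_injective _ Subtype.val_injective)
      (Spec.map (tensMap M q) ≫ ω) (fun e => by
        refine (mem_range_iff N _).2 fun m hm => ?_
        have : (Spec.map (tensMap M q) ≫ ω).appTop ≫ (Scheme.ΓSpecIso _).hom = θ ≫ tensMap M q := by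
          simp only [θ, Scheme.Hom.comp_appTop, Category.assoc, Scheme.ΓSpecIso_naturality]
        rw [this]
        change coefAt m (Algebra.TensorProduct.map (AlgHom.id (Z.{u}) _) (zAlg q) (θ e)) = 0
        rw [coefAt_map]
        exact hle ⟨e, m, hm, rfl⟩)
    let Ψ : AMonS S N ⊗ Over.mk str' ⟶ X := Over.homMk ((chart str' N).hom ≫ ψ ≫ pullback.fst _ _) (by
      have hsnd : ψ ≫ pullback.snd _ _ = (chart str' N).inv ≫
          (snd (AMonS S N) (Over.mk str')).left ≫ Spec.map (CommRingCat.ofHom q) := by
        obtain ⟨α, hα⟩ := Spec.map_surjective (ψ ≫ pullback.snd X.hom str)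
        rw [← hα, reassoc_of% chart_inv_snd, ← Spec.map_comp]
        refine congrArg Spec.map (CommRingCat.hom_ext (RingHom.ext fun r =>
          monMap_tensor_injective (R := R') N.subtype Subtype.val_injective ?_))
        have e1 : Spec.map inclM ≫ Spec.map α = Spec.map (tensMap M q) ≫ (chart str M).inv ≫
            (snd (AMonS S M) (Over.mk str)).left := by
          rw [hα, reassoc_of% hψ, pullback.lift_snd]
        rw [chart_inv_snd, ← Spec.map_comp, ← Spec.map_comp] at e1
        exact (ConcreteCategory.congr_hom (Spec.map_injective e1) r).trans (by simp [tensMap, zAlg])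
      rw [Category.assoc, Category.assoc, pullback.condition, reassoc_of% hsnd, Iso.hom_inv_id_assoc]
      exact Over.w (snd (AMonS S N) (Over.mk str')))
    obtain ⟨p, -, hp⟩ := exists_attr_of_factor a N _ x' Ψ (by
      apply Over.OverMorphism.ext
      rw [← cancel_epi (chart str' M).inv, Over.comp_left, reassoc_of% (chart_map str' _)]
      simp only [Ψ, Over.homMk_left, Iso.inv_hom_id_assoc]
      exact ((reassoc_of% hψ) (pullback.fst _ _)).trans hω')
    exact ⟨p, hp⟩

end Groth.Agent.H15Magnet
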