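import Groth.Agent.H15Magnet.GlobalPt
import Groth.Agent.H15Magnet.Coef

/-!
# `B`-points of `A(N)_S ×_S Spec R` as pairs of a character and a ring map
-/

set_option autoImplicit false
set_option linter.unusedSectionVars false
set_option linter.style.haveILetI false
set_option backward.isDefEq.respectTransparency false
set_option backward.isDefEq.respectTransparency.types false

universe u

noncomputable section

open CategoryTheory CategoryTheory.Limits MonoidalCategory CartesianMonoidalCategory MonObj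
  AlgebraicGeometry Opposite Magnet
open scoped TensorProduct

namespace Groth.Agent.H15Magnet

attribute [local instance] ULift.algebra'

variable {S : Scheme.{u}} {M : Type} [AddCommMonoid M] {R B B' B'' : Type u} [CommRing R] [CommRing B]
  [CommRing B'] [CommRing B''] (str : Spec (CommRingCat.of R) ⟶ S)

/-- `Spec B` over `S` through `φ : R → B`. -/
abbrev PB (φ : R →+* B) : Over S := Over.mk (Spec.map (CommRingCat.ofHom φ) ≫ str)

/-- The morphism attached to a map of `R`-algebras. -/
def spR {φ : R →+* B} {φ' : R →+* B'} (g : B →+* B') (h : g.comp φ = φ') : PB str φ' ⟶ PB str φ :=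
  Over.homMk (Spec.map (CommRingCat.ofHom g)) (by
    change Spec.map _ ≫ Spec.map _ ≫ str = Spec.map _ ≫ str
    rw [← Spec.map_comp_assoc, ← CommRingCat.ofHom_comp, h])

@[simp] theorem spR_left {φ : R →+* B} {φ' : R →+* B'} (g : B →+* B') (h : g.comp φ = φ') :
    (spR str g h).left = Spec.map (CommRingCat.ofHom g) := rfl

theorem spR_comp {φ : R →+* B} {φ' : R →+* B'} {φ'' : R →+* B''} (g : B →+* B') (g' : B' →+* B'')
    (h : g.comp φ = φ') (h' : g'.comp φ' = φ'') :
    spR str g' h' ≫ spR str g h = spR str (g'.comp g) (by rw [RingHom.comp_assoc, h, h']) := by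
  apply Over.OverMorphism.ext
  simp

theorem spR_congr {φ : R →+* B} {φ' : R →+* B'} {g g' : B →+* B'} (e : g = g') (h : g.comp φ = φ')
    (h' : g'.comp φ = φ') : spR str g h = spR str g' h' := by
  subst e; rfl

/-- The structure point. -/
def tpR (φ : R →+* B) : PB str φ ⟶ Over.mk str := Over.homMk (Spec.map (CommRingCat.ofHom φ))

theorem spR_tpR {φ : R →+* B} {φ' : R →+* B'} (g : B →+* B') (h : g.comp φ = φ') :
    spR str g h ≫ tpR str φ = tpR str φ' := by
  apply Over.OverMorphism.ext
  simp only [tpR, Over.comp_left, spR_left, Over.homMk_left]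
  rw [← Spec.map_comp, ← CommRingCat.ofHom_comp, h]

theorem spR_mpt {φ : R →+* B} {φ' : R →+* B'} (g : B →+* B') (h : g.comp φ = φ')
    (χ : Multiplicative M →* B) :
    spR str g h ≫ mpt _ χ = mpt _ (g.toMonoidHom.comp χ) := by
  refine amonS_hom_ext ?_
  rw [Over.comp_left, Category.assoc, mpt_fst, mpt_fst, spR_left, ← Spec.map_comp, ← CommRingCat.ofHom_comp,
    comp_charRingHom]

/-- The point `(χ, φ)` of `A(M) × Spec R`. -/
def PtR (χ : Multiplicative M →* B) (φ : R →+* B) : PB str φ ⟶ AMonS S M ⊗ Over.mk str :=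
  lift (mpt _ χ) (tpR str φ)

theorem spR_PtR {φ : R →+* B} {φ' : R →+* B'} (g : B →+* B') (h : g.comp φ = φ')
    (χ : Multiplicative M →* B) :
    spR str g h ≫ PtR str χ φ = PtR str (g.toMonoidHom.comp χ) φ' := by
  rw [PtR, comp_lift, spR_mpt, spR_tpR]
  rfl

variable (M R) in
/-- `ℤ[M] ⊗ R`. -/
abbrev RM : Type u := MonoidAlgebra (Z.{u}) (Multiplicative M) ⊗[Z.{u}] R

variable (M R) in
/-- The universal character. -/
def uchi : Multiplicative M →* RM M R :=
  (Algebra.TensorProduct.includeLeftRingHom (R := Z.{u}) (A := MonoidAlgebra (Z.{u}) (Multiplicative M))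
    (B := R)).toMonoidHom.comp (MonoidAlgebra.of (Z.{u}) (Multiplicative M))

variable (M R) in
/-- The universal map of bases. -/
def uphi : R →+* RM M R :=
  (Algebra.TensorProduct.includeRight (R := Z.{u}) (A := MonoidAlgebra (Z.{u}) (Multiplicative M))
    (B := R)).toRingHom

theorem uchi_apply (m : Multiplicative M) :
    uchi M R m = MonoidAlgebra.single m (1 : Z.{u}) ⊗ₜ[Z.{u}] (1 : R) := rfl

theorem uphi_apply (r : R) :
    uphi M R r = (1 : MonoidAlgebra (Z.{u}) (Multiplicative M)) ⊗ₜ[Z.{u}] r := rfl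

theorem single_tmul (m : Multiplicative M) (r : R) :
    MonoidAlgebra.single m (1 : Z.{u}) ⊗ₜ[Z.{u}] r = uchi M R m * uphi M R r := by
  rw [uchi_apply, uphi_apply, Algebra.TensorProduct.tmul_mul_tmul, _root_.mul_one, _root_.one_mul]

/-- Ring maps out of `ℤ[M] ⊗ R` are determined by their values on the universal pair. -/
theorem rm_ext {g g' : RM M R →+* B} (h1 : ∀ m, g (uchi M R m) = g' (uchi M R m))
    (h2 : ∀ r, g (uphi M R r) = g' (uphi M R r)) : g = g' := by
  refine Algebra.TensorProduct.ringHom_ext (charRingHom_ext fun m => h1 m) ?_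
  exact RingHom.ext h2

/-- The ring map of a pair. -/
def evR (χ : Multiplicative M →* B) (φ : R →+* B) : RM M R →+* B :=
  (Algebra.TensorProduct.lift (R := Z.{u}) (S := Z.{u})
    (MonoidAlgebra.lift (Z.{u}) B (Multiplicative M) χ) (zAlg φ) fun _ _ => Commute.all _ _).toRingHom

theorem evR_uchi (χ : Multiplicative M →* B) (φ : R →+* B) (m : Multiplicative M) :
    evR χ φ (uchi M R m) = χ m := by
  simp [evR, uchi_apply, zAlg]

theorem evR_uphi (χ : Multiplicative M →* B) (φ : R →+* B) (r : R) : evR χ φ (uphi M R r) = φ r := by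
  simp [evR, uphi_apply, zAlg]

theorem evR_comp_uphi (χ : Multiplicative M →* B) (φ : R →+* B) : (evR χ φ).comp (uphi M R) = φ :=
  RingHom.ext (evR_uphi χ φ)

theorem evR_comp_uchi (χ : Multiplicative M →* B) (φ : R →+* B) :
    (evR χ φ).toMonoidHom.comp (uchi M R) = χ :=
  MonoidHom.ext (evR_uchi χ φ)

theorem comp_evR (g : B →+* B') (χ : Multiplicative M →* B) (φ : R →+* B) :
    g.comp (evR χ φ) = evR (g.toMonoidHom.comp χ) (g.comp φ) :=
  rm_ext (fun m => by simp [evR_uchi]) (fun r => by simp [evR_uphi])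

theorem evR_self : evR (B := RM M R) (uchi M R) (uphi M R) = RingHom.id (RM M R) :=
  rm_ext (fun m => by simp [evR_uchi]) (fun r => by simp [evR_uphi])

/-- The universal point is the chart. -/
theorem PtR_univ_left : (PtR str (B := RM M R) (uchi M R) (uphi M R)).left = (chart str M).inv := by
  apply (isPullback_amon M (Over.mk str)).hom_ext
  · rw [chart_inv_snd, ← Over.comp_left, PtR, lift_snd]
    rfl
  · rw [chart_inv_fstA, fstA, ← Category.assoc, ← Over.comp_left, PtR, lift_fst, mpt_fst]
    refine congrArg Spec.map (CommRingCat.hom_ext (charRingHom_ext fun m => ?_))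
    simp [uchi]

theorem isIso_PtR_left : IsIso (PtR str (B := RM M R) (uchi M R) (uphi M R)).left :=
  Eq.mpr (congrArg (fun k => IsIso k) (PtR_univ_left str)) (inferInstance : IsIso (chart str M).inv)

instance : IsIso (PtR str (B := RM M R) (uchi M R) (uphi M R)) :=
  haveI : IsIso ((Over.forget S).map (PtR str (B := RM M R) (uchi M R) (uphi M R))) := isIso_PtR_left str
  isIso_of_reflects_iso _ (Over.forget S)

/-- Morphisms out of `A(M) ×_S T` agree if they agree on pairs of a character and a point. -/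
theorem tensor_ext {T X : Over S} {f g : AMonS S M ⊗ T ⟶ X}
    (h : ∀ (B : Type u) [CommRing B] (y : Spec (CommRingCat.of B) ⟶ S) (χ : Multiplicative M →* B)
      (t : Over.mk y ⟶ T), lift (mpt y χ) t ≫ f = lift (mpt y χ) t ≫ g) : f = g := by
  apply Over.OverMorphism.ext
  refine (AMonS S M ⊗ T).left.affineCover.hom_ext _ _ fun i => ?_
  let j := (AMonS S M ⊗ T).left.affineCover.f i
  let y := j ≫ (AMonS S M ⊗ T).hom
  let jo : Over.mk y ⟶ AMonS S M ⊗ T := Over.homMk j
  obtain ⟨χ, hχ⟩ := mpt_surjective y (jo ≫ fst _ _)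
  have e := h _ y χ (jo ≫ snd _ _)
  rw [hχ, lift_comp_fst_snd] at e
  exact congrArg CommaMorphism.left e

/-- An affine point of `Spec R` over `S`. -/
theorem exists_tpR (y : Spec (CommRingCat.of B) ⟶ S) (t : Over.mk y ⟶ Over.mk str) :
    ∃ (φ : R →+* B) (_ : y = Spec.map (CommRingCat.ofHom φ) ≫ str),
      HEq t (tpR str φ) := by
  obtain ⟨φ, hφ⟩ := Spec.map_surjective t.left
  have e : y = Spec.map (CommRingCat.ofHom φ.hom) ≫ str := by
    rw [CommRingCat.ofHom_hom, hφ]
    exact (Over.w t).symm
  refine ⟨φ.hom, e, ?_⟩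
  subst e
  exact heq_of_eq (Over.OverMorphism.ext hφ.symm)

end Groth.Agent.H15Magnet
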