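import Groth.Prelude.Def_Magnet2
import Mathlib.AlgebraicGeometry.Morphisms.Separated
import Mathlib.AlgebraicGeometry.Morphisms.ClosedImmersion
import Mathlib.AlgebraicGeometry.IdealSheaf.Functorial
import Mathlib.AlgebraicGeometry.Pullbacks
import Mathlib.LinearAlgebra.TensorProduct.Tower

/-!
# Affine charts of `A(N)_S ×_S T`, and extension of identities from `A(M)` to `A(N)`
-/

set_option autoImplicit false
set_option linter.unusedSectionVars false
set_option linter.style.haveILetI false
set_option backward.isDefEq.respectTransparency false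

universe u

noncomputable section

open CategoryTheory CategoryTheory.Limits MonoidalCategory CartesianMonoidalCategory MonObj
  AlgebraicGeometry Opposite Magnet
open scoped TensorProduct

namespace Groth.Agent.H15Magnet

variable {S : Scheme.{u}} {M N : Type} [AddCommMonoid M] [AddCommMonoid N]

/-- The coefficient ring `ℤ`. -/
abbrev Z : Type u := ULift.{u} ℤ

attribute [local instance] ULift.algebra'

/-- The map to `Spec ℤ`. -/
abbrev toZ (S : Scheme.{u}) : S ⟶ Spec (CommRingCat.of (Z.{u})) :=
  Limits.IsTerminal.from specULiftZIsTerminal S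

/-- The projection `A(N)_S ×_S T ⟶ Spec ℤ[N]`. -/
def fstA (N : Type) [AddCommMonoid N] (T : Over S) :
    (AMonS S N ⊗ T).left ⟶ (AMon (Z.{u}) N).left :=
  (fst (AMonS S N) T).left ≫ pullback.fst _ _

lemma isPullback_amon (N : Type) [AddCommMonoid N] (T : Over S) :
    IsPullback (snd (AMonS S N) T).left (fstA N T) (T.hom ≫ toZ S) (AMon (Z.{u}) N).hom :=
  (IsPullback.of_hasPullback (AMonS S N).hom T.hom).flip.paste_vert
    (IsPullback.of_hasPullback (AMon (Z.{u}) N).hom (toZ S)).flip

lemma fstA_map (f : N →+ M) (T : Over S) :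
    (AMonS.map S f ▷ T).left ≫ fstA N T = fstA M T ≫ (AMon.map (Z.{u}) f).left := by
  have h := congrArg CommaMorphism.left (whiskerRight_fst (AMonS.map S f) T)
  simp only [Over.comp_left] at h
  rw [fstA, fstA, reassoc_of% h, Category.assoc]
  congr 1
  exact pullback.lift_fst _ _ _

lemma fstA_whiskerLeft (N : Type) [AddCommMonoid N] {T T' : Over S} (t : T' ⟶ T) :
    (AMonS S N ◁ t).left ≫ fstA N T = fstA N T' := by
  have h := congrArg CommaMorphism.left (whiskerLeft_fst (AMonS S N) t)
  simp only [Over.comp_left] at h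
  rw [fstA, fstA, reassoc_of% h]

section Affine

variable {R : Type u} [CommRing R] (str : Spec (CommRingCat.of R) ⟶ S)

/-- The chart `A(N)_S ×_S Spec R ≅ Spec (ℤ[N] ⊗ R)`. -/
def chart (N : Type) [AddCommMonoid N] :
    (AMonS S N ⊗ Over.mk str).left ≅
      Spec (CommRingCat.of (MonoidAlgebra (Z.{u}) (Multiplicative N) ⊗[Z.{u}] R)) :=
  (isPullback_amon N (Over.mk str)).flip.isoPullback ≪≫
    pullback.congrHom rfl (specULiftZIsTerminal.hom_ext ((Over.mk str).hom ≫ toZ S)
      (Spec.map (CommRingCat.ofHom (algebraMap (Z.{u}) R)))) ≪≫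
    pullbackSpecIso _ _ _

lemma chart_inv_fstA (N : Type) [AddCommMonoid N] :
    (chart str N).inv ≫ fstA N (Over.mk str) =
      Spec.map (CommRingCat.ofHom Algebra.TensorProduct.includeLeftRingHom) := by
  simp only [chart, Iso.trans_inv, Category.assoc]
  rw [IsPullback.isoPullback_inv_fst, pullback.congrHom_inv]
  erw [pullback.lift_fst]
  rw [Category.comp_id]
  exact pullbackSpecIso_inv_fst _ _ _

lemma chart_inv_snd (N : Type) [AddCommMonoid N] :
    (chart str N).inv ≫ (snd (AMonS S N) (Over.mk str)).left =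
      Spec.map (CommRingCat.ofHom (Algebra.TensorProduct.includeRight (R := Z.{u})
        (A := MonoidAlgebra (Z.{u}) (Multiplicative N)) (B := R)).toRingHom) := by
  simp only [chart, Iso.trans_inv, Category.assoc]
  rw [IsPullback.isoPullback_inv_snd, pullback.congrHom_inv]
  erw [pullback.lift_snd]
  rw [Category.comp_id]
  exact pullbackSpecIso_inv_snd _ _ _

/-- The algebra map `ℤ[N] → ℤ[M]`. -/
abbrev monMap (f : N →+ M) :
    MonoidAlgebra (Z.{u}) (Multiplicative N) →ₐ[Z.{u}] MonoidAlgebra (Z.{u}) (Multiplicative M) :=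
  (MonoidAlgebra.mapDomainBialgHom (Z.{u}) (AddMonoidHom.toMultiplicative f)).toAlgHom

lemma chart_map (f : N →+ M) :
    (chart str M).inv ≫ (AMonS.map S f ▷ Over.mk str).left =
      Spec.map (CommRingCat.ofHom
        (Algebra.TensorProduct.map (monMap.{u} f) (AlgHom.id (Z.{u}) R)).toRingHom) ≫
        (chart str N).inv := by
  apply (isPullback_amon N (Over.mk str)).hom_ext
  · have h := congrArg CommaMorphism.left (whiskerRight_snd (AMonS.map S f) (Over.mk str))
    simp only [Over.comp_left] at h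
    rw [Category.assoc, h, chart_inv_snd, Category.assoc, chart_inv_snd, ← Spec.map_comp,
      ← CommRingCat.ofHom_comp]
    congr 2
    ext r
    simp
  · rw [Category.assoc, fstA_map, reassoc_of% chart_inv_fstA, Category.assoc, chart_inv_fstA,
      AMon.map_left, ← Spec.map_comp]
    erw [← Spec.map_comp]
    rw [← CommRingCat.ofHom_comp, ← CommRingCat.ofHom_comp]
    congr 2

lemma monMap_tensor_injective (f : N →+ M) (hf : Function.Injective f) :
    Function.Injective (Algebra.TensorProduct.map (monMap.{u} f) (AlgHom.id (Z.{u}) R)) := by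
  let g := (monMap.{u} f).toLinearMap
  have hg : Function.Injective g := MonoidAlgebra.mapDomain_injective (fun a b h => hf h)
  obtain ⟨r, hr⟩ : ∃ r : MonoidAlgebra (Z.{u}) (Multiplicative M) →ₗ[Z.{u}]
      MonoidAlgebra (Z.{u}) (Multiplicative N), r ∘ₗ g = LinearMap.id := by
    classical
    let f' := AddMonoidHom.toMultiplicative f
    have hf' : Function.Injective f' := fun a b h => hf h
    refine ⟨(MonoidAlgebra.basis (Multiplicative M) (Z.{u})).constr (Z.{u}) (fun m =>
      if h : ∃ n, f' n = m then MonoidAlgebra.single h.choose 1 else 0), ?_⟩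
    refine (MonoidAlgebra.basis (Multiplicative N) (Z.{u})).ext fun n => ?_
    have hb : g (MonoidAlgebra.basis (Multiplicative N) (Z.{u}) n) =
        MonoidAlgebra.basis (Multiplicative M) (Z.{u}) (f' n) := by simp [g, monMap, f']
    simp only [LinearMap.comp_apply, hb, Module.Basis.constr_basis, LinearMap.id_apply]
    have h : ∃ n', f' n' = f' n := ⟨n, rfl⟩
    rw [dif_pos h, hf' h.choose_spec]
    simp
  intro a b h
  have e : (TensorProduct.map r (LinearMap.id (R := Z.{u}) (M := R))) ∘ₗ
      (TensorProduct.map g LinearMap.id) = LinearMap.id := by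
    rw [← TensorProduct.map_comp, hr, LinearMap.id_comp, TensorProduct.map_id]
  have ha := LinearMap.congr_fun e a
  have hb := LinearMap.congr_fun e b
  simp only [LinearMap.comp_apply, LinearMap.id_apply] at ha hb
  rw [← ha, ← hb]
  exact congrArg _ h

end Affine

lemma ker_SpecMap_eq_bot {P Q : CommRingCat.{u}} (φ : P ⟶ Q) (hφ : Function.Injective φ) :
    (Spec.map φ).ker = ⊥ := by
  rw [Scheme.ker_of_isAffine]
  have : RingHom.ker (Spec.map φ).appTop.hom = ⊥ := by
    rw [← RingHom.injective_iff_ker_eq_bot]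
    intro a b h
    have key : ∀ c, φ ((Scheme.ΓSpecIso P).hom c) = (Scheme.ΓSpecIso Q).hom ((Spec.map φ).appTop c) :=
      fun c => (ConcreteCategory.congr_hom (Scheme.ΓSpecIso_naturality φ) c).symm
    have hab : (Scheme.ΓSpecIso P).hom a = (Scheme.ΓSpecIso P).hom b :=
      hφ (by rw [key, key]; exact congrArg _ h)
    exact (ConcreteCategory.bijective_of_isIso (Scheme.ΓSpecIso P).hom).1 hab
  rw [this]
  ext U : 2
  simp

/-- Maps to a separated scheme agreeing on `Spec Q` agree on `Spec P` for `P ⊆ Q`. -/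
lemma ext_of_injective {P Q : CommRingCat.{u}} (φ : P ⟶ Q) (hφ : Function.Injective φ) {X : Scheme.{u}}
    (p : X ⟶ S) [IsSeparated p] {f g : Spec P ⟶ X} (hS : f ≫ p = g ≫ p)
    (h : Spec.map φ ≫ f = Spec.map φ ≫ g) : f = g := by
  let k : Spec P ⟶ pullback p p := pullback.lift f g hS
  let e : pullback (pullback.diagonal p) k ⟶ Spec P := pullback.snd _ _
  have hk : (Spec.map φ ≫ f) ≫ pullback.diagonal p = Spec.map φ ≫ k := by
    apply pullback.hom_ext <;> simp [k, h]
  let l := pullback.lift (Spec.map φ ≫ f) (Spec.map φ) hk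
  have he : e.ker = ⊥ := by
    refine le_bot_iff.1 ?_
    rw [← ker_SpecMap_eq_bot φ hφ, show Spec.map φ = l ≫ e from (pullback.lift_snd _ _ _).symm]
    exact Scheme.Hom.le_ker_comp _ _
  haveI : IsIso e := IsClosedImmersion.isIso_iff_ker_eq_bot.2 he
  have h1 : e ≫ k = pullback.fst _ _ ≫ pullback.diagonal p := (pullback.condition).symm
  have h2 := congrArg (fun m => inv e ≫ m ≫ pullback.fst p p) h1
  have h3 := congrArg (fun m => inv e ≫ m ≫ pullback.snd p p) h1
  simp [k] at h2 h3
  exact (cancel_epi e).1 (h2.trans h3.symm)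

/-- Maps out of `A(N)_S ×_S T` are determined on affine pieces of `T`. -/
lemma hom_ext_chart {T X : Over S} {φ ψ : AMonS S N ⊗ T ⟶ X}
    (h : ∀ (R : Type u) [CommRing R] (str : Spec (CommRingCat.of R) ⟶ S) (j : Over.mk str ⟶ T),
      (AMonS S N ◁ j) ≫ φ = (AMonS S N ◁ j) ≫ ψ) : φ = ψ := by
  apply Over.OverMorphism.ext
  refine Scheme.hom_ext_of_forall _ _ fun z => ?_
  obtain ⟨V, hV, hzV, -⟩ := exists_isAffineOpen_mem_and_subset
    (x := (snd (AMonS S N) T).left z) (U := ⊤) trivial
  let R : Type u := Γ(T.left, V)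
  let str : Spec (CommRingCat.of R) ⟶ S := hV.fromSpec ≫ T.hom
  let j : Over.mk str ⟶ T := Over.homMk hV.fromSpec rfl
  let W : (AMonS S N ⊗ T).left.Opens := (snd (AMonS S N) T).left ⁻¹ᵁ V
  refine ⟨W, hzV, ?_⟩
  let w : (W : Scheme.{u}) ⟶ (Over.mk str).left := ((snd (AMonS S N) T).left ∣_ V) ≫ hV.isoSpec.hom
  have hw : w ≫ hV.fromSpec = W.ι ≫ (snd (AMonS S N) T).left := by
    simp [w, W, IsAffineOpen.isoSpec_hom_fromSpec]
  have hl : w ≫ (Over.mk str).hom ≫ toZ S = (W.ι ≫ fstA N T) ≫ (AMon (Z.{u}) N).hom :=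
    specULiftZIsTerminal.hom_ext _ _
  let l := (isPullback_amon N (Over.mk str)).lift w (W.ι ≫ fstA N T) hl
  have hj : l ≫ (AMonS S N ◁ j).left = W.ι := by
    apply (isPullback_amon N T).hom_ext
    · have e := congrArg CommaMorphism.left (whiskerLeft_snd (AMonS S N) j)
      simp only [Over.comp_left] at e
      rw [Category.assoc, e, IsPullback.lift_fst_assoc]
      exact hw
    · rw [Category.assoc, fstA_whiskerLeft, IsPullback.lift_snd]
  have e := congrArg CommaMorphism.left (h R str j)
  simp only [Over.comp_left] at e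
  rw [← hj, Category.assoc, Category.assoc, e]

/-- Identities extend from `A(M)_S ×_S T` to `A(N)_S ×_S T` into a separated target. -/
lemma amap_ext (f : N →+ M) (hf : Function.Injective f) {T X : Over S} [IsSeparated X.hom]
    {φ ψ : AMonS S N ⊗ T ⟶ X} (h : (AMonS.map S f ▷ T) ≫ φ = (AMonS.map S f ▷ T) ≫ ψ) : φ = ψ := by
  refine hom_ext_chart fun R _ str j => ?_
  apply Over.OverMorphism.ext
  rw [← cancel_epi (chart str N).inv]
  let φR : CommRingCat.of (MonoidAlgebra (Z.{u}) (Multiplicative N) ⊗[Z.{u}] R) ⟶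
      CommRingCat.of (MonoidAlgebra (Z.{u}) (Multiplicative M) ⊗[Z.{u}] R) :=
    CommRingCat.ofHom (Algebra.TensorProduct.map (monMap.{u} f) (AlgHom.id (Z.{u}) R)).toRingHom
  have hinj : Function.Injective φR := fun a b h => monMap_tensor_injective (R := R) f hf h
  refine ext_of_injective φR hinj X.hom ?_ ?_
  · simp only [Category.assoc, Over.w]
  · rw [← reassoc_of% (chart_map str f), ← reassoc_of% (chart_map str f)]
    have e : (AMonS.map S f ▷ Over.mk str) ≫ (AMonS S N ◁ j) ≫ φ =
        (AMonS.map S f ▷ Over.mk str) ≫ (AMonS S N ◁ j) ≫ ψ := by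
      rw [← whisker_exchange_assoc, ← whisker_exchange_assoc, h]
    exact congrArg (fun m => (chart str M).inv ≫ m) (congrArg CommaMorphism.left e)

end Groth.Agent.H15Magnet
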