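import Groth.Agent.H15Magnet.Coef
import Mathlib.AlgebraicGeometry.IdealSheaf.Subscheme

/-!
# The attractor as a closed subscheme
-/

set_option autoImplicit false
set_option linter.unusedSectionVars false
set_option linter.style.haveILetI false
set_option backward.isDefEq.respectTransparency false
set_option backward.isDefEq.respectTransparency.types false

universe u

noncomputable section

open CategoryTheory CategoryTheory.Limits MonoidalCategory CartesianMonoidalCategory MonObj
  AlgebraicGeometry Opposite Magnet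

namespace Groth.Agent.H15Magnet

variable {S : Scheme.{u}} {M : Type} [AddCommMonoid M] {X : Over S} (a : MonAct (AMonS S M) X)
  (N : AddSubmonoid M)

/-- A morphism of schemes into `X` is a point of the attractor. -/
def InA {T : Scheme.{u}} (g : T ⟶ X.left) : Prop :=
  ∃ φ : (attr a N).obj (op (Over.mk (g ≫ X.hom))),
    (attrToX a N).app _ φ = (Over.homMk g : Over.mk (g ≫ X.hom) ⟶ X)

lemma inA_iff {T : Over S} (x : T ⟶ X) :
    (∃ φ : (attr a N).obj (op T), (attrToX a N).app _ φ = x) ↔ InA a N x.left := by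
  let e : T ≅ Over.mk (x.left ≫ X.hom) := Over.isoMk (Iso.refl _) (by simp)
  constructor
  · rintro ⟨φ, hφ⟩
    refine ⟨(attr a N).map e.inv.op φ, (toX_map a N e.inv φ).trans ?_⟩
    rw [hφ]
    apply Over.OverMorphism.ext
    simp [e]
  · rintro ⟨φ, hφ⟩
    refine ⟨(attr a N).map e.hom.op φ, (toX_map a N e.hom φ).trans ?_⟩
    rw [hφ]
    apply Over.OverMorphism.ext
    simp [e]

lemma inA_comp {T T' : Scheme.{u}} (h : T' ⟶ T) {g : T ⟶ X.left} (hg : InA a N g) : InA a N (h ≫ g) := by
  obtain ⟨φ, hφ⟩ := hg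
  let j : Over.mk ((h ≫ g) ≫ X.hom) ⟶ Over.mk (g ≫ X.hom) := Over.homMk h (Category.assoc _ _ _).symm
  refine ⟨(attr a N).map j.op φ, (toX_map a N j φ).trans ?_⟩
  rw [hφ]
  rfl

lemma inA_of_cover [IsSeparated X.hom] {T : Scheme.{u}} (g : T ⟶ X.left) (𝒰 : T.OpenCover)
    (h : ∀ i, InA a N (𝒰.f i ≫ g)) : InA a N g :=
  exists_attr_of_cover a N (Over.mk (g ≫ X.hom)) (Over.homMk g) 𝒰 fun i =>
    (inA_iff a N _).2 (h i)

variable [IsAffineHom X.hom]

lemma exists_ideal {R : Type u} [CommRing R] (g : Spec (CommRingCat.of R) ⟶ X.left) :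
    ∃ c : Ideal R, ∀ (R' : Type u) [CommRing R'] (q : R →+* R'),
      InA a N (Spec.map (CommRingCat.ofHom q) ≫ g) ↔ c ≤ RingHom.ker q := by
  obtain ⟨c, hc⟩ := exists_coef_ideal a N (g ≫ X.hom) (Over.homMk g)
  exact ⟨c, fun R' _ q => (inA_iff a N (baseMap (g ≫ X.hom) q ≫ Over.homMk g)).symm.trans (hc R' q)⟩

/-- The ideal on an affine open. -/
def coefIdeal (W : X.left.affineOpens) : Ideal Γ(X.left, W) :=
  (exists_ideal a N W.2.fromSpec).choose

lemma coefIdeal_spec (W : X.left.affineOpens) (R' : Type u) [CommRing R'] (q : Γ(X.left, W) →+* R') :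
    InA a N (Spec.map (CommRingCat.ofHom q) ≫ W.2.fromSpec) ↔ coefIdeal a N W ≤ RingHom.ker q :=
  (exists_ideal a N W.2.fromSpec).choose_spec R' q

lemma map_coefIdeal {V W : X.left.affineOpens} (h : V.1 ≤ W.1) :
    (coefIdeal a N W).map (X.left.presheaf.map (homOfLE h).op).hom = coefIdeal a N V := by
  let ρ := (X.left.presheaf.map (homOfLE h).op).hom
  have key : ∀ (R' : Type u) [CommRing R'] (q : Γ(X.left, V) →+* R'),
      coefIdeal a N V ≤ RingHom.ker q ↔ (coefIdeal a N W).map ρ ≤ RingHom.ker q := fun R' _ q => by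
    rw [← coefIdeal_spec, Ideal.map_le_iff_le_comap, RingHom.comap_ker, ← coefIdeal_spec,
      ← W.2.map_fromSpec V.2 (homOfLE h).op, ← Spec.map_comp_assoc]
    rfl
  refine le_antisymm ?_ ?_
  · have := (key _ (Ideal.Quotient.mk (coefIdeal a N V))).1 (by rw [Ideal.mk_ker])
    rwa [Ideal.mk_ker] at this
  · have := (key _ (Ideal.Quotient.mk ((coefIdeal a N W).map ρ))).2 (by rw [Ideal.mk_ker])
    rwa [Ideal.mk_ker] at this

/-- The ideal sheaf of the attractor. -/
def attrIdeal : X.left.IdealSheafData where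
  ideal := coefIdeal a N
  map_ideal_basicOpen W f := map_coefIdeal a N (V := X.left.affineBasicOpen f) (X.left.basicOpen_le f)

lemma inA_subschemeι : InA a N (attrIdeal a N).subschemeι := by
  refine inA_of_cover a N _ (attrIdeal a N).subschemeCover.openCover fun W => ?_
  have h : InA a N ((attrIdeal a N).subschemeCover.f W ≫ (attrIdeal a N).subschemeι) := by
    rw [Scheme.IdealSheafData.subschemeCover_map_subschemeι,
      Scheme.IdealSheafData.glueDataObjι_ι]
    exact (coefIdeal_spec a N W _ _).2 (le_of_eq Ideal.mk_ker.symm)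
  exact h

lemma attrIdeal_le_ker {T : Scheme.{u}} {g : T ⟶ X.left} (hg : InA a N g) : attrIdeal a N ≤ g.ker := by
  refine Scheme.IdealSheafData.le_ofIdeals_iff.2 fun W e he => ?_
  rw [RingHom.mem_ker]
  refine TopCat.Sheaf.eq_of_locally_eq' T.sheaf
    (fun x : ↥(g ⁻¹ᵁ W.1) => (exists_isAffineOpen_mem_and_subset x.2).choose) _
    (fun x => homOfLE (exists_isAffineOpen_mem_and_subset x.2).choose_spec.2.2)
    (fun y hy => TopologicalSpace.Opens.mem_iSup.2
      ⟨⟨y, hy⟩, (exists_isAffineOpen_mem_and_subset hy).choose_spec.2.1⟩) _ _ fun x => ?_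
  rw [map_zero]
  obtain ⟨hV, -, hVW⟩ := (exists_isAffineOpen_mem_and_subset x.2).choose_spec
  have h1 : InA a N (Spec.map (CommRingCat.ofHom (g.appLE W.1 _ hVW).hom) ≫ W.2.fromSpec) := by
    rw [CommRingCat.ofHom_hom, IsAffineOpen.SpecMap_appLE_fromSpec g W.2 hV hVW]
    exact inA_comp a N _ hg
  exact (coefIdeal_spec a N W _ _).1 h1 he

theorem exists_closed : ∃ (Z : Over S) (i : Z ⟶ X) (e : (attr a N).RepresentableBy Z),
    IsClosedImmersion i.left ∧
      ∀ (T : Over S) (z : T ⟶ Z), (attrToX a N).app (op T) (e.homEquiv z) = z ≫ i := by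
  let Z : Over S := Over.mk ((attrIdeal a N).subschemeι ≫ X.hom)
  let i : Z ⟶ X := Over.homMk (attrIdeal a N).subschemeι
  obtain ⟨p, hp⟩ : ∃ p : (attr a N).obj (op Z), (attrToX a N).app _ p = i := inA_subschemeι a N
  haveI : IsClosedImmersion i.left := inferInstanceAs (IsClosedImmersion (attrIdeal a N).subschemeι)
  have hi : ∀ (T : Over S) (z : T ⟶ Z), (attrToX a N).app (op T) ((attr a N).map z.op p) = z ≫ i :=
    fun T z => (toX_map a N z p).trans (congrArg (z ≫ ·) hp)
  have hb : ∀ T : Over S, Function.Bijective (fun z : T ⟶ Z => (attr a N).map z.op p) := by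
    refine fun T => ⟨fun z z' h => ?_, fun φ => ?_⟩
    · have : Mono i := (Over.forget S).mono_of_mono_map (by dsimp; infer_instance)
      rw [← cancel_mono i, ← hi, ← hi]
      exact congrArg _ h
    · let x : T ⟶ X := (attrToX a N).app _ φ
      have hle : (attrIdeal a N).subschemeι.ker ≤ x.left.ker := by
        rw [Scheme.IdealSheafData.ker_subschemeι]
        exact attrIdeal_le_ker a N ((inA_iff a N x).1 ⟨φ, rfl⟩)
      let z : T ⟶ Z := Over.homMk (IsClosedImmersion.lift (attrIdeal a N).subschemeι x.left hle) (by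
        refine (Category.assoc _ _ _).symm.trans ?_
        rw [IsClosedImmersion.lift_fac, Over.w])
      refine ⟨z, attrToX_injective a N T ((hi T z).trans ?_)⟩
      apply Over.OverMorphism.ext
      exact IsClosedImmersion.lift_fac _ _ _
  exact ⟨Z, i,
    { homEquiv := fun {T} => Equiv.ofBijective _ (hb T)
      homEquiv_comp := fun {T T'} f z => by
        change (attr a N).map (f ≫ z).op p = (attr a N).map f.op ((attr a N).map z.op p)
        rw [op_comp, Functor.map_comp]
        rfl },
    inferInstance, hi⟩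

end Groth.Agent.H15Magnet
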