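import Groth.Agent.H15Magnet.Chart

/-!
# `X^N ⟶ X` is injective for separated `X`
-/

set_option autoImplicit false
set_option linter.unusedSectionVars false
set_option linter.style.haveILetI false
set_option backward.isDefEq.respectTransparency false

universe u

noncomputable section

open CategoryTheory MonoidalCategory CartesianMonoidalCategory MonObj AlgebraicGeometry Opposite Magnet

namespace Groth.Agent.H15Magnet

variable {S : Scheme.{u}} {M : Type} [AddCommMonoid M] {X : Over S}

/-- An equivariant map restricted along `A(M) ⟶ A(N)` is the orbit map of its value at `1`. -/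
lemma restrict_eq_orbit (a : MonAct (AMonS S M) X) (N : AddSubmonoid M) (T : Over S)
    (φ : (attr a N).obj (op T)) :
    (AMonS.map S N.subtype ▷ T) ≫ φ.1 = (AMonS S M ◁ ((attrToX a N).app (op T) φ)) ≫ a.act := by
  refine Magnet.hom_ext_lift₂ fun T' g t => ?_
  have h := (MonAct.mem_eqvHom_iff φ.1).1 φ.2 T' g (toUnit T' ≫ η[AMonS S N]) t
  simp only [subAct] at h
  rw [MonAct.lift_restrict_act, ← Hom.one_def, MonAct.lift_regular_act, _root_.mul_one, Hom.one_def] at h
  rw [lift_whiskerRight_assoc, h, lift_whiskerLeft_assoc]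
  congr 2
  change lift (toUnit T' ≫ η[AMonS S N]) t ≫ φ.1 = t ≫ lift (toUnit T ≫ η[AMonS S N]) (𝟙 T) ≫ φ.1
  rw [comp_lift_assoc, Category.comp_id, ← Category.assoc t, comp_toUnit]

lemma attrToX_injective [IsSeparated X.hom] (a : MonAct (AMonS S M) X) (N : AddSubmonoid M)
    (T : Over S) : Function.Injective (fun φ => (attrToX a N).app (op T) φ) := by
  intro φ ψ h
  refine Subtype.ext (amap_ext N.subtype Subtype.val_injective ?_)
  rw [restrict_eq_orbit, restrict_eq_orbit]
  exact congrArg (fun x => (AMonS S M ◁ x) ≫ a.act) h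

lemma attrMap_comp_attrToX (a : MonAct (AMonS S M) X) {N L : AddSubmonoid M} (h : N ≤ L)
    (T : Over S) (φ : (attr a N).obj (op T)) :
    (attrToX a L).app (op T) ((attrMap a h).app (op T) φ) = (attrToX a N).app (op T) φ := by
  change lift (toUnit T ≫ η[AMonS S L]) (𝟙 T) ≫ ((AMonS.map S (AddSubmonoid.inclusion h)) ▷ T) ≫ φ.1 =
    lift (toUnit T ≫ η[AMonS S N]) (𝟙 T) ≫ φ.1
  rw [lift_whiskerRight_assoc, ← Hom.one_def, MonObj.one_comp, ← Hom.one_def]

end Groth.Agent.H15Magnet
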