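import Groth.Agent.H15Magnet.Points
import Groth.Agent.H15Magnet.Mono
import Mathlib.AlgebraicGeometry.Morphisms.Flat
import Mathlib.RingTheory.Flat.FaithfullyFlat.Algebra
import Mathlib.LinearAlgebra.Finsupp.VectorSpace

/-!
# `A(P) ⟶ A(N)` for a free `N`-set `P`
-/

set_option autoImplicit false
set_option linter.unusedSectionVars false
set_option linter.style.haveILetI false
set_option backward.isDefEq.respectTransparency false
set_option backward.isDefEq.respectTransparency.types false

universe u

noncomputable section

open CategoryTheory CategoryTheory.Limits MonoidalCategory CartesianMonoidalCategory MonObj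
  AlgebraicGeometry Opposite Magnet

namespace Groth.Agent.H15Magnet

variable {N P : Type} [AddCommMonoid N] [AddCommMonoid P]

/-- `P` is a free `N`-set through `h`. -/
def IsFreeOrbit (h : N →+ P) : Prop :=
  ∃ (I : Type) (_ : Nonempty I) (s : I → P), Function.Bijective fun x : I × N => s x.1 + h x.2

theorem faithfullyFlat_monMap (h : N →+ P) (hh : IsFreeOrbit h) :
    letI := (monMap.{u} h).toRingHom.toAlgebra
    Module.FaithfullyFlat (MonoidAlgebra (Z.{u}) (Multiplicative N))
      (MonoidAlgebra (Z.{u}) (Multiplicative P)) := by
  classical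
  letI := (monMap.{u} h).toRingHom.toAlgebra
  obtain ⟨I, _, s, hs⟩ := hh
  let A := MonoidAlgebra (Z.{u}) (Multiplicative N)
  let b : I → MonoidAlgebra (Z.{u}) (Multiplicative P) := fun i =>
    MonoidAlgebra.single (Multiplicative.ofAdd (s i)) 1
  let L := Finsupp.linearCombination A b
  let e : (Σ _ : I, Multiplicative N) ≃ Multiplicative P :=
    (Equiv.sigmaEquivProd I (Multiplicative N)).trans
      (((Equiv.refl I).prodCongr Multiplicative.toAdd).trans
        ((Equiv.ofBijective _ hs).trans Multiplicative.ofAdd))
  let L' := (Finsupp.basis fun _ : I => MonoidAlgebra.basis (Multiplicative N) (Z.{u})).equiv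
    (MonoidAlgebra.basis (Multiplicative P) (Z.{u})) e
  have hL : ∀ f, L f = L' f := by
    intro f
    induction f using Finsupp.induction_linear with
    | zero => rw [map_zero, map_zero]
    | add f g hf hg => rw [map_add, map_add, hf, hg]
    | single i a =>
      induction a using MonoidAlgebra.induction_linear with
      | zero => rw [Finsupp.single_zero, map_zero, map_zero]
      | add x y hx hy => rw [Finsupp.single_add, map_add, map_add, hx, hy]
      | single n c =>
        have h1 : Finsupp.single i (MonoidAlgebra.single n c) = c •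
            (Finsupp.basis fun _ : I => MonoidAlgebra.basis (Multiplicative N) (Z.{u})) ⟨i, n⟩ := by
          rw [Finsupp.coe_basis]
          simp
        conv_rhs => rw [h1, map_smul, Module.Basis.equiv_apply]
        rw [Finsupp.linearCombination_single]
        change monMap.{u} h (MonoidAlgebra.single n c) * MonoidAlgebra.single (Multiplicative.ofAdd (s i)) 1 =
          c • MonoidAlgebra.basis (Multiplicative P) (Z.{u}) (e ⟨i, n⟩)
        simp [e, monMap, Equiv.ofBijective, ofAdd_add, mul_comm]
  have hbij : Function.Bijective L := by
    have : (L : (I →₀ A) → _) = L' := funext hL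
    rw [this]
    exact L'.bijective
  exact Module.FaithfullyFlat.of_linearEquiv A (I →₀ A) (LinearEquiv.ofBijective L hbij).symm

variable {S : Scheme.{u}}

theorem flat_amon_map (h : N →+ P) (hh : IsFreeOrbit h) : Flat (AMon.map (Z.{u}) h).left := by
  rw [AMon.map_left]
  change Flat (Spec.map _)
  rw [Flat.SpecMap_iff]
  letI := (monMap.{u} h).toRingHom.toAlgebra
  haveI := faithfullyFlat_monMap.{u} h hh
  exact RingHom.flat_algebraMap_iff.2
    (inferInstance : Module.Flat (MonoidAlgebra (Z.{u}) (Multiplicative N))
      (MonoidAlgebra (Z.{u}) (Multiplicative P)))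

theorem surjective_amon_map (h : N →+ P) (hh : IsFreeOrbit h) :
    Surjective (AMon.map (Z.{u}) h).left := by
  rw [AMon.map_left]
  letI := (monMap.{u} h).toRingHom.toAlgebra
  haveI := faithfullyFlat_monMap.{u} h hh
  exact ⟨PrimeSpectrum.comap_surjective_of_faithfullyFlat
    (A := MonoidAlgebra (Z.{u}) (Multiplicative N)) (B := MonoidAlgebra (Z.{u}) (Multiplicative P))⟩

lemma isPullback_map_whisker (h : N →+ P) (T : Over S) :
    IsPullback (AMonS.map S h ▷ T).left (fstA P T) (fstA N T) (AMon.map (Z.{u}) h).left := by
  refine IsPullback.of_right ?_ (fstA_map h T) (isPullback_amon N T).flip.flip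
  have e1 : (AMonS.map S h ▷ T).left ≫ (snd (AMonS S N) T).left = (snd (AMonS S P) T).left :=
    congrArg CommaMorphism.left (whiskerRight_snd (AMonS.map S h) T)
  rw [e1, Over.w (AMon.map (Z.{u}) h)]
  exact isPullback_amon P T

theorem flat_map_whisker (h : N →+ P) (hh : IsFreeOrbit h) (T : Over S) :
    Flat (AMonS.map S h ▷ T).left :=
  MorphismProperty.of_isPullback (isPullback_map_whisker h T).flip (flat_amon_map h hh)

theorem surjective_map_whisker (h : N →+ P) (hh : IsFreeOrbit h) (T : Over S) :
    Surjective (AMonS.map S h ▷ T).left :=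
  MorphismProperty.of_isPullback (isPullback_map_whisker h T).flip (surjective_amon_map h hh)

theorem quasiCompact_map_whisker (h : N →+ P) (T : Over S) :
    QuasiCompact (AMonS.map S h ▷ T).left := by
  haveI : QuasiCompact (AMon.map (Z.{u}) h).left := by
    rw [AMon.map_left]
    change QuasiCompact (Spec.map _)
    infer_instance
  exact MorphismProperty.of_isPullback (isPullback_map_whisker h T).flip this

theorem epi_map_whisker (h : N →+ P) (hh : IsFreeOrbit h) (T : Over S) : Epi (AMonS.map S h ▷ T) := by
  haveI := flat_map_whisker h hh T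
  haveI := surjective_map_whisker h hh T
  haveI := Flat.epi_of_flat_of_surjective (AMonS.map S h ▷ T).left
  exact ⟨fun a b e => Over.OverMorphism.ext ((cancel_epi _).1 (congrArg CommaMorphism.left e))⟩

end Groth.Agent.H15Magnet
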