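import Groth.Agent.H15Magnet.Factor
import Groth.Agent.H15Magnet.FreeCover
import Groth.Prelude.Def_Magnet3
import Groth.Agent.H19Grp.Quotient

/-!
# Change of monoid for attractors of groups
-/

set_option autoImplicit false
set_option linter.unusedSectionVars false
set_option linter.style.haveILetI false
set_option backward.isDefEq.respectTransparency false
set_option backward.isDefEq.respectTransparency.types false

universe u

noncomputable section

open CategoryTheory CategoryTheory.Limits MonoidalCategory CartesianMonoidalCategory MonObj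
  AlgebraicGeometry Opposite Magnet

namespace Groth.Agent.H15Magnet

variable {S : Scheme.{u}}

lemma mpt_injective {U : Scheme.{u}} {M : Type} [AddCommMonoid M] {B : Type u} [CommRing B]
    (y : Spec (CommRingCat.of B) ⟶ U) : Function.Injective (mpt (M := M) y) := by
  intro χ χ' h
  have e := congrArg (fun f => CommaMorphism.left f ≫ pullback.fst (AMon (Z.{u}) M).hom (toZ U)) h
  simp only [mpt_fst] at e
  refine MonoidHom.ext fun m => ?_
  have := congrArg (fun f => CommRingCat.Hom.hom f (MonoidAlgebra.single m 1)) (Spec.map_injective e)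
  simpa using this

lemma amonS_ext_pts {M : Type} [AddCommMonoid M] {W : Over S} {F G : AMonS S M ⟶ W}
    (h : ∀ (B : Type u) [CommRing B] (y : Spec (CommRingCat.of B) ⟶ S) (χ : Multiplicative M →* B),
      mpt y χ ≫ F = mpt y χ ≫ G) : F = G := by
  apply Over.OverMorphism.ext
  refine (AMonS S M).left.affineCover.hom_ext _ _ fun i => ?_
  let j := (AMonS S M).left.affineCover.f i
  let y := j ≫ (AMonS S M).hom
  let jo : Over.mk y ⟶ AMonS S M := Over.homMk j rfl
  suffices hs : jo ≫ F = jo ≫ G from congrArg CommaMorphism.left hs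
  obtain ⟨χ, hχ⟩ := mpt_surjective y jo
  rw [← hχ]
  exact h _ y χ

lemma amonS_map_id (M : Type) [AddCommMonoid M] : AMonS.map S (AddMonoidHom.id M) = 𝟙 _ :=
  amonS_ext_pts fun B _ y χ => by
    rw [mpt_map, Category.comp_id]
    rfl

lemma amonS_map_zero (N M : Type) [AddCommMonoid N] [AddCommMonoid M] :
    AMonS.map S (0 : N →+ M) = toUnit _ ≫ η[AMonS S N] :=
  amonS_ext_pts fun B _ y χ => by
    obtain ⟨χ₁, hχ₁⟩ := mpt_surjective (M := M) y (toUnit (Over.mk y) ≫ η[AMonS S M])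
    rw [mpt_map, ← Category.assoc, comp_toUnit, ← IsMonHom.one_hom (f := AMonS.map S (0 : N →+ M)),
      ← Category.assoc, ← hχ₁, mpt_map]
    refine congrArg (mpt y) (MonoidHom.ext fun m => ?_)
    change χ (Multiplicative.ofAdd (0 : M)) = χ₁ (Multiplicative.ofAdd (0 : M))
    rw [ofAdd_zero, map_one, map_one]

lemma subsingleton_pts {N : Type} [AddCommMonoid N] [Subsingleton N] (T : Over S) (p : T ⟶ AMonS S N) :
    p = toUnit T ≫ η[AMonS S N] := by
  have h : AMonS.map S (AddMonoidHom.id N) = AMonS.map S (0 : N →+ N) :=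
    congrArg _ (AddMonoidHom.ext fun _ => Subsingleton.elim _ _)
  rw [amonS_map_id, amonS_map_zero] at h
  rw [← Category.comp_id p, h, ← Category.assoc, comp_toUnit]

variable {M Zg : Type} [AddCommGroup M] [AddCommGroup Zg] {X : Over S} (a : MonAct (AMonS S M) X)
  (f : M →+ Zg) (Y : AddSubmonoid Zg)

/-- `N → Y`. -/
abbrev gN : (Y.comap f) →+ Y := (f.comp (Y.comap f).subtype).codRestrict Y (fun x => x.2)

/-- `N → M × Y`. -/
abbrev hN : (Y.comap f) →+ M × Y := (Y.comap f).subtype.prod (gN f Y)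

variable {f Y}

lemma isFreeOrbit_hN (hY : Y ≤ AddMonoidHom.mrange f) : IsFreeOrbit (hN f Y) := by
  classical
  choose s hs using fun i : f.range => AddMonoidHom.mem_range.1 i.2
  refine ⟨f.range, inferInstance, fun i => (s i, 0), ?_, ?_⟩
  · rintro ⟨i, n⟩ ⟨i', n'⟩ h
    simp only [Prod.ext_iff, Prod.fst_add, Prod.snd_add, zero_add] at h
    obtain ⟨h1, h2⟩ := h
    have h3 : f (n : M) = f (n' : M) := congrArg Subtype.val h2
    have hi : i = i' := Subtype.ext (by
      rw [← hs i, ← hs i']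
      have := congrArg f h1
      simp only [map_add] at this
      exact add_right_cancel (this.trans (congrArg _ h3.symm)))
    subst hi
    exact Prod.ext rfl (Subtype.ext (add_left_cancel h1))
  · rintro ⟨m, y⟩
    obtain ⟨n₀, hn₀⟩ := hY y.2
    let i : f.range := ⟨f (m - n₀), ⟨_, rfl⟩⟩
    have hn : f (m - s i) = y := by
      simp only [map_sub, hs, i]
      rw [hn₀]
      abel
    exact ⟨(i, ⟨m - s i, show f (m - s i) ∈ Y by rw [hn]; exact y.2⟩),
      Prod.ext (add_sub_cancel _ _) ((zero_add _).trans (Subtype.ext hn))⟩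

lemma isFreeOrbit_subtype (I : AddSubgroup Zg) : IsFreeOrbit (I.subtype) := by
  classical
  refine ⟨Zg ⧸ I, inferInstance, Quotient.out, ?_, ?_⟩
  · rintro ⟨p, x⟩ ⟨p', x'⟩ h
    have hp : p = p' := by
      have := congrArg (QuotientAddGroup.mk (s := I)) h
      simp only [AddSubgroup.coe_subtype, QuotientAddGroup.mk_add_of_mem _ x.2,
        QuotientAddGroup.mk_add_of_mem _ x'.2, QuotientAddGroup.out_eq'] at this
      exact this
    subst hp
    exact Prod.ext rfl (Subtype.ext (add_left_cancel h))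
  · intro z
    have hz : z - Quotient.out (z : Zg ⧸ I) ∈ I := by
      rw [← QuotientAddGroup.eq_zero_iff, QuotientAddGroup.mk_sub, QuotientAddGroup.out_eq', sub_self]
    exact ⟨((z : Zg ⧸ I), ⟨_, hz⟩), add_sub_cancel _ _⟩

/-- The map `(m, y) ↦ m • ψ y`. -/
def spread {T : Over S} (ψ : AMonS S Y ⊗ T ⟶ X) : AMonS S (M × Y) ⊗ T ⟶ X :=
  lift (fst _ _ ≫ AMonS.map S (AddMonoidHom.inl M Y)) ((AMonS.map S (AddMonoidHom.inr M Y) ▷ T) ≫ ψ) ≫ a.act

lemma lift_spread {T T' : Over S} (ψ : AMonS S Y ⊗ T ⟶ X) (P : T' ⟶ AMonS S (M × Y)) (t : T' ⟶ T) :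
    lift P t ≫ spread a ψ =
      lift (P ≫ AMonS.map S (AddMonoidHom.inl M Y)) (lift (P ≫ AMonS.map S (AddMonoidHom.inr M Y)) t ≫ ψ) ≫
        a.act := by
  rw [spread, comp_lift_assoc, lift_fst_assoc, lift_whiskerRight_assoc]

/-- An element of `X^N` is determined by its restriction to `A(Y)`. -/
lemma whiskerRight_hN_comp {T : Over S} (φ : (attr a (Y.comap f)).obj (op T)) :
    (AMonS.map S (hN f Y) ▷ T) ≫ φ.1 = spread a ((AMonS.map S (gN f Y) ▷ T) ≫ φ.1) := by
  refine Magnet.hom_ext_lift₂ fun T' P t => ?_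
  have e : hN f Y = (AddMonoidHom.inl M Y).comp (Y.comap f).subtype + (AddMonoidHom.inr M Y).comp (gN f Y) :=
    AddMonoidHom.ext fun n => Prod.ext (add_zero _).symm (zero_add _).symm
  have h := (MonAct.mem_eqvHom_iff φ.1).1 φ.2 T' (P ≫ AMonS.map S (AddMonoidHom.inl M Y))
    ((P ≫ AMonS.map S (AddMonoidHom.inr M Y)) ≫ AMonS.map S (gN f Y)) t
  simp only [subAct] at h
  rw [MonAct.lift_restrict_act, MonAct.lift_regular_act] at h
  rw [lift_spread, lift_whiskerRight_assoc, lift_whiskerRight_assoc, ← h]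
  congr 2
  rw [e, amonS_map_add, MonObj.comp_mul, AMonS.map_comp, AMonS.map_comp, Category.assoc, Category.assoc]

/-- `Y → f M`. -/
abbrev jY (hY : Y ≤ AddMonoidHom.mrange f) : Y →+ f.range :=
  Y.subtype.codRestrict f.range (fun y => AddMonoidHom.mem_range.2 (hY y.2))

/-- An `A(Z)`-equivariant map out of `A(Y)` is `A(f M)`-equivariant. -/
lemma range_equivariant (hY : Y ≤ AddMonoidHom.mrange f) {T : Over S} (ψ : AMonS S Y ⊗ T ⟶ X)
    (hψ : ((subAct S Zg Y).prod (MonAct.trivial (AMonS S Zg) T)).IsEquivariant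
      (a.restrict (AMonS.map S f)) ψ)
    {T' : Over S} (g : T' ⟶ AMonS S f.range) (y : T' ⟶ AMonS S Y) (t : T' ⟶ T) :
    lift ((g ≫ AMonS.map S (jY hY)) * y) t ≫ ψ =
      lift (g ≫ AMonS.map S f.rangeRestrict) (lift y t ≫ ψ) ≫ a.act := by
  have key : lift ((fst _ _ ≫ AMonS.map S (jY hY)) * (snd (AMonS S f.range) (AMonS S Y ⊗ T) ≫ fst _ _))
      (snd _ _ ≫ snd _ _) ≫ ψ = (AMonS.map S f.rangeRestrict ▷ _) ≫ (AMonS S M ◁ ψ) ≫ a.act := by
    haveI := epi_map_whisker (S := S) f.range.subtype (isFreeOrbit_subtype f.range) (AMonS S Y ⊗ T)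
    rw [← cancel_epi (AMonS.map S f.range.subtype ▷ (AMonS S Y ⊗ T))]
    refine Magnet.hom_ext_lift₂ fun T'' g q => ?_
    have h := (MonAct.mem_eqvHom_iff ψ).1 hψ T'' g (q ≫ fst _ _) (q ≫ snd _ _)
    simp only [subAct, MonAct.lift_restrict_act, MonAct.lift_regular_act] at h
    simp only [lift_whiskerRight_assoc, lift_whiskerLeft_assoc, comp_lift_assoc, MonObj.comp_mul,
      lift_fst_assoc, lift_snd_assoc, Category.assoc, ← AMonS.map_comp,
      show f.range.subtype.comp f.rangeRestrict = f from AddMonoidHom.ext fun m => rfl,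
      show f.range.subtype.comp (jY hY) = Y.subtype from AddMonoidHom.ext fun m => rfl]
    rw [h, lift_comp_fst_snd]
  have := congrArg (lift g (lift y t) ≫ ·) key
  simp only [lift_whiskerRight_assoc, lift_whiskerLeft_assoc, comp_lift_assoc, MonObj.comp_mul,
    lift_fst_assoc, lift_snd_assoc, lift_fst, lift_snd] at this
  exact this

/-- Two characters of `M × Y` equal on `N` differ by a character of `f M`. -/
lemma exists_character (hY : Y ≤ AddMonoidHom.mrange f) {B : Type u} [CommRing B]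
    (χ χ' : Multiplicative (M × Y) →* B)
    (hN' : ∀ n : Y.comap f, χ (Multiplicative.ofAdd ((n : M), gN f Y n)) =
      χ' (Multiplicative.ofAdd ((n : M), gN f Y n))) :
    ∃ κ : Multiplicative f.range →* B,
      χ'.comp (AddMonoidHom.toMultiplicative (AddMonoidHom.inl M Y)) =
        χ.comp (AddMonoidHom.toMultiplicative (AddMonoidHom.inl M Y)) *
          κ.comp (AddMonoidHom.toMultiplicative f.rangeRestrict) ∧
      χ.comp (AddMonoidHom.toMultiplicative (AddMonoidHom.inr M Y)) =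
        κ.comp (AddMonoidHom.toMultiplicative (jY hY)) *
          χ'.comp (AddMonoidHom.toMultiplicative (AddMonoidHom.inr M Y)) := by
  classical
  let χM := χ.comp (AddMonoidHom.toMultiplicative (AddMonoidHom.inl M Y))
  let χM' := χ'.comp (AddMonoidHom.toMultiplicative (AddMonoidHom.inl M Y))
  let χY := χ.comp (AddMonoidHom.toMultiplicative (AddMonoidHom.inr M Y))
  let χY' := χ'.comp (AddMonoidHom.toMultiplicative (AddMonoidHom.inr M Y))
  let κ₀ : Multiplicative M →* B :=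
    { toFun := fun m => χM' m * χM m⁻¹
      map_one' := by simp
      map_mul' := fun m m' => by rw [map_mul, _root_.mul_inv, map_mul, _root_.mul_mul_mul_comm] }
  have hinv : ∀ m, χM m * χM m⁻¹ = 1 := fun m => by rw [← map_mul, _root_.mul_inv_cancel, map_one]
  have hsplit : ∀ (φ₀ : Multiplicative (M × Y) →* B) (m : M) (y₀ : Y), φ₀ (Multiplicative.ofAdd (m, y₀)) =
      φ₀.comp (AddMonoidHom.toMultiplicative (AddMonoidHom.inl M Y)) (Multiplicative.ofAdd m) *
        φ₀.comp (AddMonoidHom.toMultiplicative (AddMonoidHom.inr M Y)) (Multiplicative.ofAdd y₀) :=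
    fun φ₀ m y₀ => by
      rw [MonoidHom.comp_apply, MonoidHom.comp_apply, ← map_mul]
      congr 1
      exact congrArg Multiplicative.ofAdd (Prod.ext (add_zero m).symm (zero_add y₀).symm)
  have hker : ∀ m : M, f m = 0 → κ₀ (Multiplicative.ofAdd m) = 1 := fun m hm => by
    have hmem : m ∈ Y.comap f := show f m ∈ Y by rw [hm]; exact Y.zero_mem
    have hg0 : gN f Y ⟨m, hmem⟩ = 0 := Subtype.ext hm
    have := hN' ⟨m, hmem⟩
    rw [hg0, hsplit, hsplit, show Multiplicative.ofAdd (0 : Y) = 1 from rfl, map_one, map_one,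
      _root_.mul_one, _root_.mul_one] at this
    change χM' (Multiplicative.ofAdd m) * χM (Multiplicative.ofAdd m)⁻¹ = 1
    rw [← this]
    exact hinv _
  choose s hs using fun i : f.range => AddMonoidHom.mem_range.1 i.2
  have hfac : ∀ m m' : M, f m = f m' → κ₀ (Multiplicative.ofAdd m) = κ₀ (Multiplicative.ofAdd m') :=
    fun m m' h => by
      rw [← _root_.one_mul (κ₀ (Multiplicative.ofAdd m')), ← hker (m - m') (by rw [map_sub, h, sub_self]),
        ← map_mul, ← ofAdd_add, sub_add_cancel]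
  let κ : Multiplicative f.range →* B :=
    { toFun := fun i => κ₀ (Multiplicative.ofAdd (s i.toAdd))
      map_one' := hker _ (hs 0)
      map_mul' := fun i i' => by
        rw [← map_mul, ← ofAdd_add]
        refine hfac _ _ ?_
        rw [map_add, hs, hs, hs]
        rfl }
  refine ⟨κ, MonoidHom.ext fun m => ?_, MonoidHom.ext fun y₀ => ?_⟩
  · change χM' m = χM m * κ₀ (Multiplicative.ofAdd (s (f.rangeRestrict m.toAdd)))
    rw [hfac _ m.toAdd (hs _), ofAdd_toAdd]
    change χM' m = χM m * (χM' m * χM m⁻¹)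
    rw [_root_.mul_left_comm, hinv, _root_.mul_one]
  · have hn : f (s (jY hY y₀.toAdd)) = (y₀.toAdd : Zg) := hs _
    have hmem : s (jY hY y₀.toAdd) ∈ Y.comap f := show f _ ∈ Y by rw [hn]; exact (y₀.toAdd).2
    have hg : gN f Y ⟨_, hmem⟩ = y₀.toAdd := Subtype.ext hn
    have := hN' ⟨_, hmem⟩
    rw [hg, hsplit, hsplit, ofAdd_toAdd] at this
    change χY y₀ = κ₀ (Multiplicative.ofAdd (s (jY hY y₀.toAdd))) * χY' y₀
    change χY y₀ = χM' _ * χM _ * χY' y₀
    have h3 := congrArg (fun x => χM (Multiplicative.ofAdd (s (jY hY y₀.toAdd)))⁻¹ * x) this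
    simp only [← _root_.mul_assoc] at h3
    rw [← map_mul, _root_.inv_mul_cancel, map_one, _root_.one_mul] at h3
    rw [_root_.mul_comm (χM' _) (χM _)]
    exact h3

lemma spread_pts (hY : Y ≤ AddMonoidHom.mrange f) {T : Over S} (ψ : AMonS S Y ⊗ T ⟶ X)
    (hψ : ((subAct S Zg Y).prod (MonAct.trivial (AMonS S Zg) T)).IsEquivariant
      (a.restrict (AMonS.map S f)) ψ)
    {B : Type u} [CommRing B] (y : Spec (CommRingCat.of B) ⟶ S) (t : Over.mk y ⟶ T)
    (P P' : Over.mk y ⟶ AMonS S (M × Y))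
    (h : P ≫ AMonS.map S (hN f Y) = P' ≫ AMonS.map S (hN f Y)) :
    lift P t ≫ spread a ψ = lift P' t ≫ spread a ψ := by
  obtain ⟨χ, rfl⟩ := mpt_surjective y P
  obtain ⟨χ', rfl⟩ := mpt_surjective y P'
  rw [mpt_map, mpt_map] at h
  obtain ⟨κ, hM, hY2⟩ := exists_character hY χ χ' fun n =>
    DFunLike.congr_fun (mpt_injective y h) (Multiplicative.ofAdd n)
  rw [lift_spread a ψ (mpt y χ) t, lift_spread a ψ (mpt y χ') t, mpt_map, mpt_map, mpt_map, mpt_map, hM, hY2, mpt_mul, mpt_mul,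
    a.lift_mul_act, ← mpt_map (jY hY) y κ, ← mpt_map f.rangeRestrict y κ, range_equivariant a hY ψ hψ]

lemma spread_congr (hY : Y ≤ AddMonoidHom.mrange f) {T : Over S} (ψ : AMonS S Y ⊗ T ⟶ X)
    (hψ : ((subAct S Zg Y).prod (MonAct.trivial (AMonS S Zg) T)).IsEquivariant
      (a.restrict (AMonS.map S f)) ψ)
    {T' : Over S} (p p' : T' ⟶ AMonS S (M × Y) ⊗ T)
    (hp : p ≫ (AMonS.map S (hN f Y) ▷ T) = p' ≫ (AMonS.map S (hN f Y) ▷ T)) :
    p ≫ spread a ψ = p' ≫ spread a ψ := by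
  apply Over.OverMorphism.ext
  refine T'.left.affineCover.hom_ext _ _ fun i => ?_
  let B : Type u := Γ(T'.left.affineCover.X i, ⊤)
  let jS : Spec (CommRingCat.of B) ⟶ T'.left :=
    (T'.left.affineCover.X i).isoSpec.inv ≫ T'.left.affineCover.f i
  let y : Spec (CommRingCat.of B) ⟶ S := jS ≫ T'.hom
  let jo : Over.mk y ⟶ T' := Over.homMk jS rfl
  suffices hs : (jo ≫ p) ≫ spread a ψ = (jo ≫ p') ≫ spread a ψ by
    have := congrArg CommaMorphism.left hs
    simp only [jo, jS, Over.comp_left, Over.homMk_left, Category.assoc] at this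
    simp only [Over.comp_left]
    exact (cancel_epi _).1 this
  have hp' : (jo ≫ p) ≫ (AMonS.map S (hN f Y) ▷ T) = (jo ≫ p') ≫ (AMonS.map S (hN f Y) ▷ T) := by
    rw [Category.assoc, hp, Category.assoc]
  rw [← lift_comp_fst_snd (jo ≫ p), ← lift_comp_fst_snd (jo ≫ p'), lift_whiskerRight, lift_whiskerRight] at hp'
  have ht : (jo ≫ p) ≫ snd _ _ = (jo ≫ p') ≫ snd _ _ := by
    simpa only [lift_snd] using congrArg (· ≫ snd _ _) hp'
  rw [← lift_comp_fst_snd (jo ≫ p), ← lift_comp_fst_snd (jo ≫ p'), ← ht]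
  exact spread_pts a hY ψ hψ y _ _ _ (by simpa only [lift_fst] using congrArg (· ≫ fst _ _) hp')

lemma exists_desc_spread (hY : Y ≤ AddMonoidHom.mrange f) {T : Over S} (ψ : AMonS S Y ⊗ T ⟶ X)
    (hψ : ((subAct S Zg Y).prod (MonAct.trivial (AMonS S Zg) T)).IsEquivariant
      (a.restrict (AMonS.map S f)) ψ) :
    ∃ φ : AMonS S (Y.comap f) ⊗ T ⟶ X, ∀ (T' : Over S) (P : T' ⟶ AMonS S (M × Y)) (t : T' ⟶ T),
      lift (P ≫ AMonS.map S (hN f Y)) t ≫ φ =
        lift (P ≫ AMonS.map S (AddMonoidHom.inl M Y))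
          (lift (P ≫ AMonS.map S (AddMonoidHom.inr M Y)) t ≫ ψ) ≫ a.act := by
  haveI := flat_map_whisker (S := S) (hN f Y) (isFreeOrbit_hN hY) T
  haveI := surjective_map_whisker (S := S) (hN f Y) (isFreeOrbit_hN hY) T
  haveI := quasiCompact_map_whisker (S := S) (hN f Y) T
  obtain ⟨φ, hφ, -⟩ := H19Grp.existsUnique_desc_over (AMonS.map S (hN f Y) ▷ T) (spread a ψ)
    (fun T' p p' hp => spread_congr a hY ψ hψ p p' hp)
  refine ⟨φ, fun T' P t => ?_⟩
  exact ((lift_whiskerRight_assoc P t (AMonS.map S (hN f Y)) φ).symm.trans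
    (congrArg (lift P t ≫ ·) hφ)).trans (lift_spread a ψ P t)

lemma equivariant_desc (hY : Y ≤ AddMonoidHom.mrange f) {T : Over S} (ψ : AMonS S Y ⊗ T ⟶ X)
    (φ : AMonS S (Y.comap f) ⊗ T ⟶ X)
    (hqp : ∀ (T' : Over S) (P : T' ⟶ AMonS S (M × Y)) (t : T' ⟶ T),
      lift (P ≫ AMonS.map S (hN f Y)) t ≫ φ =
        lift (P ≫ AMonS.map S (AddMonoidHom.inl M Y))
          (lift (P ≫ AMonS.map S (AddMonoidHom.inr M Y)) t ≫ ψ) ≫ a.act) :
    ((subAct S M (Y.comap f)).prod (MonAct.trivial (AMonS S M) T)).IsEquivariant a φ := by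
  let σ : AMonS S (Y.comap f) ⊗ (AMonS S M ⊗ T) ⟶ AMonS S M ⊗ (AMonS S (Y.comap f) ⊗ T) :=
    lift (snd _ _ ≫ fst _ _) (lift (fst _ _) (snd _ _ ≫ snd _ _))
  let σ' : AMonS S M ⊗ (AMonS S (Y.comap f) ⊗ T) ⟶ AMonS S (Y.comap f) ⊗ (AMonS S M ⊗ T) :=
    lift (snd _ _ ≫ fst _ _) (lift (fst _ _) (snd _ _ ≫ snd _ _))
  haveI : IsIso σ := ⟨σ', by ext <;> simp [σ, σ'], by ext <;> simp [σ, σ']⟩
  haveI := epi_map_whisker (S := S) (hN f Y) (isFreeOrbit_hN hY) (AMonS S M ⊗ T)
  unfold MonAct.IsEquivariant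
  rw [← cancel_epi σ, ← cancel_epi (AMonS.map S (hN f Y) ▷ (AMonS S M ⊗ T))]
  refine Magnet.hom_ext_lift₂ fun T' P w => ?_
  obtain ⟨g, t, rfl⟩ : ∃ g t, w = lift g t := ⟨_, _, (lift_comp_fst_snd _).symm⟩
  have hsig : ∀ b : T' ⟶ AMonS S (Y.comap f), lift b (lift g t) ≫ σ = lift g (lift b t) := fun b => by
    ext <;> simp [σ]
  simp only [lift_whiskerRight_assoc]
  rw [reassoc_of% hsig, reassoc_of% hsig, MonAct.lift_prod_act_assoc, MonAct.lift_trivial_act,
    lift_whiskerLeft_assoc]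
  simp only [subAct, MonAct.lift_restrict_act, MonAct.lift_regular_act]
  have e1 : g ≫ AMonS.map S (Y.comap f).subtype =
      (g ≫ AMonS.map S (AddMonoidHom.fst M Y)) ≫ AMonS.map S (hN f Y) := by
    rw [Category.assoc, ← AMonS.map_comp]
    rfl
  rw [e1, ← MonObj.mul_comp, hqp, hqp, MonObj.mul_comp, MonObj.mul_comp, Category.assoc g,
    ← AMonS.map_comp, Category.assoc g, ← AMonS.map_comp,
    show (AddMonoidHom.fst M Y).comp (AddMonoidHom.inl M Y) = AddMonoidHom.id M from AddMonoidHom.ext fun _ => rfl,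
    show (AddMonoidHom.fst M Y).comp (AddMonoidHom.inr M Y) = 0 from AddMonoidHom.ext fun _ => rfl,
    amonS_map_id, Category.comp_id, amonS_map_zero, comp_toUnit_assoc, ← Hom.one_def, _root_.one_mul,
    a.lift_mul_act]

lemma restrict_desc {T : Over S} (ψ : AMonS S Y ⊗ T ⟶ X) (φ : AMonS S (Y.comap f) ⊗ T ⟶ X)
    (hqp : ∀ (T' : Over S) (P : T' ⟶ AMonS S (M × Y)) (t : T' ⟶ T),
      lift (P ≫ AMonS.map S (hN f Y)) t ≫ φ =
        lift (P ≫ AMonS.map S (AddMonoidHom.inl M Y))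
          (lift (P ≫ AMonS.map S (AddMonoidHom.inr M Y)) t ≫ ψ) ≫ a.act) :
    (AMonS.map S (gN f Y) ▷ T) ≫ φ = ψ := by
  refine Magnet.hom_ext_lift₂ fun T' y t => ?_
  have e2 : y ≫ AMonS.map S (gN f Y) =
      (y ≫ AMonS.map S (AddMonoidHom.snd M Y)) ≫ AMonS.map S (hN f Y) := by
    rw [Category.assoc, ← AMonS.map_comp]
    rfl
  rw [lift_whiskerRight_assoc, e2, hqp, Category.assoc, ← AMonS.map_comp, Category.assoc, ← AMonS.map_comp,
    show (AddMonoidHom.snd M Y).comp (AddMonoidHom.inl M Y) = 0 from AddMonoidHom.ext fun _ => rfl,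
    show (AddMonoidHom.snd M Y).comp (AddMonoidHom.inr M Y) = AddMonoidHom.id Y from AddMonoidHom.ext fun _ => rfl,
    amonS_map_id, Category.comp_id, amonS_map_zero, comp_toUnit_assoc, ← Hom.one_def, a.lift_one_act]

theorem attr_comap_bijective (hY : Y ≤ AddMonoidHom.mrange f) (T : Over S) :
    Function.Bijective fun φ : (attr a (Y.comap f)).obj (op T) =>
      (Magnet.attrComap a f Y).app (op T) φ := by
  refine ⟨fun φ φ' h => ?_, fun ψ => ?_⟩
  · haveI := epi_map_whisker (S := S) (hN f Y) (isFreeOrbit_hN hY) T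
    have h1 : (AMonS.map S (gN f Y) ▷ T) ≫ φ.1 = (AMonS.map S (gN f Y) ▷ T) ≫ φ'.1 :=
      ((Magnet.attrComap_app_coe a f Y (op T) φ).symm.trans (congrArg Subtype.val h)).trans
        (Magnet.attrComap_app_coe a f Y (op T) φ')
    refine Subtype.ext ((cancel_epi (AMonS.map S (hN f Y) ▷ T)).1 ?_)
    rw [whiskerRight_hN_comp, whiskerRight_hN_comp, h1]
  · obtain ⟨φ, hφ⟩ := exists_desc_spread a hY ψ.1 ψ.2
    refine ⟨⟨φ, equivariant_desc a hY ψ.1 φ hφ⟩, Subtype.ext ?_⟩
    exact (Magnet.attrComap_app_coe a f Y (op T) _).trans (restrict_desc a ψ.1 φ hφ)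

theorem isIso_attrComap' (hY : Y ≤ AddMonoidHom.mrange f) : IsIso (Magnet.attrComap a f Y) := by
  rw [NatTrans.isIso_iff_isIso_app]
  intro T
  induction T with
  | op T =>
    rw [isIso_iff_bijective]
    exact attr_comap_bijective a hY T

end Groth.Agent.H15Magnet
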