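import Groth.Agent.H19Grp.SchemImage
import Groth.Prelude.Def_Magnet4

set_option autoImplicit false
set_option linter.style.haveILetI false
set_option backward.isDefEq.respectTransparency false
set_option backward.isDefEq.respectTransparency.types false
universe u

open CategoryTheory CategoryTheory.Limits MonoidalCategory CartesianMonoidalCategory MonObj AlgebraicGeometry
open Magnet

noncomputable section

namespace Groth.Agent.H15Magnet

variable {S : Scheme.{u}}

theorem isPullback_whiskerRight {G M : Over S} (i : G ⟶ M) (T : Over S) :
    IsPullback (fst G T).left (i ▷ T).left i.left (fst M T).left := by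
  refine IsPullback.of_bot (v₂₁ := (snd M T).left) (v₂₂ := M.hom) (h₃₁ := T.hom) ?_ ?_
    (IsPullback.of_hasPullback M.hom T.hom)
  · rw [← Over.comp_left, whiskerRight_snd, Over.w i]
    exact IsPullback.of_hasPullback G.hom T.hom
  · show (fst G T).left ≫ i.left = (i ▷ T).left ≫ (fst M T).left
    rw [← Over.comp_left, ← Over.comp_left, whiskerRight_fst]

theorem isSTD_whiskerRight {G M : Over S} (i : G ⟶ M) [IsSchemeTheoreticallyDominant i.left]
    [QuasiCompact i.left] (T : Over S) [Flat T.hom] : IsSchemeTheoreticallyDominant (i ▷ T).left := by
  haveI : Flat (fst M T).left := inferInstanceAs (Flat (pullback.fst M.hom T.hom))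
  exact .of_isPullback (isPullback_whiskerRight i T)

theorem mono_of_left {Z X : Over S} (j : Z ⟶ X) [Mono j.left] : Mono j :=
  (Over.forget S).mono_of_mono_map (show Mono j.left from inferInstance)

end Groth.Agent.H15Magnet
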