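import Groth.Prelude.Def_Magnet4
import Groth.Agent.H21Root.Farkas
import Mathlib.RingTheory.Localization.BaseChange
import Mathlib.RingTheory.Localization.FractionRing
import Mathlib.RingTheory.Localization.Integer
import Mathlib.GroupTheory.Finiteness

/-!
# A linear form defining a face of a finitely generated submonoid
-/

set_option autoImplicit false
set_option linter.style.haveILetI false

open Magnet Module
open scoped TensorProduct

namespace Groth.Agent.H15Magnet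

variable {M : Type} [AddCommGroup M]

theorem exists_multiples {κ : Type*} (s : Finset κ) (c : κ → ℚ) :
    ∃ D : ℤ, 0 < D ∧ ∀ i ∈ s, ∃ z : ℤ, (z : ℚ) = D * c i := by
  classical
  refine ⟨∏ i ∈ s, ((c i).den : ℤ), Finset.prod_pos fun i _ => by exact_mod_cast (c i).den_pos, fun i hi => ?_⟩
  refine ⟨(∏ j ∈ s.erase i, ((c j).den : ℤ)) * (c i).num, ?_⟩
  rw [← Finset.mul_prod_erase s _ hi]
  push_cast
  rw [← Rat.mul_den_eq_num (q := c i)]
  ring

/-- A face of a finitely generated submonoid is cut out by an integral linear form which is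
nonnegative on the monoid. -/
theorem exists_degree [AddGroup.FG M] {N F : AddSubmonoid M} (hN : N.FG) (hF : IsFace N F) :
    ∃ ψ : M →+ ℤ, ∀ n ∈ N, 0 ≤ ψ n ∧ (ψ n = 0 ↔ n ∈ F) := by
  classical
  obtain ⟨s, hs⟩ := hN
  have hsN : ∀ x ∈ s, x ∈ N := fun x hx => hs ▸ AddSubmonoid.subset_closure hx
  let FG : Submodule ℤ M := (AddSubgroup.closure (F : Set M)).toIntSubmodule
  let G := M ⧸ FG
  let W := ℚ ⊗[ℤ] G
  let v : M →+ W := ((TensorProduct.mk ℤ ℚ G 1).comp (Submodule.mkQ FG)).toAddMonoidHom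
  have hvF : ∀ f ∈ F, v f = 0 := by
    intro f hf
    have : Submodule.mkQ FG f = 0 :=
      (Submodule.Quotient.mk_eq_zero FG).2 (AddSubgroup.subset_closure hf)
    simp [v, this]
  have hkey : ∀ x ∈ N, v x = 0 → x ∈ F := by
    intro x hx hvx
    obtain ⟨k, hk⟩ := (IsLocalizedModule.eq_zero_iff (nonZeroDivisors ℤ) (TensorProduct.mk ℤ ℚ G 1)).1
      (show TensorProduct.mk ℤ ℚ G 1 (Submodule.mkQ FG x) = 0 from hvx)
    have hk0 : (k : ℤ) ≠ 0 := nonZeroDivisors.coe_ne_zero k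
    let q := ((k : ℤ).natAbs)
    have hq : q • Submodule.mkQ FG x = 0 := by
      rcases Int.natAbs_eq (k : ℤ) with h | h
      · rw [← natCast_zsmul, ← h]; exact hk
      · rw [← natCast_zsmul, ← neg_eq_iff_eq_neg.2 h, neg_smul]
        exact neg_eq_zero.2 hk
    have hmem : q • x ∈ AddSubgroup.closure (F : Set M) := by
      rw [← map_nsmul] at hq
      exact (Submodule.Quotient.mk_eq_zero FG).1 hq
    obtain ⟨f₁, hf₁, f₂, hf₂, he⟩ : ∃ f₁ ∈ F, ∃ f₂ ∈ F, q • x + f₂ = f₁ := by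
      generalize q • x = y₀ at hmem ⊢
      induction hmem using AddSubgroup.closure_induction with
      | mem y hy => exact ⟨y, hy, 0, F.zero_mem, add_zero y⟩
      | zero => exact ⟨0, F.zero_mem, 0, F.zero_mem, add_zero 0⟩
      | add y z _ _ h1 h2 =>
        obtain ⟨a, ha, b, hb, e1⟩ := h1
        obtain ⟨c, hc, d, hd, e2⟩ := h2
        exact ⟨a + c, F.add_mem ha hc, b + d, F.add_mem hb hd, by rw [← e1, ← e2]; abel⟩
      | neg y _ h1 =>
        obtain ⟨a, ha, b, hb, e1⟩ := h1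
        exact ⟨b, hb, a, ha, by rw [← e1]; abel⟩
    have h1 := (hF.mem_of_add_mem (q • x) (N.nsmul_mem hx q) f₂ (hF.le hf₂) (he ▸ hf₁)).1
    obtain ⟨p, hp⟩ : ∃ p, q = p + 1 := ⟨q - 1, (Nat.succ_pred_eq_of_pos (Int.natAbs_pos.2 hk0)).symm⟩
    rw [hp, succ_nsmul] at h1
    exact (hF.mem_of_add_mem _ (N.nsmul_mem hx p) _ hx h1).2
  let fe : M → Dual ℚ (Dual ℚ W) := fun x => Dual.eval ℚ W (v x)
  have hone : ∀ j ∈ s, j ∉ F → ∃ x : Dual ℚ W, (∀ i ∈ s, 0 ≤ fe i x) ∧ 0 < fe j x := by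
    intro j hj hjF
    by_contra hcon
    obtain ⟨c, hc, hg⟩ := Groth.Agent.H21Root.farkas s fe (-fe j) fun x hx => by
      rw [LinearMap.neg_apply, neg_nonneg]
      exact not_lt.1 fun h => hcon ⟨x, hx, h⟩
    have hsum : v j + ∑ i ∈ s, c i • v i = 0 := by
      apply Module.eval_apply_injective ℚ (V := W)
      rw [map_zero, map_add, map_sum]
      simp only [_root_.map_smul]
      change fe j + ∑ i ∈ s, c i • fe i = 0
      rw [← hg, add_neg_cancel]
    obtain ⟨D, hD, hz⟩ := exists_multiples s c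
    choose! z hz using hz
    have hzpos : ∀ i ∈ s, 0 ≤ z i := fun i hi => by
      have : (0 : ℚ) ≤ z i := by rw [hz i hi]; exact mul_nonneg (by exact_mod_cast hD.le) (hc i hi)
      exact_mod_cast this
    let m := D.toNat • j + ∑ i ∈ s, (z i).toNat • i
    have hm : v m = 0 := by
      have : v m = (D : ℚ) • (v j + ∑ i ∈ s, c i • v i) := by
        simp only [m, map_add, map_sum, map_nsmul, smul_add, Finset.smul_sum]
        congr 1
        · rw [← Nat.cast_smul_eq_nsmul ℚ]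
          congr 1
          exact_mod_cast Int.toNat_of_nonneg hD.le
        · refine Finset.sum_congr rfl fun i hi => ?_
          rw [← Nat.cast_smul_eq_nsmul ℚ, smul_smul, ← hz i hi]
          congr 1
          exact_mod_cast Int.toNat_of_nonneg (hzpos i hi)
      rw [this, hsum, smul_zero]
    have hjN := N.nsmul_mem (hsN j hj) D.toNat
    have hrest : ∑ i ∈ s, (z i).toNat • i ∈ N := N.sum_mem fun i hi => N.nsmul_mem (hsN i hi) _
    have h1 := (hF.mem_of_add_mem _ hjN _ hrest (hkey m (N.add_mem hjN hrest) hm)).1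
    obtain ⟨p, hp⟩ : ∃ p, D.toNat = p + 1 := ⟨D.toNat - 1, by omega⟩
    rw [hp, succ_nsmul] at h1
    exact hjF (hF.mem_of_add_mem _ (N.nsmul_mem (hsN j hj) p) _ (hsN j hj) h1).2
  choose! x hx hxpos using hone
  let w : Dual ℚ W := ∑ j ∈ s.filter (· ∉ F), x j
  let φ : M →+ ℚ := w.toAddMonoidHom.comp v
  have hgen : ∀ i ∈ s, 0 ≤ φ i ∧ (φ i = 0 ↔ i ∈ F) := by
    intro i hi
    have he : φ i = ∑ j ∈ s.filter (· ∉ F), fe i (x j) := by
      simp [φ, w, fe]
    have hnn : ∀ j ∈ s.filter (· ∉ F), 0 ≤ fe i (x j) := fun j hj =>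
      hx j (Finset.mem_filter.1 hj).1 (Finset.mem_filter.1 hj).2 i hi
    refine ⟨he ▸ Finset.sum_nonneg hnn, fun h0 => ?_, fun h => by simp [φ, hvF i h]⟩
    by_contra hiF
    have := Finset.sum_pos' hnn ⟨i, Finset.mem_filter.2 ⟨hi, hiF⟩, hxpos i hi hiF⟩
    rw [← he, h0] at this
    exact lt_irrefl _ this
  obtain ⟨t, ht⟩ := AddGroup.fg_def.1 (inferInstance : AddGroup.FG M)
  obtain ⟨E, hE, hz⟩ := exists_multiples t (fun i => φ i)
  let Φ : M →+ ℚ := (AddMonoidHom.mulLeft (E : ℚ)).comp φ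
  have hint : ∀ m, Φ m ∈ (Int.castAddHom ℚ).range := by
    intro m
    have : AddSubgroup.closure (t : Set M) ≤ ((Int.castAddHom ℚ).range).comap Φ := by
      rw [AddSubgroup.closure_le]
      intro i hi
      obtain ⟨z, hz⟩ := hz i hi
      exact ⟨z, hz⟩
    exact this (ht ▸ AddSubgroup.mem_top m)
  choose ψ hψ using hint
  have hψ' : ∀ m, (ψ m : ℚ) = E * φ m := hψ
  refine ⟨AddMonoidHom.mk' ψ fun a b => by
    have h := hψ' (a + b)
    rw [map_add, mul_add, ← hψ', ← hψ'] at h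
    exact_mod_cast h, fun n hn => ?_⟩
  have hP : ∀ n ∈ N, 0 ≤ φ n ∧ (φ n = 0 ↔ n ∈ F) := by
    intro n hn
    rw [← hs] at hn
    induction hn using AddSubmonoid.closure_induction with
    | mem i hi => exact hgen i hi
    | zero => simp
    | add a b ha hb iha ihb =>
      rw [map_add, add_eq_zero_iff_of_nonneg iha.1 ihb.1, iha.2, ihb.2,
        hF.add_mem_iff (hs ▸ ha) (hs ▸ hb)]
      exact ⟨add_nonneg iha.1 ihb.1, Iff.rfl⟩
  obtain ⟨h1, h2⟩ := hP n hn
  have hE' : (0 : ℚ) < E := by exact_mod_cast hE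
  change 0 ≤ ψ n ∧ (ψ n = 0 ↔ n ∈ F)
  constructor
  · have : (0 : ℚ) ≤ ψ n := by rw [hψ']; exact mul_nonneg hE'.le h1
    exact_mod_cast this
  · rw [← h2, ← Int.cast_eq_zero (α := ℚ), hψ', mul_eq_zero, or_iff_right hE'.ne']

end Groth.Agent.H15Magnet
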