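import Groth.Agent.H15Magnet.Chart
import Groth.Prelude.Def_Magnet4
import Groth.Agent.H7Flat.PushoutAffine
import Groth.Agent.H7Flat.PushoutGlobal

/-!
# `A(N')` is the push-out of `A(L')` and `A(N)` along `A(L)`, stably under base change
-/

set_option autoImplicit false
set_option linter.unusedSectionVars false
set_option linter.style.haveILetI false
set_option backward.isDefEq.respectTransparency false
set_option backward.isDefEq.respectTransparency.types false

universe u

noncomputable section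

open CategoryTheory CategoryTheory.Limits MonoidalCategory CartesianMonoidalCategory MonObj
  AlgebraicGeometry Opposite Magnet
open scoped TensorProduct

namespace Groth.Agent.H15Magnet

attribute [local instance] ULift.algebra'

variable {S : Scheme.{u}} {M : Type} [AddCommMonoid M] {N N' L L' : AddSubmonoid M}

lemma mem_of_sdiff (hdiff : (N' : Set M) = (L' : Set M) \ ((L : Set M) \ (N : Set M))) {m : M}
    (h1 : m ∈ N') (h2 : m ∈ L) : m ∈ N := by
  have h : m ∈ (L' : Set M) \ ((L : Set M) \ (N : Set M)) := hdiff ▸ h1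
  by_contra h3
  exact h.2 ⟨h2, h3⟩

lemma mem_sdiff (hdiff : (N' : Set M) = (L' : Set M) \ ((L : Set M) \ (N : Set M))) {m : M}
    (h1 : m ∈ L') (h2 : m ∉ N') : m ∈ L ∧ m ∉ N := by
  have h : m ∉ (L' : Set M) \ ((L : Set M) \ (N : Set M)) := hdiff ▸ h2
  by_contra h3
  exact h ⟨h1, h3⟩

section Ring

variable (R : Type u) [CommRing R]

/-- `Z[L] ⊗ R` -/
abbrev MR (L : AddSubmonoid M) : Type u := MonoidAlgebra (Z.{u}) (Multiplicative L) ⊗[Z.{u}] R

/-- restriction of the inclusion -/
abbrev incR {N L : AddSubmonoid M} (h : N ≤ L) : MR R N →+* MR R L :=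
  (Algebra.TensorProduct.map (monMap.{u} (AddSubmonoid.inclusion h)) (AlgHom.id (Z.{u}) R)).toRingHom

/-- the face projection -/
abbrev faceR {N F : AddSubmonoid M} (h : IsFace N F) : MR R N →+* MR R F :=
  (Algebra.TensorProduct.map (faceAlgHom (Z.{u}) h) (AlgHom.id (Z.{u}) R)).toRingHom

lemma monMap_single {N L : AddSubmonoid M} (h : N ≤ L) (n : N) (r : Z.{u}) :
    monMap.{u} (AddSubmonoid.inclusion h) (MonoidAlgebra.single (Multiplicative.ofAdd n) r) =
      MonoidAlgebra.single (Multiplicative.ofAdd (AddSubmonoid.inclusion h n)) r := by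
  simp [monMap]

theorem ringSq_face (hNL : N ≤ L) (hN'L' : N' ≤ L') (hL : IsFace L' L) (hN : IsFace N' N)
    (hdiff : (N' : Set M) = (L' : Set M) \ ((L : Set M) \ (N : Set M))) :
    Groth.Agent.H7Flat.RingSq (R := MR R N') (A' := MR R L') (B := MR R N) (A := MR R L) (incR R hN'L') (faceR R hN) (faceR R hL) (incR R hNL) := by
  classical
  have hcomm : ((faceAlgHom (Z.{u}) hL).comp (monMap.{u} (AddSubmonoid.inclusion hN'L'))) =
      (monMap.{u} (AddSubmonoid.inclusion hNL)).comp (faceAlgHom (Z.{u}) hN) := by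
    refine MonoidAlgebra.algHom_ext (fun n => ?_) (Subsingleton.elim _ _)
    obtain ⟨n, rfl⟩ := Multiplicative.ofAdd.surjective n
    rw [AlgHom.comp_apply, AlgHom.comp_apply, monMap_single]
    by_cases h : (n : M) ∈ N
    · rw [faceAlgHom_single_of_mem _ hN n h, monMap_single,
        faceAlgHom_single_of_mem _ hL (AddSubmonoid.inclusion hN'L' n) (hNL h)]
      rfl
    · rw [faceAlgHom_single_of_not_mem _ hN n h, map_zero,
        faceAlgHom_single_of_not_mem _ hL (AddSubmonoid.inclusion hN'L' n)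
          (fun h' => h (mem_of_sdiff hdiff n.2 h'))]
  have hcomm' : ∀ z, faceR R hL (incR R hN'L' z) = incR R hNL (faceR R hN z) := by
    intro z
    induction z using TensorProduct.induction_on with
    | zero => simp
    | tmul a b => exact congrArg (fun q => q ⊗ₜ[Z.{u}] b) (AlgHom.congr_fun hcomm a)
    | add x y hx hy => rw [map_add, map_add, map_add, map_add, hx, hy]
  have hsurj : Function.Surjective (faceR R hL) := by
    intro y
    refine ⟨incR R hL.le y, ?_⟩
    induction y using TensorProduct.induction_on with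
    | zero => simp
    | tmul a b => exact congrArg (fun q => q ⊗ₜ[Z.{u}] b) (AlgHom.congr_fun (faceAlgHom_comp_mapDomain (Z.{u}) hL) a)
    | add x y hx hy => rw [map_add, map_add, hx, hy]
  have hinj' : Function.Injective (incR R hN'L') :=
    monMap_tensor_injective (R := R) _ (AddSubmonoid.inclusion_injective hN'L')
  have hinj : Function.Injective (incR R hNL) :=
    monMap_tensor_injective (R := R) _ (AddSubmonoid.inclusion_injective hNL)
  refine ⟨hcomm', hsurj, fun z z' h _ => hinj' h, fun x y hxy => ?_⟩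
  -- linear splitting
  let bL' := MonoidAlgebra.basis (Multiplicative L') (Z.{u})
  let bL := MonoidAlgebra.basis (Multiplicative L) (Z.{u})
  let r : MonoidAlgebra (Z.{u}) (Multiplicative L') →ₗ[Z.{u}] MonoidAlgebra (Z.{u}) (Multiplicative N') :=
    bL'.constr (Z.{u}) fun l => if h : ((Multiplicative.toAdd l : L') : M) ∈ N' then
      MonoidAlgebra.single (Multiplicative.ofAdd (⟨_, h⟩ : N')) 1 else 0
  let c : MonoidAlgebra (Z.{u}) (Multiplicative L) →ₗ[Z.{u}] MonoidAlgebra (Z.{u}) (Multiplicative L) :=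
    bL.constr (Z.{u}) fun l => if ((Multiplicative.toAdd l : L) : M) ∈ N then 0 else
      MonoidAlgebra.single l 1
  let i' := (monMap.{u} (AddSubmonoid.inclusion hN'L')).toLinearMap
  let iL := (monMap.{u} (AddSubmonoid.inclusion hL.le)).toLinearMap
  let i := (monMap.{u} (AddSubmonoid.inclusion hNL)).toLinearMap
  let fL := (faceAlgHom (Z.{u}) hL).toLinearMap
  have hbL : ∀ l : Multiplicative L, MonoidAlgebra.single l (1 : Z.{u}) = bL l :=
    fun l => (MonoidAlgebra.basis_apply _ l).symm
  have e1 : i' ∘ₗ r + iL ∘ₗ c ∘ₗ fL = LinearMap.id := by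
    refine bL'.ext fun l => ?_
    obtain ⟨l, rfl⟩ := Multiplicative.ofAdd.surjective l
    have hb : bL' (Multiplicative.ofAdd l) = MonoidAlgebra.single (Multiplicative.ofAdd l) 1 :=
      MonoidAlgebra.basis_apply _ _
    simp only [LinearMap.add_apply, LinearMap.comp_apply, LinearMap.id_apply, r,
      Module.Basis.constr_basis]
    by_cases h : (l : M) ∈ N'
    · rw [dif_pos (show ((Multiplicative.toAdd (Multiplicative.ofAdd l) : L') : M) ∈ N' from h)]
      have e0 : c (fL (bL' (Multiplicative.ofAdd l))) = 0 := by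
        rw [hb]
        simp only [fL, AlgHom.toLinearMap_apply]
        by_cases h2 : (l : M) ∈ L
        · rw [faceAlgHom_single_of_mem _ hL l h2, hbL]
          simp only [c, bL, Module.Basis.constr_basis]
          exact if_pos (mem_of_sdiff hdiff h h2)
        · rw [faceAlgHom_single_of_not_mem _ hL l h2, map_zero]
      rw [e0, map_zero, add_zero, hb]
      exact monMap_single hN'L' ⟨(l : M), h⟩ 1
    · rw [dif_neg (show ((Multiplicative.toAdd (Multiplicative.ofAdd l) : L') : M) ∉ N' from h),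
        map_zero, zero_add, hb]
      obtain ⟨h2, h3⟩ := mem_sdiff hdiff l.2 h
      have e0 : c (fL (MonoidAlgebra.single (Multiplicative.ofAdd l) 1)) =
          MonoidAlgebra.single (Multiplicative.ofAdd (⟨(l : M), h2⟩ : L)) 1 := by
        simp only [fL, AlgHom.toLinearMap_apply]
        rw [faceAlgHom_single_of_mem _ hL l h2]
        conv_lhs => rw [hbL]
        simp only [c, bL, Module.Basis.constr_basis]
        exact if_neg h3
      rw [e0]
      exact monMap_single hL.le ⟨(l : M), h2⟩ 1
  have e2 : c ∘ₗ i = 0 := by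
    refine (MonoidAlgebra.basis (Multiplicative N) (Z.{u})).ext fun n => ?_
    obtain ⟨n, rfl⟩ := Multiplicative.ofAdd.surjective n
    rw [MonoidAlgebra.basis_apply _ _, LinearMap.comp_apply, LinearMap.zero_apply]
    simp only [i, AlgHom.toLinearMap_apply]
    rw [monMap_single, hbL]
    simp only [c, bL, Module.Basis.constr_basis]
    exact if_pos n.2
  refine ⟨r.rTensor R x, ?_⟩
  have ha : incR R hN'L' (r.rTensor R x) = x := by
    have t1 : i'.rTensor R (r.rTensor R x) + iL.rTensor R (c.rTensor R (fL.rTensor R x)) = x := by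
      have := LinearMap.congr_fun (congrArg (LinearMap.rTensor R) e1) x
      simpa [LinearMap.rTensor_comp] using this
    have t2 : c.rTensor R (fL.rTensor R x) = 0 := by
      have h1 : fL.rTensor R x = i.rTensor R y := hxy
      have h2 := LinearMap.congr_fun (congrArg (LinearMap.rTensor R) e2) y
      rw [h1]
      simpa [LinearMap.rTensor_comp] using h2
    rw [t2, map_zero, add_zero] at t1
    exact t1
  refine ⟨ha, hinj ?_⟩
  rw [← hcomm', ha, hxy]

end Ring

lemma fstA_face {N F : AddSubmonoid M} (hF : IsFace N F) (T : Over S) :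
    (AMonS.faceMap S hF ▷ T).left ≫ fstA N T = fstA F T ≫ (AMon.faceMap (Z.{u}) hF).left := by
  have h := congrArg CommaMorphism.left (whiskerRight_fst (AMonS.faceMap S hF) T)
  simp only [Over.comp_left] at h
  rw [fstA, fstA, reassoc_of% h, Category.assoc]
  congr 1
  exact pullback.lift_fst _ _ _

lemma chart_face {R : Type u} [CommRing R] (str : Spec (CommRingCat.of R) ⟶ S) {N F : AddSubmonoid M}
    (hF : IsFace N F) :
    (chart str F).inv ≫ (AMonS.faceMap S hF ▷ Over.mk str).left =
      Spec.map (CommRingCat.ofHom (faceR R hF)) ≫ (chart str N).inv := by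
  apply (isPullback_amon N (Over.mk str)).hom_ext
  · have h := congrArg CommaMorphism.left (whiskerRight_snd (AMonS.faceMap S hF) (Over.mk str))
    simp only [Over.comp_left] at h
    rw [Category.assoc, h, chart_inv_snd, Category.assoc, chart_inv_snd, ← Spec.map_comp,
      ← CommRingCat.ofHom_comp]
    congr 2
    ext r
    simp
  · rw [Category.assoc, fstA_face, reassoc_of% chart_inv_fstA, Category.assoc, chart_inv_fstA,
      AMon.faceMap_left, ← Spec.map_comp]
    erw [← Spec.map_comp]
    rw [← CommRingCat.ofHom_comp, ← CommRingCat.ofHom_comp]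
    congr 2

variable (hNL : N ≤ L) (hN'L' : N' ≤ L') (hL : IsFace L' L) (hN : IsFace N' N)
  (hdiff : (N' : Set M) = (L' : Set M) \ ((L : Set M) \ (N : Set M)))

include hdiff

theorem isPushout_left_affine {R : Type u} [CommRing R] (str : Spec (CommRingCat.of R) ⟶ S) :
    IsPushout (AMonS.faceMap S hL ▷ Over.mk str).left
      (AMonS.map S (AddSubmonoid.inclusion hNL) ▷ Over.mk str).left
      (AMonS.map S (AddSubmonoid.inclusion hN'L') ▷ Over.mk str).left
      (AMonS.faceMap S hN ▷ Over.mk str).left :=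
  (Groth.Agent.H7Flat.RingSq.isPushout (ringSq_face R hNL hN'L' hL hN hdiff)).of_iso
    (chart str _).symm (chart str _).symm (chart str _).symm (chart str _).symm
    (chart_face str hL).symm (chart_map str _).symm (chart_map str _).symm (chart_face str hN).symm

omit hdiff in
/-- Every point of `A(N) ×_S T` over an open `V` is in the piece `A(N) ×_S V`. -/
lemma exists_lift_piece (N : Type) [AddCommMonoid N] {T : Over S} {V : T.left.Opens} (hV : IsAffineOpen V) :
    ∃ l : (((snd (AMonS S N) T).left ⁻¹ᵁ V : (AMonS S N ⊗ T).left.Opens) : Scheme.{u}) ⟶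
        (AMonS S N ⊗ Over.mk (hV.fromSpec ≫ T.hom)).left,
      l ≫ (AMonS S N ◁ (Over.homMk hV.fromSpec rfl : Over.mk (hV.fromSpec ≫ T.hom) ⟶ T)).left =
        ((snd (AMonS S N) T).left ⁻¹ᵁ V).ι := by
  let j : Over.mk (hV.fromSpec ≫ T.hom) ⟶ T := Over.homMk hV.fromSpec rfl
  let W := (snd (AMonS S N) T).left ⁻¹ᵁ V
  let w : (W : Scheme.{u}) ⟶ (Over.mk (hV.fromSpec ≫ T.hom)).left :=
    ((snd (AMonS S N) T).left ∣_ V) ≫ hV.isoSpec.hom
  have hw : w ≫ hV.fromSpec = W.ι ≫ (snd (AMonS S N) T).left := by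
    simp [w, W, IsAffineOpen.isoSpec_hom_fromSpec]
  have hl : w ≫ (Over.mk (hV.fromSpec ≫ T.hom)).hom ≫ toZ S = (W.ι ≫ fstA N T) ≫ (AMon (Z.{u}) N).hom :=
    specULiftZIsTerminal.hom_ext _ _
  refine ⟨(isPullback_amon N (Over.mk (hV.fromSpec ≫ T.hom))).lift w (W.ι ≫ fstA N T) hl, ?_⟩
  apply (isPullback_amon N T).hom_ext
  · have e := congrArg CommaMorphism.left (whiskerLeft_snd (AMonS S N) j)
    simp only [Over.comp_left] at e
    rw [Category.assoc, e, IsPullback.lift_fst_assoc]
    exact hw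
  · rw [Category.assoc, fstA_whiskerLeft, IsPullback.lift_snd]

omit hdiff in
lemma isPullback_whiskerLeft (N : Type) [AddCommMonoid N] {T T' : Over S} (t : T' ⟶ T) :
    IsPullback (AMonS S N ◁ t).left (snd (AMonS S N) T').left (snd (AMonS S N) T).left t.left := by
  have e := congrArg CommaMorphism.left (whiskerLeft_snd (AMonS S N) t)
  simp only [Over.comp_left] at e
  refine IsPullback.of_right ?_ e (isPullback_amon N T).flip
  rw [fstA_whiskerLeft]
  convert (isPullback_amon N T').flip using 1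
  rw [← Category.assoc, Over.w]

omit hdiff in
lemma isOpenImmersion_whiskerLeft (N : Type) [AddCommMonoid N] {T T' : Over S} (t : T' ⟶ T)
    [IsOpenImmersion t.left] : IsOpenImmersion (AMonS S N ◁ t).left :=
  MorphismProperty.of_isPullback (isPullback_whiskerLeft N t).flip ‹_›

variable (T : Over S)

theorem hom_ext_facePush {X : Scheme.{u}} {f g : (AMonS S N' ⊗ T).left ⟶ X}
    (h1 : (AMonS.map S (AddSubmonoid.inclusion hN'L') ▷ T).left ≫ f =
      (AMonS.map S (AddSubmonoid.inclusion hN'L') ▷ T).left ≫ g)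
    (h2 : (AMonS.faceMap S hN ▷ T).left ≫ f = (AMonS.faceMap S hN ▷ T).left ≫ g)
    (hNL : N ≤ L) (hL : IsFace L' L) : f = g := by
  refine Groth.Agent.H7Flat.hom_ext_local fun x => ?_
  obtain ⟨V, hV, hxV, -⟩ := exists_isAffineOpen_mem_and_subset
    (x := (snd (AMonS S N') T).left x) (U := ⊤) trivial
  let j : Over.mk (hV.fromSpec ≫ T.hom) ⟶ T := Over.homMk hV.fromSpec rfl
  haveI : IsOpenImmersion j.left := inferInstanceAs (IsOpenImmersion hV.fromSpec)
  obtain ⟨l, hl⟩ := exists_lift_piece (S := S) N' hV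
  refine ⟨_, (AMonS S N' ◁ j).left, isOpenImmersion_whiskerLeft _ j, ⟨l ⟨x, hxV⟩, ?_⟩, ?_⟩
  · rw [← Scheme.Hom.comp_apply, hl]; rfl
  · refine (isPushout_left_affine hNL hN'L' hL hN hdiff _).hom_ext ?_ ?_
    · have e := congrArg CommaMorphism.left (whisker_exchange (AMonS.map S (AddSubmonoid.inclusion hN'L')) j)
      simp only [Over.comp_left] at e
      rw [← Category.assoc, ← Category.assoc, ← e, Category.assoc, Category.assoc, h1]
    · have e := congrArg CommaMorphism.left (whisker_exchange (AMonS.faceMap S hN) j)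
      simp only [Over.comp_left] at e
      rw [← Category.assoc, ← Category.assoc, ← e, Category.assoc, Category.assoc, h2]

theorem exists_desc_facePush {X : Scheme.{u}} (g : (AMonS S L' ⊗ T).left ⟶ X)
    (g' : (AMonS S N ⊗ T).left ⟶ X)
    (w : (AMonS.faceMap S hL ▷ T).left ≫ g = (AMonS.map S (AddSubmonoid.inclusion hNL) ▷ T).left ≫ g') :
    ∃ m : (AMonS S N' ⊗ T).left ⟶ X,
      (AMonS.map S (AddSubmonoid.inclusion hN'L') ▷ T).left ≫ m = g ∧
      (AMonS.faceMap S hN ▷ T).left ≫ m = g' := by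
  let To : T.left.affineOpens → Over S := fun V => Over.mk (V.2.fromSpec ≫ T.hom)
  let jo : ∀ V, To V ⟶ T := fun V => Over.homMk V.2.fromSpec rfl
  have hpo := fun V : T.left.affineOpens => isPushout_left_affine hNL hN'L' hL hN hdiff (V.2.fromSpec ≫ T.hom)
  have wV : ∀ V, (AMonS.faceMap S hL ▷ To V).left ≫ ((AMonS S L' ◁ jo V).left ≫ g) =
      (AMonS.map S (AddSubmonoid.inclusion hNL) ▷ To V).left ≫ ((AMonS S N ◁ jo V).left ≫ g') := by
    intro V
    have e1 := congrArg CommaMorphism.left (whisker_exchange (AMonS.faceMap S hL) (jo V))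
    have e2 := congrArg CommaMorphism.left (whisker_exchange (AMonS.map S (AddSubmonoid.inclusion hNL)) (jo V))
    simp only [Over.comp_left] at e1 e2
    rw [← Category.assoc, ← e1, ← Category.assoc, ← e2, Category.assoc, Category.assoc, w]
  let m : ∀ V, (AMonS S N' ⊗ To V).left ⟶ X := fun V => (hpo V).desc _ _ (wV V)
  haveI : ∀ V, IsOpenImmersion (AMonS S N' ◁ jo V).left := fun V => by
    haveI : IsOpenImmersion (jo V).left := inferInstanceAs (IsOpenImmersion V.2.fromSpec)
    exact isOpenImmersion_whiskerLeft _ (jo V)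
  have hrange : ∀ (V : T.left.affineOpens) (x : (AMonS S N' ⊗ T).left),
      x ∈ Set.range (AMonS S N' ◁ jo V).left ↔ (snd (AMonS S N') T).left x ∈ V.1 := by
    intro V x
    constructor
    · rintro ⟨y, rfl⟩
      rw [← Scheme.Hom.comp_apply, (isPullback_whiskerLeft (S := S) N' (jo V)).w, Scheme.Hom.comp_apply]
      exact V.2.range_fromSpec.le ⟨_, rfl⟩
    · intro hx
      obtain ⟨l, hl⟩ := exists_lift_piece (S := S) N' V.2
      exact ⟨l ⟨x, hx⟩, by rw [← Scheme.Hom.comp_apply, hl]; rfl⟩
  obtain ⟨φ, hφ⟩ := Groth.Agent.H7Flat.exists_glue (fun V => (AMonS S N' ⊗ To V).left)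
      (fun V => (AMonS S N' ◁ jo V).left) m
    (fun x => by
      obtain ⟨V, hV, hx, -⟩ := exists_isAffineOpen_mem_and_subset
        (x := (snd (AMonS S N') T).left x) (U := ⊤) trivial
      exact ⟨⟨V, hV⟩, (hrange ⟨V, hV⟩ x).2 hx⟩)
    (fun A B x hA hB => by
      obtain ⟨W, hW, hxW, hWle⟩ := exists_isAffineOpen_mem_and_subset
        (x := (snd (AMonS S N') T).left x) (U := A.1 ⊓ B.1) ⟨(hrange A x).1 hA, (hrange B x).1 hB⟩
      have key : ∀ V : T.left.affineOpens, W ≤ V.1 → ∃ u : (AMonS S N' ⊗ To ⟨W, hW⟩).left ⟶ (AMonS S N' ⊗ To V).left,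
          u ≫ (AMonS S N' ◁ jo V).left = (AMonS S N' ◁ jo ⟨W, hW⟩).left ∧ u ≫ m V = m ⟨W, hW⟩ := by
        intro V hle
        let k : To ⟨W, hW⟩ ⟶ To V := Over.homMk (Spec.map (T.left.presheaf.map (homOfLE hle).op)) (by
          change _ ≫ V.2.fromSpec ≫ T.hom = hW.fromSpec ≫ T.hom
          rw [← Category.assoc, V.2.map_fromSpec hW])
        have hk : k ≫ jo V = jo ⟨W, hW⟩ := Over.OverMorphism.ext (V.2.map_fromSpec hW _)
        refine ⟨(AMonS S N' ◁ k).left, ?_, ?_⟩
        · rw [← Over.comp_left, ← MonoidalCategory.whiskerLeft_comp, hk]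
        · refine (hpo ⟨W, hW⟩).hom_ext ?_ ?_
          · have e := congrArg CommaMorphism.left (whisker_exchange (AMonS.map S (AddSubmonoid.inclusion hN'L')) k)
            simp only [Over.comp_left] at e
            rw [← Category.assoc, ← e, Category.assoc, IsPushout.inl_desc, IsPushout.inl_desc,
              ← Category.assoc, ← Over.comp_left, ← MonoidalCategory.whiskerLeft_comp, hk]
          · have e := congrArg CommaMorphism.left (whisker_exchange (AMonS.faceMap S hN) k)
            simp only [Over.comp_left] at e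
            rw [← Category.assoc, ← e, Category.assoc, IsPushout.inr_desc, IsPushout.inr_desc,
              ← Category.assoc, ← Over.comp_left, ← MonoidalCategory.whiskerLeft_comp, hk]
      obtain ⟨u, hu, hu'⟩ := key A (hWle.trans inf_le_left)
      obtain ⟨v, hv, hv'⟩ := key B (hWle.trans inf_le_right)
      exact ⟨⟨W, hW⟩, u, v, hu, hv, hu', hv', (hrange ⟨W, hW⟩ x).2 hxW⟩)
  refine ⟨φ, ?_, ?_⟩
  · refine Groth.Agent.H7Flat.hom_ext_local fun x => ?_
    obtain ⟨V, hV, hxV, -⟩ := exists_isAffineOpen_mem_and_subset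
      (x := (snd (AMonS S L') T).left x) (U := ⊤) trivial
    haveI : IsOpenImmersion (jo ⟨V, hV⟩).left := inferInstanceAs (IsOpenImmersion hV.fromSpec)
    obtain ⟨l, hl⟩ := exists_lift_piece (S := S) L' hV
    refine ⟨_, (AMonS S L' ◁ jo ⟨V, hV⟩).left, isOpenImmersion_whiskerLeft _ _, ⟨l ⟨x, hxV⟩, ?_⟩, ?_⟩
    · rw [← Scheme.Hom.comp_apply, hl]; rfl
    · have e := congrArg CommaMorphism.left
        (whisker_exchange (AMonS.map S (AddSubmonoid.inclusion hN'L')) (jo ⟨V, hV⟩))
      simp only [Over.comp_left] at e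
      rw [← Category.assoc, e, Category.assoc, hφ, IsPushout.inl_desc]
  · refine Groth.Agent.H7Flat.hom_ext_local fun x => ?_
    obtain ⟨V, hV, hxV, -⟩ := exists_isAffineOpen_mem_and_subset
      (x := (snd (AMonS S N) T).left x) (U := ⊤) trivial
    haveI : IsOpenImmersion (jo ⟨V, hV⟩).left := inferInstanceAs (IsOpenImmersion hV.fromSpec)
    obtain ⟨l, hl⟩ := exists_lift_piece (S := S) N hV
    refine ⟨_, (AMonS S N ◁ jo ⟨V, hV⟩).left, isOpenImmersion_whiskerLeft _ _, ⟨l ⟨x, hxV⟩, ?_⟩, ?_⟩
    · rw [← Scheme.Hom.comp_apply, hl]; rfl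
    · have e := congrArg CommaMorphism.left
        (whisker_exchange (AMonS.faceMap S hN) (jo ⟨V, hV⟩))
      simp only [Over.comp_left] at e
      rw [← Category.assoc, e, Category.assoc, hφ, IsPushout.inr_desc]

theorem isPushout_facePush :
    IsPushout (AMonS.faceMap S hL ▷ T) (AMonS.map S (AddSubmonoid.inclusion hNL) ▷ T)
      (AMonS.map S (AddSubmonoid.inclusion hN'L') ▷ T) (AMonS.faceMap S hN ▷ T) := by
  have w : (AMonS.faceMap S hL ▷ T) ≫ (AMonS.map S (AddSubmonoid.inclusion hN'L') ▷ T) =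
      (AMonS.map S (AddSubmonoid.inclusion hNL) ▷ T) ≫ (AMonS.faceMap S hN ▷ T) := by
    apply Over.OverMorphism.ext
    simp only [Over.comp_left]
    refine Groth.Agent.H7Flat.hom_ext_local fun x => ?_
    obtain ⟨V, hV, hxV, -⟩ := exists_isAffineOpen_mem_and_subset
      (x := (snd (AMonS S L) T).left x) (U := ⊤) trivial
    let j : Over.mk (hV.fromSpec ≫ T.hom) ⟶ T := Over.homMk hV.fromSpec rfl
    haveI : IsOpenImmersion j.left := inferInstanceAs (IsOpenImmersion hV.fromSpec)
    obtain ⟨l, hl⟩ := exists_lift_piece (S := S) L hV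
    refine ⟨_, (AMonS S L ◁ j).left, isOpenImmersion_whiskerLeft _ j, ⟨l ⟨x, hxV⟩, ?_⟩, ?_⟩
    · rw [← Scheme.Hom.comp_apply, hl]; rfl
    · simp only [← Over.comp_left]
      rw [whisker_exchange_assoc, whisker_exchange, whisker_exchange_assoc, whisker_exchange]
      simp only [Over.comp_left]
      rw [← Category.assoc, ← Category.assoc, (isPushout_left_affine hNL hN'L' hL hN hdiff _).w]
  have wl : ∀ s : PushoutCocone (AMonS.faceMap S hL ▷ T) (AMonS.map S (AddSubmonoid.inclusion hNL) ▷ T),
      ∃ m : AMonS S N' ⊗ T ⟶ s.pt, (AMonS.map S (AddSubmonoid.inclusion hN'L') ▷ T) ≫ m = s.inl ∧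
        (AMonS.faceMap S hN ▷ T) ≫ m = s.inr := by
    intro s
    have hc := congrArg CommaMorphism.left s.condition
    simp only [Over.comp_left] at hc
    obtain ⟨m, h1, h2⟩ := exists_desc_facePush hNL hN'L' hL hN hdiff T s.inl.left s.inr.left hc
    have hm : m ≫ s.pt.hom = (AMonS S N' ⊗ T).hom := by
      refine hom_ext_facePush hN'L' hN hdiff T ?_ ?_ hNL hL
      · rw [← Category.assoc, h1, Over.w, Over.w]
      · rw [← Category.assoc, h2, Over.w, Over.w]
    exact ⟨Over.homMk m hm, Over.OverMorphism.ext h1, Over.OverMorphism.ext h2⟩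
  refine ⟨⟨w⟩, ⟨PushoutCocone.IsColimit.mk w (fun s => (wl s).choose) (fun s => (wl s).choose_spec.1)
    (fun s => (wl s).choose_spec.2) fun s m h1 h2 => ?_⟩⟩
  apply Over.OverMorphism.ext
  refine hom_ext_facePush hN'L' hN hdiff T ?_ ?_ hNL hL
  · rw [← Over.comp_left, ← Over.comp_left, h1, (wl s).choose_spec.1]
  · rw [← Over.comp_left, ← Over.comp_left, h2, (wl s).choose_spec.2]

end Groth.Agent.H15Magnet
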