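import Groth.Agent.H15Magnet.Factor
import Mathlib.AlgebraicGeometry.AffineTransitionLimit
import Mathlib.CategoryTheory.Limits.Types.Filtered
import Mathlib.Algebra.Category.Ring.FilteredColimits

/-!
# Attractors and directed unions of magnets
-/

set_option autoImplicit false
set_option linter.unusedSectionVars false
set_option linter.style.haveILetI false
set_option backward.isDefEq.respectTransparency false
set_option backward.isDefEq.respectTransparency.types false

universe u

noncomputable section

open CategoryTheory CategoryTheory.Limits MonoidalCategory CartesianMonoidalCategory MonObj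
  AlgebraicGeometry Opposite Magnet
open scoped TensorProduct

namespace Groth.Agent.H15Magnet

attribute [local instance] ULift.algebra'

variable {M : Type} [AddCommMonoid M] (R : Type u) [CommRing R]

lemma monMap_id {N : Type} [AddCommMonoid N] :
    monMap.{u} (AddMonoidHom.id N) = AlgHom.id (Z.{u}) _ :=
  MonoidAlgebra.algHom_ext (fun m => by simp [monMap]) (AlgHom.ext fun r => by simp [monMap])

lemma monMap_comp {N L K : Type} [AddCommMonoid N] [AddCommMonoid L] [AddCommMonoid K] (g : L →+ K) (f : N →+ L) :
    monMap.{u} (g.comp f) = (monMap.{u} g).comp (monMap.{u} f) :=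
  MonoidAlgebra.algHom_ext (fun m => by simp [monMap]) (AlgHom.ext fun r => by simp [monMap])

/-- `N ↦ ℤ[N] ⊗ R`. -/
def algFun : AddSubmonoid M ⥤ CommRingCat.{u} where
  obj N := CommRingCat.of (MonoidAlgebra (Z.{u}) (Multiplicative N) ⊗[Z.{u}] R)
  map {N L} h := CommRingCat.ofHom (Algebra.TensorProduct.map
    (monMap.{u} (AddSubmonoid.inclusion h.le)) (AlgHom.id (Z.{u}) R)).toRingHom
  map_id N := by
    have e : AddSubmonoid.inclusion (𝟙 N : N ⟶ N).le = AddMonoidHom.id N := AddMonoidHom.ext fun _ => rfl
    rw [e, monMap_id, Algebra.TensorProduct.map_id]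
    rfl
  map_comp {N L K} h h' := by
    have e : AddSubmonoid.inclusion (h ≫ h').le =
        (AddSubmonoid.inclusion h'.le).comp (AddSubmonoid.inclusion h.le) := AddMonoidHom.ext fun _ => rfl
    rw [e, monMap_comp]
    refine CommRingCat.hom_ext (RingHom.ext fun x => ?_)
    induction x using TensorProduct.induction_on with
    | zero => simp
    | tmul x r => rfl
    | add x y hx hy => simp only [map_add, hx, hy]

variable {J : Type u} [Preorder J] [IsDirected J (· ≤ ·)] [Nonempty J] {N : J → AddSubmonoid M} (hN : Monotone N)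

/-- The cocone with point `ℤ[⋃ N] ⊗ R`. -/
def unionCocone : Cocone (hN.functor ⋙ algFun R) where
  pt := (algFun R).obj (⨆ i, N i)
  «ι» :=
    { app := fun i => (algFun R).map (homOfLE (le_iSup N i))
      naturality := fun i j f => by
        dsimp
        rw [← Functor.map_comp, Category.comp_id]
        rfl }

lemma mem_range_stage (v : MonoidAlgebra (Z.{u}) (Multiplicative (⨆ i, N i : AddSubmonoid M)) ⊗[Z.{u}] R)
    (hN : Monotone N) : ∃ i w, (unionCocone R hN).ι.app i w = v := by
  have hmap : ∀ (i j : J) (h : i ≤ j) w, (unionCocone R hN).ι.app j ((hN.functor ⋙ algFun R).map (homOfLE h) w) =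
      (unionCocone R hN).ι.app i w := fun i j h w =>
    ConcreteCategory.congr_hom ((unionCocone R hN).w (homOfLE h)) w
  have hadd : ∀ (v v' : (unionCocone R hN).pt), (∃ i w, (unionCocone R hN).ι.app i w = v) → (∃ i w, (unionCocone R hN).ι.app i w = v') →
      ∃ i w, (unionCocone R hN).ι.app i w = v + v' := by
    rintro v v' ⟨i, w, rfl⟩ ⟨j, w', rfl⟩
    obtain ⟨k, hik, hjk⟩ := exists_ge_ge i j
    refine ⟨k, (hN.functor ⋙ algFun R).map (homOfLE hik) w + (hN.functor ⋙ algFun R).map (homOfLE hjk) w', ?_⟩
    exact (map_add _ _ _).trans (congrArg₂ (· + ·) (hmap _ _ hik w) (hmap _ _ hjk w'))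
  induction v using TensorProduct.induction_on with
  | zero => exact ⟨Classical.arbitrary J, 0, map_zero _⟩
  | tmul x r =>
    induction x using MonoidAlgebra.induction_linear with
    | zero => exact ⟨Classical.arbitrary J, 0, (map_zero _).trans (TensorProduct.zero_tmul _ _).symm⟩
    | add x y hx hy =>
      rw [TensorProduct.add_tmul]
      exact hadd _ _ hx hy
    | single m c =>
      obtain ⟨i, hi⟩ := (AddSubmonoid.mem_iSup_of_directed hN.directed_le).1 m.toAdd.2
      refine ⟨i, MonoidAlgebra.single (Multiplicative.ofAdd ⟨(m.toAdd : M), hi⟩) c ⊗ₜ r, ?_⟩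
      change Algebra.TensorProduct.map _ _ (_ ⊗ₜ r) = _
      rw [Algebra.TensorProduct.map_tmul]
      simp [monMap]
      rfl
  | add x y hx hy => exact hadd _ _ hx hy

/-- `ℤ[⋃ N] ⊗ R` is the colimit. -/
def isColimitUnion : IsColimit (unionCocone R hN) := by
  haveI : IsFiltered J := isFiltered_of_directed_le_nonempty J
  haveI : ReflectsColimit (hN.functor ⋙ algFun R) (forget CommRingCat.{u}) :=
    reflectsColimit_of_reflectsIsomorphisms _ _
  apply isColimitOfReflects (forget CommRingCat.{u})
  refine Types.FilteredColimit.isColimitOf' _ _ (fun v => ?_) (fun i x y h => ⟨i, 𝟙 i, ?_⟩)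
  · obtain ⟨i, w, hw⟩ := mem_range_stage R v hN
    exact ⟨i, w, hw.symm⟩
  · exact congrArg _ (monMap_tensor_injective (R := R) (AddSubmonoid.inclusion (le_iSup N i))
      (AddSubmonoid.inclusion_injective _) h)

variable {S : Scheme.{u}} {X : Over S}

include hN in
/-- A map out of `A(⋃ N)` over an affine base comes from a stage. -/
theorem exists_stage [LocallyOfFinitePresentation X.hom] (str : Spec (CommRingCat.of R) ⟶ S)
    (ω : AMonS S (⨆ i, N i : AddSubmonoid M) ⊗ Over.mk str ⟶ X) :
    ∃ (i : J) (ψ : AMonS S (N i) ⊗ Over.mk str ⟶ X),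
      (AMonS.map S (AddSubmonoid.inclusion (le_iSup N i)) ▷ _) ≫ ψ = ω := by
  haveI : IsFiltered J := isFiltered_of_directed_le_nonempty J
  let D : Jᵒᵖ ⥤ Scheme.{u} := (hN.functor ⋙ algFun R).op ⋙ Scheme.Spec
  let incl : ∀ N' : AddSubmonoid M, R →+* MonoidAlgebra (Z.{u}) (Multiplicative N') ⊗[Z.{u}] R := fun N' =>
    (Algebra.TensorProduct.includeRight (R := Z.{u})
      (A := MonoidAlgebra (Z.{u}) (Multiplicative N')) (B := R)).toRingHom
  let t : D ⟶ (Functor.const Jᵒᵖ).obj S :=
    { app := fun i => Spec.map (CommRingCat.ofHom (incl (N i.unop))) ≫ str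
      naturality := fun i j f => by
        simp only [D, Functor.const_obj_map, Category.comp_id, Functor.comp_map, Functor.op_map,
          Scheme.Spec_map, Quiver.Hom.unop_op]
        rw [← Spec.map_comp_assoc]
        congr 2
        refine CommRingCat.hom_ext (RingHom.ext fun r => ?_)
        simp [incl, algFun] }
  have : ∀ {i j : Jᵒᵖ} (f : i ⟶ j), IsAffineHom (D.map f) := fun f => by dsimp [D]; infer_instance
  have : ∀ i, CompactSpace (D.obj i) := fun i => by dsimp [D]; infer_instance
  have : ∀ i, QuasiSeparatedSpace (D.obj i) := fun i => by dsimp [D]; infer_instance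
  obtain ⟨i, g, hg, hg'⟩ := Scheme.exists_π_app_comp_eq_of_locallyOfFinitePresentation D t X.hom
    (Scheme.Spec.mapCone (unionCocone R hN).op) (isLimitOfPreserves Scheme.Spec (isColimitUnion R hN).op)
    ((chart str _).inv ≫ ω.left) (by
      refine NatTrans.ext (funext fun i => ?_)
      dsimp [t, unionCocone, algFun]
      rw [Category.assoc, Over.w ω, ← Over.w (snd (AMonS S (⨆ i, N i : AddSubmonoid M)) (Over.mk str))]
      rw [reassoc_of% chart_inv_snd, ← Spec.map_comp_assoc]
      congr 2
      refine CommRingCat.hom_ext (RingHom.ext fun r => ?_)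
      simp [incl])
  refine ⟨i.unop, Over.homMk ((chart str (N i.unop)).hom ≫ g) ?_, ?_⟩
  · rw [Category.assoc, hg', ← Over.w (snd (AMonS S (N i.unop)) (Over.mk str))]
    have := congrArg (fun k => (chart str (N i.unop)).hom ≫ k ≫ str) (chart_inv_snd str (N i.unop))
    simp only [Category.assoc, Iso.hom_inv_id_assoc] at this
    exact this.symm
  · apply Over.OverMorphism.ext
    rw [← cancel_epi (chart str _).inv, Over.comp_left, reassoc_of% (chart_map str _)]
    simp only [Over.homMk_left, Iso.inv_hom_id_assoc]
    exact hg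

end Groth.Agent.H15Magnet
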