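import Groth.Agent.H15Magnet.EtaleLift
import Groth.Agent.H15Magnet.Degree
import Groth.Agent.H15Magnet.Closed
import Groth.Agent.S18290
import Groth.Agent.H15Magnet.FacePush

/-!
# Attractors of étale maps and faces
-/

set_option autoImplicit false
set_option linter.unusedSectionVars false
set_option linter.style.haveILetI false
set_option backward.isDefEq.respectTransparency false
set_option backward.isDefEq.respectTransparency.types false

universe u

noncomputable section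

open CategoryTheory CategoryTheory.Limits MonoidalCategory CartesianMonoidalCategory MonObj
  AlgebraicGeometry Opposite Magnet
open scoped TensorProduct

namespace Groth.Agent.H15Magnet.EtaleFace

attribute [local instance] ULift.algebra'
attribute [local instance 100000] rmCommRing rmSemiring rmNonAssoc

open EtaleLift in
/-- Uniqueness over an affine base. -/
theorem unique_affine {S : Scheme.{u}} {M : Type} [AddCommGroup M] {N Q : AddSubmonoid M} {X U : Over S}
    (aU : MonAct (AMonS S M) U) (f : U ⟶ X) [FormallyUnramified f.left] (hQ : IsFace N Q) (ψ : M →+ ℤ)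
    (hψ : ∀ n ∈ N, 0 ≤ ψ n ∧ (ψ n = 0 ↔ n ∈ Q)) {R : Type u} [CommRing R]
    (str : Spec (CommRingCat.of R) ⟶ S) (x x' : (attr aU N).obj (op (Over.mk str)))
    (h1 : x.1 ≫ f = x'.1 ≫ f)
    (h2 : (AMonS.faceMap S hQ ▷ Over.mk str) ≫ x.1 = (AMonS.faceMap S hQ ▷ Over.mk str) ≫ x'.1) : x = x' := by
  have key : ∀ j, PtR str (qchi N R ψ j) (qphi N R ψ j) ≫ x.1 =
      PtR str (qchi N R ψ j) (qphi N R ψ j) ≫ x'.1 := by
    intro j
    induction j with
    | zero =>
      rw [PtR, ← mpt_face_zero hQ hψ _ _ (fun n hn => qchi_eq_zero (j := 0) (by simpa using hn)),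
        ← lift_whiskerRight, Category.assoc, Category.assoc, h2]
    | succ j ih =>
      apply Over.OverMorphism.ext
      let t := Spec.map (CommRingCat.ofHom (tr N R ψ j))
      haveI : IsClosedImmersion t := IsClosedImmersion.spec_of_surjective _ (tr_surjective j)
      have e : ∀ z : (attr aU N).obj (op (Over.mk str)),
          spR str (tr N R ψ j) (trd_qphi j) ≫ PtR str (qchi N R ψ (j + 1)) (qphi N R ψ (j + 1)) ≫ z.1 =
            PtR str (qchi N R ψ j) (qphi N R ψ j) ≫ z.1 := fun z => by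
        rw [← Category.assoc, spR_PtR, trd_qchi]
      refine FormallyUnramified.hom_ext t (isNilpotent_ker_specMap _ (ker_tr_sq j)) f.left
        (congrArg CommaMorphism.left ((e x).trans (ih.trans (e x').symm))) ?_
      have := congrArg (fun z => PtR str (qchi N R ψ (j + 1)) (qphi N R ψ (j + 1)) ≫ z) h1
      rw [← Category.assoc, ← Category.assoc] at this
      exact congrArg CommaMorphism.left this
  refine Formal.ext aU N ψ (fun n hn => (hψ n hn).1) x x' fun B _ y ξ t k hk => ?_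
  obtain ⟨φ', rfl, ht⟩ := exists_tpR str y t
  rw [eq_of_heq ht]
  obtain ⟨g, hg1, hg2, -⟩ := exists_factor (R := R) (φ := φ') hk
  have e : spR str g hg1 ≫ PtR str (qchi N R ψ k) (qphi N R ψ k) = PtR str ξ φ' := by rw [spR_PtR, hg2]
  change PtR str ξ φ' ≫ x.1 = PtR str ξ φ' ≫ x'.1
  rw [← e, Category.assoc, Category.assoc, key]

variable {S : Scheme.{u}} {M : Type} [AddCommMonoid M] {X : Over S} (a : MonAct (AMonS S M) X)

/-- Faces are compatible with inclusions. -/
theorem faceMap_map {N Q N' Q' : AddSubmonoid M} (hQ : IsFace N Q) (hQ' : IsFace N' Q') (hN : N' ≤ N)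
    (hQQ : Q' ≤ Q) (hmem : ∀ n ∈ N', n ∈ Q → n ∈ Q') :
    AMonS.map S (AddSubmonoid.inclusion hQQ) ≫ AMonS.faceMap S hQ' =
      AMonS.faceMap S hQ ≫ AMonS.map S (AddSubmonoid.inclusion hN) := by
  classical
  refine pt_ext fun B _ y j => ?_
  obtain ⟨χ, hχ⟩ := mpt_surjective y j
  rw [← hχ, ← Category.assoc, mpt_map, mpt_face, ← Category.assoc, mpt_face, mpt_map]
  refine congrArg (mpt y) (MonoidHom.ext fun n => ?_)
  obtain ⟨n, rfl⟩ := Multiplicative.ofAdd.surjective n
  change charRingHom _ (faceMonoidHom (Z.{u}) hQ' (Multiplicative.ofAdd n)) =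
    charRingHom χ (faceMonoidHom (Z.{u}) hQ (Multiplicative.ofAdd (AddSubmonoid.inclusion hN n)))
  by_cases h : (n : M) ∈ Q'
  · rw [faceMonoidHom_apply_of_mem _ hQ' n h,
      faceMonoidHom_apply_of_mem _ hQ (AddSubmonoid.inclusion hN n) (hQQ h), charRingHom_single,
      charRingHom_single]
    rfl
  · rw [faceMonoidHom_apply_of_not_mem _ hQ' n h,
      faceMonoidHom_apply_of_not_mem _ hQ (AddSubmonoid.inclusion hN n) (fun h' => h (hmem _ n.2 h')),
      map_zero, map_zero]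

theorem attrFace_attrMap {N Q N' Q' : AddSubmonoid M} (hQ : IsFace N Q) (hQ' : IsFace N' Q') (hN : N' ≤ N)
    (hQQ : Q' ≤ Q) (hmem : ∀ n ∈ N', n ∈ Q → n ∈ Q') (T : Over S) (x : (attr a N').obj (op T)) :
    (attrFace a hQ).app (op T) ((attrMap a hN).app (op T) x) =
      (attrMap a hQQ).app (op T) ((attrFace a hQ').app (op T) x) := by
  apply Subtype.ext
  change (AMonS.faceMap S hQ ▷ T) ≫ (AMonS.map S (AddSubmonoid.inclusion hN) ▷ T) ≫ x.1 =
    (AMonS.map S (AddSubmonoid.inclusion hQQ) ▷ T) ≫ (AMonS.faceMap S hQ' ▷ T) ≫ x.1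
  rw [← comp_whiskerRight_assoc, ← comp_whiskerRight_assoc, faceMap_map hQ hQ' hN hQQ hmem]

theorem attrMap_injective [IsSeparated X.hom] {N L : AddSubmonoid M} (h : N ≤ L) (T : Over S) :
    Function.Injective (fun x => (attrMap a h).app (op T) x) := fun x y e =>
  attrToX_injective a N T ((attrMap_comp_attrToX a h T x).symm.trans
    ((congrArg (fun z => (attrToX a L).app (op T) z) e).trans (attrMap_comp_attrToX a h T y)))

theorem attrMap_attrMap {N L K : AddSubmonoid M} (h : N ≤ L) (h' : L ≤ K) (T : Over S)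
    (x : (attr a N).obj (op T)) :
    (attrMap a h').app (op T) ((attrMap a h).app (op T) x) = (attrMap a (h.trans h')).app (op T) x := by
  apply Subtype.ext
  change (AMonS.map S (AddSubmonoid.inclusion h') ▷ T) ≫ (AMonS.map S (AddSubmonoid.inclusion h) ▷ T) ≫ x.1 =
    (AMonS.map S (AddSubmonoid.inclusion (h.trans h')) ▷ T) ≫ x.1
  rw [← comp_whiskerRight_assoc, ← AMonS.map_comp]
  rfl

/-- A point of an attractor of a union comes from a stage. -/
theorem exists_stage_eq [IsSeparated X.hom] [LocallyOfFinitePresentation X.hom] {J : Type} [Preorder J]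
    [IsDirected J (· ≤ ·)] [Nonempty J] (N : J → AddSubmonoid M) (hN : Monotone N) {L : AddSubmonoid M}
    (hL : ⨆ i, N i = L) (T : Over S) [IsAffine T.left] (x : (attr a L).obj (op T)) :
    ∃ (i : J) (h : N i ≤ L) (y : (attr a (N i)).obj (op T)), (attrMap a h).app (op T) y = x := by
  subst hL
  obtain ⟨i, y, hy⟩ := Groth.Agent.S18290.result S M X a N hN T x
  exact ⟨i, le_iSup N i, y, hy⟩

end Groth.Agent.H15Magnet.EtaleFace

namespace Groth.Agent.H15Magnet.EtaleFace

variable {S : Scheme.{u}} {M : Type} [AddCommGroup M] [AddGroup.FG M] {X U : Over S}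
  (aX : MonAct (AMonS S M) X) (aU : MonAct (AMonS S M) U) (f : U ⟶ X)
  (hf : MonAct.IsEquivariant aU aX f) {N Q : AddSubmonoid M} (hQ : IsFace N Q)
  [IsAffineHom U.hom] [Etale f.left]

/-- The property of the square over `T`. -/
def Good (T : Over S) : Prop :=
  ∀ (φ : (attr aX N).obj (op T)) (p : (attr aU Q).obj (op T)),
    (AMonS.faceMap S hQ ▷ T) ≫ φ.1 = p.1 ≫ f →
    ∃! x : (attr aU N).obj (op T), x.1 ≫ f = φ.1 ∧ (AMonS.faceMap S hQ ▷ T) ≫ x.1 = p.1

include hf in
theorem good_affine_fg (hN : N.FG) {R : Type u} [CommRing R] (str : Spec (CommRingCat.of R) ⟶ S) :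
    Good aX aU f hQ (Over.mk str) := by
  intro φ p hc
  obtain ⟨ψ, hψ⟩ := exists_degree hN hQ
  obtain ⟨x, hx1, hx2⟩ := EtaleLift.exists_lift_attr str aX aU f hf hQ hψ φ p hc
  exact ⟨x, ⟨hx1, hx2⟩, fun x' h => unique_affine aU f hQ ψ hψ str x' x (h.1.trans hx1.symm) (h.2.trans hx2.symm)⟩

include hf in
theorem good_affine (h : N.FG ∨ (IsSeparated X.hom ∧ LocallyOfFinitePresentation X.hom))
    {R : Type u} [CommRing R] (str : Spec (CommRingCat.of R) ⟶ S) : Good aX aU f hQ (Over.mk str) := by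
  rcases h with h | ⟨hs, hl⟩
  · exact good_affine_fg aX aU f hf hQ h str
  haveI : IsAffine (Over.mk str).left := inferInstanceAs (IsAffine (Spec (CommRingCat.of R)))
  haveI : LocallyOfFinitePresentation U.hom := by rw [← Over.w f]; infer_instance
  let J := {L : AddSubmonoid M // L.FG ∧ L ≤ N}
  haveI : Nonempty J := ⟨⟨⊥, AddSubmonoid.FG.bot, bot_le⟩⟩
  haveI : IsDirected J (· ≤ ·) :=
    ⟨fun A B => ⟨⟨A.1 ⊔ B.1, A.2.1.sup B.2.1, sup_le A.2.2 B.2.2⟩, (le_sup_left : A.1 ≤ A.1 ⊔ B.1), (le_sup_right : B.1 ≤ A.1 ⊔ B.1)⟩⟩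
  have hJN : ⨆ L : J, L.1 = N := le_antisymm (iSup_le fun L => L.2.2) fun n hn =>
    AddSubmonoid.mem_iSup_of_mem (⟨AddSubmonoid.closure {n}, ⟨{n}, by simp⟩,
      AddSubmonoid.closure_le.2 (by simpa using hn)⟩ : J) (AddSubmonoid.subset_closure rfl)
  have hJQ : ⨆ L : J, L.1 ⊓ Q = Q := le_antisymm (iSup_le fun L => inf_le_right) fun n hn =>
    AddSubmonoid.mem_iSup_of_mem (⟨AddSubmonoid.closure {n}, ⟨{n}, by simp⟩,
      AddSubmonoid.closure_le.2 (by simpa using hQ.le hn)⟩ : J) ⟨AddSubmonoid.subset_closure rfl, hn⟩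
  have hmono : Monotone (fun L : J => L.1) := fun A B h => h
  have hmonoQ : Monotone (fun L : J => L.1 ⊓ Q) := fun A B h => inf_le_inf_right Q h
  have hface : ∀ L : J, IsFace L.1 (L.1 ⊓ Q) := fun L => ⟨inf_le_left, fun x hx y hy hxy => by
    have h2 := hQ.mem_of_add_mem x (L.2.2 hx) y (L.2.2 hy) hxy.2
    exact ⟨⟨hx, h2.1⟩, ⟨hy, h2.2⟩⟩⟩
  have hsq : ∀ (L : J) {Y : Over S} (a : MonAct (AMonS S M) Y) (z : (attr a L.1).obj (op (Over.mk str))),
      (attrFace a hQ).app (op (Over.mk str)) ((attrMap a L.2.2).app (op (Over.mk str)) z) =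
        (attrMap a (inf_le_right : L.1 ⊓ Q ≤ Q)).app (op (Over.mk str)) ((attrFace a (hface L)).app (op (Over.mk str)) z) :=
    fun L Y a z => attrFace_attrMap a hQ (hface L) L.2.2 inf_le_right (fun n hn hn' => ⟨hn, hn'⟩) _ z
  intro φ p hc
  obtain ⟨i, _, φi, hφi⟩ := exists_stage_eq aX (fun L : J => L.1) hmono hJN _ φ
  obtain ⟨j, _, pj, hpj⟩ := exists_stage_eq aU (fun L : J => L.1 ⊓ Q) hmonoQ hJQ _ p
  obtain ⟨k, hik, hjk⟩ := exists_ge_ge i j
  let φk := (attrMap aX (hmono hik)).app (op (Over.mk str)) φi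
  let pk := (attrMap aU (hmonoQ hjk)).app (op (Over.mk str)) pj
  have hφk : (attrMap aX k.2.2).app (op (Over.mk str)) φk = φ := (attrMap_attrMap aX _ _ _ _).trans hφi
  have hpk : (attrMap aU (inf_le_right : k.1 ⊓ Q ≤ Q)).app (op (Over.mk str)) pk = p :=
    (attrMap_attrMap aU _ _ _ _).trans hpj
  have hck : (AMonS.faceMap S (hface k) ▷ Over.mk str) ≫ φk.1 = pk.1 ≫ f := by
    refine congrArg Subtype.val (a₁ := (attrFace aX (hface k)).app (op (Over.mk str)) φk)
      (a₂ := (MonAct.eqvHom.postcomp (subAct S M (k.1 ⊓ Q)) f hf).app (op (Over.mk str)) pk) ?_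
    refine attrMap_injective aX (inf_le_right : k.1 ⊓ Q ≤ Q) _ ?_
    refine (hsq k aX φk).symm.trans ?_
    rw [hφk]
    apply Subtype.ext
    refine hc.trans ?_
    rw [← hpk]
    exact Category.assoc _ _ _
  obtain ⟨xk, ⟨hx1, hx2⟩, -⟩ := good_affine_fg aX aU f hf (hface k) k.2.1 str φk pk hck
  have huniq : ∀ x x' : (attr aU N).obj (op (Over.mk str)), x.1 ≫ f = x'.1 ≫ f →
      (AMonS.faceMap S hQ ▷ Over.mk str) ≫ x.1 = (AMonS.faceMap S hQ ▷ Over.mk str) ≫ x'.1 → x = x' := by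
    intro x x' e1 e2
    obtain ⟨i₁, _, x₁, hx₁⟩ := exists_stage_eq aU (fun L : J => L.1) hmono hJN _ x
    obtain ⟨i₂, _, x₂, hx₂⟩ := exists_stage_eq aU (fun L : J => L.1) hmono hJN _ x'
    obtain ⟨l, h₁, h₂⟩ := exists_ge_ge i₁ i₂
    let y₁ := (attrMap aU (hmono h₁)).app (op (Over.mk str)) x₁
    let y₂ := (attrMap aU (hmono h₂)).app (op (Over.mk str)) x₂
    have hy₁ : (attrMap aU l.2.2).app (op (Over.mk str)) y₁ = x := (attrMap_attrMap aU _ _ _ _).trans hx₁
    have hy₂ : (attrMap aU l.2.2).app (op (Over.mk str)) y₂ = x' := (attrMap_attrMap aU _ _ _ _).trans hx₂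
    rw [← hy₁, ← hy₂]
    congr 1
    obtain ⟨ψ, hψ⟩ := exists_degree l.2.1 (hface l)
    refine unique_affine aU f (hface l) ψ hψ str y₁ y₂ ?_ ?_
    · refine congrArg Subtype.val (a₁ := (MonAct.eqvHom.postcomp (subAct S M l.1) f hf).app (op (Over.mk str)) y₁)
        (a₂ := (MonAct.eqvHom.postcomp (subAct S M l.1) f hf).app (op (Over.mk str)) y₂) ?_
      refine attrMap_injective aX l.2.2 _ (Subtype.ext ?_)
      rw [← hy₁, ← hy₂] at e1
      exact (Category.assoc _ _ _).symm.trans (e1.trans (Category.assoc _ _ _))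
    · refine congrArg Subtype.val (a₁ := (attrFace aU (hface l)).app (op (Over.mk str)) y₁)
        (a₂ := (attrFace aU (hface l)).app (op (Over.mk str)) y₂) ?_
      refine attrMap_injective aU (inf_le_right : l.1 ⊓ Q ≤ Q) _ ?_
      refine (hsq l aU y₁).symm.trans (Eq.trans ?_ (hsq l aU y₂))
      rw [hy₁, hy₂]
      exact Subtype.ext e2
  let x := (attrMap aU k.2.2).app (op (Over.mk str)) xk
  have h1 : x.1 ≫ f = φ.1 := by
    rw [← hφk]
    refine (Category.assoc _ _ _).trans ?_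
    rw [hx1]
    rfl
  have h2 : (AMonS.faceMap S hQ ▷ Over.mk str) ≫ x.1 = p.1 := by
    refine congrArg Subtype.val (a₁ := (attrFace aU hQ).app (op (Over.mk str)) x) (a₂ := p) ?_
    refine (hsq k aU xk).trans (Eq.trans ?_ hpk)
    congr 1
    exact Subtype.ext hx2
  exact ⟨x, ⟨h1, h2⟩, fun x' h => huniq x' x (h.1.trans h1.symm) (h.2.trans h2.symm)⟩

include hf in
theorem good (h : N.FG ∨ (IsSeparated X.hom ∧ LocallyOfFinitePresentation X.hom)) (T : Over S) :
    Good aX aU f hQ T := by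
  intro φ p hc
  have hres : ∀ {T' : Over S} (t : T' ⟶ T),
      (AMonS.faceMap S hQ ▷ T') ≫ ((attr aX N).map t.op φ).1 = ((attr aU Q).map t.op p).1 ≫ f := by
    intro T' t
    change (AMonS.faceMap S hQ ▷ T') ≫ (AMonS S N ◁ t) ≫ φ.1 = ((AMonS S Q ◁ t) ≫ p.1) ≫ f
    rw [← whisker_exchange_assoc, hc, Category.assoc]
  have hmapf : ∀ {T' : Over S} (t : T' ⟶ T) (x : (attr aU N).obj (op T)),
      x.1 ≫ f = φ.1 → ((attr aU N).map t.op x).1 ≫ f = ((attr aX N).map t.op φ).1 := by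
    intro T' t x hx
    change ((AMonS S N ◁ t) ≫ x.1) ≫ f = (AMonS S N ◁ t) ≫ φ.1
    rw [Category.assoc, hx]
  have hmapp : ∀ {T' : Over S} (t : T' ⟶ T) (x : (attr aU N).obj (op T)),
      (AMonS.faceMap S hQ ▷ T) ≫ x.1 = p.1 →
      (AMonS.faceMap S hQ ▷ T') ≫ ((attr aU N).map t.op x).1 = ((attr aU Q).map t.op p).1 := by
    intro T' t x hx
    change (AMonS.faceMap S hQ ▷ T') ≫ (AMonS S N ◁ t) ≫ x.1 = (AMonS S Q ◁ t) ≫ p.1
    rw [← whisker_exchange_assoc, hx]
  obtain ⟨ZU, iU, e, -, -⟩ := Groth.Agent.H15Magnet.exists_closed aU N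
  have hloc : ∀ (R : Type u) [CommRing R] (str : Spec (CommRingCat.of R) ⟶ S) (t : Over.mk str ⟶ T),
      ∃ z : Over.mk str ⟶ ZU,
        ((e.homEquiv z).1 ≫ f = ((attr aX N).map t.op φ).1 ∧
          (AMonS.faceMap S hQ ▷ Over.mk str) ≫ (e.homEquiv z).1 = ((attr aU Q).map t.op p).1) ∧
        ∀ z' : Over.mk str ⟶ ZU, (e.homEquiv z').1 ≫ f = ((attr aX N).map t.op φ).1 →
          (AMonS.faceMap S hQ ▷ Over.mk str) ≫ (e.homEquiv z').1 = ((attr aU Q).map t.op p).1 → z' = z := by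
    intro R _ str t
    obtain ⟨x, hx, hu⟩ := good_affine aX aU f hf hQ h str _ _ (hres t)
    obtain ⟨z, rfl⟩ := e.homEquiv.surjective x
    exact ⟨z, hx, fun z' a b => e.homEquiv.injective (hu _ ⟨a, b⟩)⟩
  choose zl hzl hzu using hloc
  -- compatibility under restriction
  have hnat : ∀ (R R' : Type u) [CommRing R] [CommRing R'] (str : Spec (CommRingCat.of R) ⟶ S)
      (str' : Spec (CommRingCat.of R') ⟶ S) (t : Over.mk str ⟶ T) (k : Over.mk str' ⟶ Over.mk str),
      k ≫ zl R str t = zl R' str' (k ≫ t) := by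
    intro R R' _ _ str str' t k
    refine hzu R' str' (k ≫ t) _ ?_ ?_
    · rw [e.homEquiv_comp]
      change ((AMonS S N ◁ k) ≫ _) ≫ f = (AMonS S N ◁ (k ≫ t)) ≫ φ.1
      rw [Category.assoc, (hzl R str t).1, MonoidalCategory.whiskerLeft_comp, Category.assoc]
      rfl
    · rw [e.homEquiv_comp]
      change (AMonS.faceMap S hQ ▷ _) ≫ (AMonS S N ◁ k) ≫ _ = (AMonS S Q ◁ (k ≫ t)) ≫ p.1
      rw [← whisker_exchange_assoc, (hzl R str t).2, MonoidalCategory.whiskerLeft_comp, Category.assoc]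
      rfl
  let To : T.left.affineOpens → Over S := fun V => Over.mk (V.2.fromSpec ≫ T.hom)
  let jo : ∀ V, To V ⟶ T := fun V => Over.homMk V.2.fromSpec rfl
  let zV : ∀ V : T.left.affineOpens, To V ⟶ ZU := fun V => zl _ _ (jo V)
  obtain ⟨m, hm⟩ := Groth.Agent.H7Flat.exists_glue (fun V : T.left.affineOpens => Spec Γ(T.left, V))
      (fun V => V.2.fromSpec) (fun V => (zV V).left)
    (fun x => by
      obtain ⟨V, hV, hx, -⟩ := exists_isAffineOpen_mem_and_subset (x := x) (U := ⊤) trivial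
      exact ⟨⟨V, hV⟩, hV.range_fromSpec.ge hx⟩)
    (fun A B x hA hB => by
      obtain ⟨W, hW, hxW, hWle⟩ := exists_isAffineOpen_mem_and_subset (x := x) (U := A.1 ⊓ B.1)
        ⟨A.2.range_fromSpec.le hA, B.2.range_fromSpec.le hB⟩
      have key : ∀ V : T.left.affineOpens, W ≤ V.1 → ∃ u : Spec Γ(T.left, W) ⟶ Spec Γ(T.left, V),
          u ≫ V.2.fromSpec = hW.fromSpec ∧ u ≫ (zV V).left = (zV ⟨W, hW⟩).left := by
        intro V hle
        let k : To ⟨W, hW⟩ ⟶ To V := Over.homMk (Spec.map (T.left.presheaf.map (homOfLE hle).op)) (by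
          change _ ≫ V.2.fromSpec ≫ T.hom = hW.fromSpec ≫ T.hom
          rw [← Category.assoc, V.2.map_fromSpec hW])
        have hk : k ≫ jo V = jo ⟨W, hW⟩ := Over.OverMorphism.ext (V.2.map_fromSpec hW _)
        refine ⟨k.left, V.2.map_fromSpec hW _, ?_⟩
        have h1 := hnat _ _ _ _ (jo V) k
        rw [hk] at h1
        exact congrArg CommaMorphism.left h1
      obtain ⟨u, hu, hu'⟩ := key A (hWle.trans inf_le_left)
      obtain ⟨v, hv, hv'⟩ := key B (hWle.trans inf_le_right)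
      exact ⟨⟨W, hW⟩, u, v, hu, hv, hu', hv', hW.range_fromSpec.ge hxW⟩)
  have hmS : m ≫ ZU.hom = T.hom := by
    refine Groth.Agent.H7Flat.hom_ext_local fun x => ?_
    obtain ⟨V, hV, hx, -⟩ := exists_isAffineOpen_mem_and_subset (x := x) (U := ⊤) trivial
    exact ⟨_, hV.fromSpec, inferInstance, hV.range_fromSpec.ge hx,
      ((Category.assoc _ _ _).symm.trans (congrArg (· ≫ ZU.hom) (hm ⟨V, hV⟩))).trans (Over.w (zV ⟨V, hV⟩))⟩
  let z : T ⟶ ZU := Over.homMk m hmS
  have hz : ∀ (R : Type u) [CommRing R] (str : Spec (CommRingCat.of R) ⟶ S) (t : Over.mk str ⟶ T),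
      t ≫ z = zl R str t := by
    intro R _ str t
    apply Over.OverMorphism.ext
    refine Groth.Agent.H7Flat.hom_ext_local fun x => ?_
    obtain ⟨V, hV, hx, -⟩ := exists_isAffineOpen_mem_and_subset (x := t.left x) (U := ⊤) trivial
    obtain ⟨_, ⟨g, rfl⟩, hxg, hgV⟩ := PrimeSpectrum.isTopologicalBasis_basic_opens.exists_subset_of_mem_open
      (show x ∈ ((t.left ⁻¹ᵁ V : TopologicalSpace.Opens _) : Set _) from hx) (TopologicalSpace.Opens.isOpen _)
    let l : Spec (CommRingCat.of (Localization.Away g)) ⟶ Spec (CommRingCat.of R) :=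
      Spec.map (CommRingCat.ofHom (algebraMap R (Localization.Away g)))
    haveI : IsOpenImmersion l := IsOpenImmersion.of_isLocalization g
    have hl : Set.range l = (PrimeSpectrum.basicOpen g : Set (PrimeSpectrum R)) :=
      PrimeSpectrum.localization_away_comap_range (Localization.Away g) g
    let k : Over.mk (l ≫ str) ⟶ Over.mk str := Over.homMk l
    let lV := IsOpenImmersion.lift hV.fromSpec (l ≫ t.left) (by
      rw [hV.range_fromSpec]
      rintro _ ⟨y, rfl⟩
      exact hgV (hl.le ⟨y, rfl⟩))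
    let kV : Over.mk (l ≫ str) ⟶ To ⟨V, hV⟩ := Over.homMk lV (by
      change lV ≫ hV.fromSpec ≫ T.hom = l ≫ str
      rw [IsOpenImmersion.lift_fac_assoc, Category.assoc, Over.w]
      rfl)
    have hkt : k ≫ t = kV ≫ jo ⟨V, hV⟩ := Over.OverMorphism.ext (IsOpenImmersion.lift_fac _ _ _).symm
    refine ⟨_, l, inferInstance, hl.ge hxg, ?_⟩
    have h1 : k ≫ zl R str t = kV ≫ zV ⟨V, hV⟩ := by
      rw [hnat]
      refine Eq.trans ?_ (hnat _ _ _ _ (jo ⟨V, hV⟩) kV).symm
      rw [hkt]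
    have h2 : kV ≫ zV ⟨V, hV⟩ = k ≫ t ≫ z := by
      rw [← Category.assoc k, hkt, Category.assoc]
      congr 1
      exact Over.OverMorphism.ext (hm ⟨V, hV⟩).symm
    exact congrArg CommaMorphism.left (h2.symm.trans h1.symm)
  refine ⟨e.homEquiv z, ⟨?_, ?_⟩, fun x' hx' => ?_⟩
  · refine tensor_ext fun B _ y χ t => ?_
    have h1 := (hzl B y t).1
    rw [← hz B y t, e.homEquiv_comp] at h1
    change ((AMonS S N ◁ t) ≫ _) ≫ f = (AMonS S N ◁ t) ≫ φ.1 at h1
    rw [← Category.id_comp t, ← lift_whiskerLeft, Category.assoc, Category.assoc, ← h1]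
    simp only [Category.assoc]
  · refine tensor_ext fun B _ y χ t => ?_
    have h1 := (hzl B y t).2
    rw [← hz B y t, e.homEquiv_comp] at h1
    change (AMonS.faceMap S hQ ▷ _) ≫ (AMonS S N ◁ t) ≫ _ = (AMonS S Q ◁ t) ≫ p.1 at h1
    rw [← whisker_exchange_assoc] at h1
    rw [← Category.id_comp t, ← lift_whiskerLeft, Category.assoc, Category.assoc, h1]
  · obtain ⟨z', rfl⟩ := e.homEquiv.surjective x'
    congr 1
    refine over_ext fun R _ str t => ?_
    rw [hz R str t]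
    refine hzu R str t _ ?_ ?_
    · rw [e.homEquiv_comp]
      exact hmapf t _ hx'.1
    · rw [e.homEquiv_comp]
      exact hmapp t _ hx'.2

end Groth.Agent.H15Magnet.EtaleFace
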