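import Groth.Agent.S18244
import Groth.Agent.H15Magnet.ComapGroup

/-!
# The deformation retraction of an attractor onto its face part lies in the fibres of the projection
-/

set_option autoImplicit false
set_option linter.style.haveILetI false
universe u

open CategoryTheory MonoidalCategory CartesianMonoidalCategory MonObj AlgebraicGeometry Opposite Magnet

namespace Groth.Agent.H15Magnet

variable {S : Scheme.{u}} {M : Type}

section
variable [AddCommMonoid M] {N F : AddSubmonoid M}

/-- Multiplying a point of the face by a point trivial on the face does nothing. -/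
theorem face_mul (hF : IsFace N F) {T : Over S} (b : T ⟶ AMonS S F) (p : T ⟶ AMonS S N)
    (hp : p ≫ AMonS.map S (AddSubmonoid.inclusion hF.le) = toUnit T ≫ η[AMonS S F]) :
    (b ≫ AMonS.faceMap S hF) * p = b ≫ AMonS.faceMap S hF := by
  classical
  refine pt_ext fun B _ y j => ?_
  rw [MonObj.comp_mul]
  obtain ⟨χ, hχ⟩ := mpt_surjective y (j ≫ b)
  obtain ⟨π, hπ⟩ := mpt_surjective y (j ≫ p)
  have hπ1 : π.comp (AddMonoidHom.toMultiplicative (AddSubmonoid.inclusion hF.le)) = 1 := by
    apply mpt_injective y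
    rw [← mpt_map, hπ, Category.assoc, hp, ← Category.assoc, comp_toUnit, mpt_one]
  rw [← Category.assoc, ← hχ, ← hπ, mpt_face, ← mpt_mul]
  refine congrArg (mpt y) (MonoidHom.ext fun m => ?_)
  obtain ⟨m, rfl⟩ := Multiplicative.ofAdd.surjective m
  simp only [MonoidHom.mul_apply, MonoidHom.coe_comp, Function.comp_apply]
  by_cases h : (m : M) ∈ F
  · have h1 : π (Multiplicative.ofAdd m) = 1 :=
      DFunLike.congr_fun hπ1 (Multiplicative.ofAdd ⟨m, h⟩)
    rw [h1, _root_.mul_one]
  · rw [faceMonoidHom_apply_of_not_mem _ hF m h]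
    simp

variable {X : Over S} (a : MonAct (AMonS S M) X)

theorem attrFace_δ (hF : IsFace N F) (T : Over S) (p : T ⟶ AMonS S N)
    (hp : p ≫ AMonS.map S (AddSubmonoid.inclusion hF.le) = toUnit T ≫ η[AMonS S F])
    (x : (attr a N).obj (op T)) :
    (attrFace a hF).app (op T) (Groth.Agent.S18244.Aux.δ a T p x) = (attrFace a hF).app (op T) x := by
  apply Subtype.ext
  refine hom_ext_lift₂ fun Q b q => ?_
  change lift b q ≫ (AMonS.faceMap S hF ▷ T) ≫ lift (fst _ _ * (snd _ _ ≫ p)) (snd _ _) ≫ x.1 =
    lift b q ≫ (AMonS.faceMap S hF ▷ T) ≫ x.1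
  simp only [lift_whiskerRight_assoc, comp_lift_assoc, MonObj.comp_mul, lift_fst, lift_snd, lift_snd_assoc]
  rw [face_mul hF b (q ≫ p) (by rw [Category.assoc, hp, ← Category.assoc, comp_toUnit])]

end

/-- A deformation retraction of `X^N` onto `X^F` in the fibres of the projection. -/
theorem exists_homotopy [AddCommGroup M] [AddGroup.FG M] {X : Over S} (a : MonAct (AMonS S M) X)
    {N F : AddSubmonoid M} (hN : N.FG) (hF : IsFace N F) :
    ∃ δ : ∀ T : Over S, (attr a N).obj (op T) → Γ(T.left, ⊤) → (attr a N).obj (op T),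
      (∀ (T T' : Over S) (t : T' ⟶ T) (x : (attr a N).obj (op T)) (c : Γ(T.left, ⊤)),
          δ T' ((attr a N).map t.op x) (t.left.appTop c) = (attr a N).map t.op (δ T x c)) ∧
      (∀ (T : Over S) (x : (attr a N).obj (op T)),
          δ T x 0 = (attrMap a hF.le).app (op T) ((attrFace a hF).app (op T) x)) ∧
      (∀ (T : Over S) (x : (attr a N).obj (op T)), δ T x 1 = x) ∧
      (∀ (T : Over S) (x : (attr a N).obj (op T)) (c : Γ(T.left, ⊤)),
          (attrFace a hF).app (op T) (δ T x c) = (attrFace a hF).app (op T) x) := by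
  classical
  obtain ⟨ψ, hψ⟩ := exists_degree hN hF
  let P : ∀ T : Over S, Γ(T.left, ⊤) → (T ⟶ AMonS S N) := fun T c =>
    gpt T (S18244.Aux.powChar ψ (fun n hn => (hψ n hn).1) c)
  have hP : ∀ (T : Over S) (c : Γ(T.left, ⊤)),
      P T c ≫ AMonS.map S (AddSubmonoid.inclusion hF.le) = toUnit T ≫ η[AMonS S F] := fun T c => by
    rw [← gpt_one]
    refine (gpt_map _ _ _).trans (congrArg (gpt T) (MonoidHom.ext fun m => ?_))
    have hm := (hψ _ (hF.le (Multiplicative.toAdd m).2)).2.2 (Multiplicative.toAdd m).2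
    simp [S18244.Aux.powChar, hm]
  refine ⟨fun T x c => S18244.Aux.δ a T (P T c) x, fun T T' t x c => ?_, fun T x => ?_, fun T x => ?_,
    fun T x c => attrFace_δ a hF T _ (hP T c) x⟩
  · have h : t ≫ P T c = P T' (t.left.appTop c) := by
      refine (comp_gpt t _).trans (congrArg (gpt T') (MonoidHom.ext fun m => ?_))
      exact map_pow t.left.appTop.hom c _
    change S18244.Aux.δ a T' (P T' (t.left.appTop c)) _ = _
    rw [← h]
    exact S18244.Aux.δ_map a t _ x
  · have h : P T 0 = (toUnit T ≫ η[AMonS S F]) ≫ AMonS.faceMap S hF := by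
      rw [← gpt_one]
      refine pt_ext fun B _ y j => ?_
      rw [← Category.assoc, comp_gpt, gpt_eq_mpt, comp_gpt, gpt_eq_mpt, mpt_face]
      refine congrArg (mpt y) (MonoidHom.ext fun m => ?_)
      obtain ⟨m, rfl⟩ := Multiplicative.ofAdd.surjective m
      simp only [MonoidHom.coe_comp, Function.comp_apply, S18244.Aux.powChar, MonoidHom.coe_mk, OneHom.coe_mk,
        toAdd_ofAdd]
      by_cases hm : (m : M) ∈ F
      · rw [((hψ _ m.2).2).2 hm, faceMonoidHom_apply_of_mem _ hF m hm]
        simp
      · rw [faceMonoidHom_apply_of_not_mem _ hF m hm, zero_pow]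
        · simp
        · have h1 := (hψ _ m.2).1
          have h2 : ψ (m : M) ≠ 0 := fun h => hm ((hψ _ m.2).2.1 h)
          omega
    change S18244.Aux.δ a T (P T 0) x = _
    rw [h]
    exact S18244.Aux.δ_zero a hF T x
  · have h : P T 1 = toUnit T ≫ η[AMonS S N] := by
      rw [← gpt_one]
      exact congrArg (gpt T) (MonoidHom.ext fun m => one_pow _)
    change S18244.Aux.δ a T (P T 1) x = _
    rw [h]
    exact S18244.Aux.δ_one a T x

end Groth.Agent.H15Magnet
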