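import Groth.Agent.H15Magnet.Chart

/-!
# Points of `A(M)_U` over affine schemes
-/

set_option autoImplicit false
set_option linter.unusedSectionVars false
set_option linter.style.haveILetI false
set_option backward.isDefEq.respectTransparency false

universe u

noncomputable section

open CategoryTheory CategoryTheory.Limits MonoidalCategory CartesianMonoidalCategory MonObj
  AlgebraicGeometry Opposite Magnet

namespace Groth.Agent.H15Magnet

variable {U : Scheme.{u}} {M N : Type} [AddCommMonoid M] [AddCommMonoid N] {B : Type u} [CommRing B]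

/-- the ring map defined by a character -/
def charRingHom (χ : Multiplicative M →* B) :
    MonoidAlgebra (Z.{u}) (Multiplicative M) →+* B :=
  MonoidAlgebra.liftNCRingHom ((Int.castRingHom B).comp ULift.ringEquiv.toRingHom) χ
    fun _ _ => Commute.all _ _

@[simp] theorem charRingHom_single (χ : Multiplicative M →* B) (m : Multiplicative M) :
    charRingHom χ (MonoidAlgebra.single m 1) = χ m := by
  simp [charRingHom]

theorem charRingHom_ext {f g : MonoidAlgebra (Z.{u}) (Multiplicative M) →+* B}
    (h : ∀ m, f (MonoidAlgebra.single m 1) = g (MonoidAlgebra.single m 1)) : f = g := by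
  refine MonoidAlgebra.ringHom_ext (fun r => ?_) h
  have := RingHom.ext_int
    ((f.comp MonoidAlgebra.singleOneRingHom).comp ULift.ringEquiv.symm.toRingHom)
    ((g.comp MonoidAlgebra.singleOneRingHom).comp ULift.ringEquiv.symm.toRingHom)
  exact RingHom.congr_fun this r.down

theorem comp_charRingHom {B' : Type u} [CommRing B'] (φ : B →+* B') (χ : Multiplicative M →* B) :
    φ.comp (charRingHom χ) = charRingHom (φ.toMonoidHom.comp χ) :=
  charRingHom_ext fun m => by simp

/-- the point of `A(M)_U` given by a character -/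
def mpt (y : Spec (CommRingCat.of B) ⟶ U) (χ : Multiplicative M →* B) :
    Over.mk y ⟶ AMonS U M :=
  Over.homMk (pullback.lift (Spec.map (CommRingCat.ofHom (charRingHom χ))) y
    (specULiftZIsTerminal.hom_ext _ _)) (pullback.lift_snd _ _ _)

theorem mpt_fst (y : Spec (CommRingCat.of B) ⟶ U) (χ : Multiplicative M →* B) :
    (mpt y χ).left ≫ pullback.fst _ _ = Spec.map (CommRingCat.ofHom (charRingHom χ)) :=
  pullback.lift_fst _ _ _

theorem amonS_hom_ext {T : Over U} {a b : T ⟶ AMonS U M}
    (h : a.left ≫ pullback.fst (AMon (Z.{u}) M).hom (toZ U) =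
      b.left ≫ pullback.fst (AMon (Z.{u}) M).hom (toZ U)) : a = b :=
  Over.OverMorphism.ext (pullback.hom_ext h ((Over.w a).trans (Over.w b).symm))

theorem mpt_surjective (y : Spec (CommRingCat.of B) ⟶ U) (g : Over.mk y ⟶ AMonS U M) :
    ∃ χ : Multiplicative M →* B, mpt y χ = g := by
  obtain ⟨α, hα⟩ := Spec.map_surjective (g.left ≫ pullback.fst _ _)
  refine ⟨α.hom.toMonoidHom.comp (MonoidAlgebra.of (Z.{u}) (Multiplicative M)), amonS_hom_ext ?_⟩
  refine (mpt_fst _ _).trans (Eq.trans ?_ hα)
  congr 1
  exact CommRingCat.hom_ext (charRingHom_ext fun m => by simp)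

theorem homEquiv_left_fst {S S' : Scheme.{u}} (f : S' ⟶ S) (X : Over S) (T : Over S')
    (a : (Over.map f).obj T ⟶ X) :
    ((Over.mapPullbackAdj f).homEquiv T X a).left ≫ pullback.fst X.hom f = a.left := by
  simp [Over.mapPullbackAdj]

/-- `ℤ`-algebra structure used for points -/
@[reducible] def algZ (B : Type u) [CommRing B] : Algebra (Z.{u}) B :=
  ((Int.castRingHom B).comp ULift.ringEquiv.toRingHom).toAlgebra

theorem mpt_mul (y : Spec (CommRingCat.of B) ⟶ U) (χ χ' : Multiplicative M →* B) :
    mpt y (χ * χ') = mpt y χ * mpt y χ' := by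
  letI := algZ B
  let t := toZ U
  let e : (Over.map t).obj (Over.mk y) ⟶
      (Spec (CommRingCat.of B)).asOver (Spec (CommRingCat.of (Z.{u}))) :=
    Over.homMk (𝟙 _) (specULiftZIsTerminal.hom_ext _ _)
  let L : (Multiplicative M →* B) →
      WithConv (MonoidAlgebra (Z.{u}) (Multiplicative M) →ₐ[Z.{u}] B) := fun ψ =>
    WithConv.toConv (MonoidAlgebra.lift (Z.{u}) B (Multiplicative M) ψ)
  have key : ∀ ψ, mpt y ψ = (Over.mapPullbackAdj t).homEquiv (Over.mk y) (AMon (Z.{u}) M)
      (e ≫ Spec.mapMulEquiv (L ψ)) := fun ψ => by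
    refine amonS_hom_ext ?_
    rw [mpt_fst, homEquiv_left_fst]
    refine Eq.trans ?_ (Category.id_comp _).symm
    change Spec.map _ = Spec.map _
    exact congrArg Spec.map (CommRingCat.hom_ext (charRingHom_ext fun m => by
      simp [L]; simp [Algebra.smul_def]))
  have hL : L (χ * χ') = L χ * L χ' := by
    apply WithConv.ofConv_injective
    refine AlgHom.coe_ringHom_injective (charRingHom_ext fun m => ?_)
    simp [L, AlgHom.convMul_apply, MonoidAlgebra.comul_single]
    simp [Algebra.smul_def]
  rw [key, key, key, hL, map_mul, MonObj.comp_mul]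
  simp only [Adjunction.homEquiv_unit, Functor.map_mul, MonObj.comp_mul]

theorem mpt_pow (y : Spec (CommRingCat.of B) ⟶ U) (χ : Multiplicative M →* B) (n : ℕ) :
    mpt y (χ ^ (n + 1)) = mpt y χ ^ (n + 1) := by
  induction n with
  | zero => rw [pow_one, pow_one]
  | succ n ih => rw [pow_succ, mpt_mul, ih, ← pow_succ]

theorem mpt_map (f : N →+ M) (y : Spec (CommRingCat.of B) ⟶ U) (χ : Multiplicative M →* B) :
    mpt y χ ≫ AMonS.map U f = mpt y (χ.comp (AddMonoidHom.toMultiplicative f)) := by
  refine amonS_hom_ext ?_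
  rw [mpt_fst, Over.comp_left, Category.assoc]
  refine (congrArg ((mpt y χ).left ≫ ·) (pullback.lift_fst _ _ _)).trans ?_
  rw [← Category.assoc, mpt_fst]
  refine (congrArg (Spec.map (CommRingCat.ofHom (charRingHom χ)) ≫ ·) (AMon.map_left (Z.{u}) f)).trans ?_
  refine (Spec.map_comp _ _).symm.trans (congrArg Spec.map (CommRingCat.hom_ext (charRingHom_ext fun m => ?_)))
  simp

end Groth.Agent.H15Magnet
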