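import Groth.Prelude.Def_Magnet
import Mathlib.CategoryTheory.Sites.Canonical

/-!
# Sheaf property of equivariant maps and of fixed points, for subcanonical topologies
-/

set_option autoImplicit false
set_option linter.unusedSectionVars false

universe v u

open CategoryTheory MonoidalCategory CartesianMonoidalCategory MonObj Opposite Magnet

namespace Groth.Agent.H15Magnet

variable {C : Type u} [Category.{v} C] [CartesianMonoidalCategory C] {A B X : C} [MonObj A]
  (J : GrothendieckTopology C) [J.Subcanonical]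

lemma isSheafFor_yoneda {T : C} (R : Sieve T) (hR : R ∈ J T) (Z : C) :
    Presieve.IsSheafFor (yoneda.obj Z) R.arrows :=
  GrothendieckTopology.Subcanonical.isSheaf_of_isRepresentable (J := J) (yoneda.obj Z) R hR

lemma ext_cover {T Z : C} {R : Sieve T} (hR : R ∈ J T) {f g : T ⟶ Z}
    (h : ∀ (V : C) (i : V ⟶ T), R i → i ≫ f = i ≫ g) : f = g :=
  (isSheafFor_yoneda J R hR Z).isSeparatedFor.ext fun V i hi => h V i hi

/-- Fixed points form a sheaf. -/
theorem isSheaf_fixedPsh (a : MonAct A X) : Presheaf.IsSheaf J (MonAct.fixedPsh a) := by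
  rw [isSheaf_iff_isSheaf_of_type]
  intro T R hR x hx
  have hcompat : Presieve.FamilyOfElements.Compatible (P := yoneda.obj X) (R := R.arrows)
      (fun V i hi => (x i hi).1) := by
    intro V₁ V₂ W g₁ g₂ f₁ f₂ h₁ h₂ hw
    exact congrArg Subtype.val (hx g₁ g₂ h₁ h₂ hw)
  obtain ⟨y, hy, -⟩ := isSheafFor_yoneda J R hR X _ hcompat
  refine ⟨⟨y, fun T' t g => ?_⟩, fun V i hi => Subtype.ext (hy i hi), fun z hz => Subtype.ext ?_⟩
  · refine ext_cover J (J.pullback_stable t hR) fun W k hk => ?_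
    have hy' : (k ≫ t) ≫ y = (x (k ≫ t) hk).1 := hy (k ≫ t) hk
    have e := (x (k ≫ t) hk).2 W (𝟙 W) (k ≫ g)
    simp only [Category.id_comp] at e
    rw [comp_lift_assoc, ← Category.assoc k t y, hy', e]
  · refine ext_cover J hR fun V i hi => ?_
    exact (congrArg Subtype.val (hz i hi)).trans (hy i hi).symm

/-- Equivariant maps form a sheaf when pullback of covers along `snd` are covers. -/
theorem isSheaf_eqvHom (ρ : MonAct A B) (a : MonAct A X) : Presheaf.IsSheaf J (MonAct.eqvHom ρ a) := by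
  rw [isSheaf_iff_isSheaf_of_type]
  intro T R hR x hx
  let y : Presieve.FamilyOfElements (yoneda.obj X) (R.pullback (snd B T)).arrows :=
    fun W k hk => lift (k ≫ fst B T) (𝟙 W) ≫ (x (k ≫ snd B T) hk).1
  have hsieve := (Presieve.compatible_iff_sieveCompatible x).1 hx
  have hyc : y.Compatible := by
    refine (Presieve.compatible_iff_sieveCompatible y).2 fun W W' k l hk => ?_
    have e := congrArg Subtype.val (hsieve (k ≫ snd B T) l hk)
    change lift ((l ≫ k) ≫ fst B T) (𝟙 W') ≫ (x ((l ≫ k) ≫ snd B T) _).1 =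
      l ≫ lift (k ≫ fst B T) (𝟙 W) ≫ (x (k ≫ snd B T) hk).1
    have e' : (x ((l ≫ k) ≫ snd B T) ((R.pullback (snd B T)).downward_closed hk l)).1 =
        (B ◁ l) ≫ (x (k ≫ snd B T) hk).1 := by
      refine Eq.trans ?_ e
      congr 2
      exact Category.assoc _ _ _
    rw [e', lift_whiskerLeft_assoc, comp_lift_assoc, Category.id_comp, Category.comp_id, Category.assoc]
  obtain ⟨φ, hφ, -⟩ := isSheafFor_yoneda J _ (J.pullback_stable (snd B T) hR) X y hyc
  have key : ∀ (V : C) (i : V ⟶ T) (hi : R i) (W : C) (b : W ⟶ B) (v : W ⟶ V),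
      lift b (v ≫ i) ≫ φ = lift b v ≫ (x i hi).1 := by
    intro V i hi W b v
    have hk : R ((lift b (v ≫ i)) ≫ snd B T) := by rw [lift_snd]; exact R.downward_closed hi v
    have e := hφ (lift b (v ≫ i)) hk
    change lift b (v ≫ i) ≫ φ = lift (lift b (v ≫ i) ≫ fst B T) (𝟙 W) ≫ (x _ hk).1 at e
    have e' : (x (lift b (v ≫ i) ≫ snd B T) hk).1 = (B ◁ v) ≫ (x i hi).1 := by
      refine Eq.trans ?_ (congrArg Subtype.val (hsieve i v hi))
      congr 2
      exact lift_snd _ _
    rw [e, e', lift_fst, lift_whiskerLeft_assoc, Category.id_comp]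
  refine ⟨⟨φ, ?_⟩, fun V i hi => Subtype.ext ?_, fun z hz => Subtype.ext ?_⟩
  · rw [MonAct.mem_eqvHom_iff]
    intro T' g b t
    refine ext_cover J (J.pullback_stable t hR) fun W l hl => ?_
    have e := MonAct.mem_eqvHom_iff (x (l ≫ t) hl).1 |>.1 (x (l ≫ t) hl).2 W (l ≫ g) (l ≫ b) (𝟙 W)
    rw [← key _ _ hl, ← key _ _ hl, Category.id_comp] at e
    simpa only [comp_lift_assoc, comp_lift, Category.assoc] using e
  · change (B ◁ i) ≫ φ = (x i hi).1
    have e := key V i hi (B ⊗ V) (fst B V) (snd B V)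
    rw [lift_fst_snd, Category.id_comp] at e
    refine Eq.trans ?_ e
    congr 1
    exact CartesianMonoidalCategory.hom_ext _ _ (by simp) (by simp)
  · refine ext_cover J (J.pullback_stable (snd B T) hR) fun W k hk => ?_
    refine Eq.trans ?_ (hφ k hk).symm
    change k ≫ z.1 = lift (k ≫ fst B T) (𝟙 W) ≫ (x (k ≫ snd B T) hk).1
    have e : (B ◁ (k ≫ snd B T)) ≫ z.1 = (x (k ≫ snd B T) hk).1 := congrArg Subtype.val (hz _ hk)
    rw [← e, lift_whiskerLeft_assoc, Category.id_comp, lift_comp_fst_snd]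

end Groth.Agent.H15Magnet
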