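import Groth.Agent.H15Magnet.Mono
import Groth.Agent.H15Magnet.Points
import Groth.Agent.H15Magnet.Sheaf
import Mathlib.CategoryTheory.Sites.SubcanonicalOver
import Mathlib.AlgebraicGeometry.Sites.BigZariski
import Mathlib.AlgebraicGeometry.Morphisms.Affine

/-!
# Which points lie in an attractor
-/

set_option autoImplicit false
set_option linter.unusedSectionVars false
set_option linter.style.haveILetI false
set_option backward.isDefEq.respectTransparency false
set_option backward.isDefEq.respectTransparency.types false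

universe u

noncomputable section

open CategoryTheory CategoryTheory.Limits MonoidalCategory CartesianMonoidalCategory MonObj
  AlgebraicGeometry Opposite Magnet
open scoped TensorProduct

namespace Groth.Agent.H15Magnet

variable {S : Scheme.{u}} {M N P : Type} [AddCommMonoid M] [AddCommMonoid N] [AddCommMonoid P]

lemma amonS_map_add (g h : N →+ M) :
    AMonS.map S (g + h) = AMonS.map S g * AMonS.map S h := by
  apply Over.OverMorphism.ext
  refine (AMonS S M).left.affineCover.hom_ext _ _ fun i => ?_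
  let j := (AMonS S M).left.affineCover.f i
  let y := j ≫ (AMonS S M).hom
  let jo : Over.mk y ⟶ AMonS S M := Over.homMk j rfl
  suffices hs : jo ≫ AMonS.map S (g + h) = jo ≫ (AMonS.map S g * AMonS.map S h) from
    congrArg CommaMorphism.left hs
  obtain ⟨χ, hχ⟩ := mpt_surjective y jo
  rw [← hχ, MonObj.comp_mul, mpt_map, mpt_map, mpt_map, ← mpt_mul]
  refine congrArg (mpt y) (MonoidHom.ext fun m => ?_)
  exact map_mul χ _ _

variable {X : Over S}

/-- A factorisation of the orbit map of `x` through `A(N)` is a point of the attractor. -/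
theorem exists_attr_of_factor [IsSeparated X.hom] (a : MonAct (AMonS S M) X) (N : AddSubmonoid M)
    (T : Over S) (x : T ⟶ X) (ψ : AMonS S N ⊗ T ⟶ X)
    (h : (AMonS.map S N.subtype ▷ T) ≫ ψ = (AMonS S M ◁ x) ≫ a.act) :
    ∃ φ : (attr a N).obj (op T), φ.1 = ψ ∧ (attrToX a N).app (op T) φ = x := by
  refine ⟨⟨ψ, ?_⟩, rfl, ?_⟩
  · let σ : AMonS S N ⊗ (AMonS S M ⊗ T) ⟶ AMonS S M ⊗ (AMonS S N ⊗ T) :=
      lift (snd _ _ ≫ fst _ _) (lift (fst _ _) (snd _ _ ≫ snd _ _))
    let σ' : AMonS S M ⊗ (AMonS S N ⊗ T) ⟶ AMonS S N ⊗ (AMonS S M ⊗ T) :=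
      lift (snd _ _ ≫ fst _ _) (lift (fst _ _) (snd _ _ ≫ snd _ _))
    haveI : IsIso σ := ⟨σ', by ext <;> simp [σ, σ'], by ext <;> simp [σ, σ']⟩
    unfold MonAct.IsEquivariant
    rw [← cancel_epi σ]
    refine amap_ext N.subtype Subtype.val_injective (Magnet.hom_ext_lift₂ fun T' p q => ?_)
    obtain ⟨g, t, rfl⟩ : ∃ (g : T' ⟶ AMonS S M) (t : T' ⟶ T), q = lift g t :=
      ⟨q ≫ fst _ _, q ≫ snd _ _, (lift_comp_fst_snd q).symm⟩
    have hsig : ∀ b : T' ⟶ AMonS S N, lift b (lift g t) ≫ σ = lift g (lift b t) := fun b => by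
      ext <;> simp [σ]
    have hp : ∀ b : T' ⟶ AMonS S M,
        lift (b ≫ AMonS.map S N.subtype) t ≫ ψ = lift b (t ≫ x) ≫ a.act := fun b => by
      have := congrArg (lift b t ≫ ·) h
      simp only [lift_whiskerRight_assoc, lift_whiskerLeft_assoc] at this
      exact this
    simp only [lift_whiskerRight_assoc]
    rw [reassoc_of% hsig, reassoc_of% hsig, MonAct.lift_prod_act_assoc, MonAct.lift_trivial_act,
      lift_whiskerLeft_assoc]
    simp only [subAct, MonAct.lift_restrict_act, MonAct.lift_regular_act]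
    rw [← MonObj.mul_comp, hp, hp, a.lift_mul_act]
  · change lift (toUnit T ≫ η[AMonS S N]) (𝟙 T) ≫ ψ = x
    have h1 : lift ((toUnit T ≫ η[AMonS S M]) ≫ AMonS.map S N.subtype) (𝟙 T) ≫ ψ =
        lift (toUnit T ≫ η[AMonS S M]) (𝟙 T ≫ x) ≫ a.act := by
      rw [← lift_whiskerRight_assoc, h, lift_whiskerLeft_assoc]
    rw [Category.assoc, IsMonHom.one_hom, Category.id_comp, ← Hom.one_def, ← Hom.one_def,
      MonAct.lift_one_act] at h1
    rw [← Hom.one_def]
    exact h1

/-- The orbit map of a point of the attractor factors. -/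
theorem factor_of_eq (a : MonAct (AMonS S M) X) (N : AddSubmonoid M) (T : Over S)
    (φ : (attr a N).obj (op T)) (x : T ⟶ X) (h : (attrToX a N).app (op T) φ = x) :
    (AMonS.map S N.subtype ▷ T) ≫ φ.1 = (AMonS S M ◁ x) ≫ a.act := by
  rw [restrict_eq_orbit, h]

lemma toX_map (a : MonAct (AMonS S M) X) (N : AddSubmonoid M) {T T' : Over S} (j : T' ⟶ T)
    (φ : (attr a N).obj (op T)) :
    (attrToX a N).app (op T') ((attr a N).map j.op φ) = j ≫ (attrToX a N).app (op T) φ := by
  change lift (toUnit T' ≫ η[AMonS S N]) (𝟙 T') ≫ (AMonS S N ◁ j) ≫ φ.1 =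
    j ≫ lift (toUnit T ≫ η[AMonS S N]) (𝟙 T) ≫ φ.1
  rw [lift_whiskerLeft_assoc, comp_lift_assoc, ← Category.assoc j, comp_toUnit, Category.id_comp,
    Category.comp_id]

/-- Lying in the attractor is local. -/
theorem exists_attr_of_cover [IsSeparated X.hom] (a : MonAct (AMonS S M) X) (N : AddSubmonoid M)
    (T : Over S) (x : T ⟶ X) (𝒰 : T.left.OpenCover)
    (h : ∀ i, ∃ φ : (attr a N).obj (op (Over.mk (𝒰.f i ≫ T.hom))),
      (attrToX a N).app _ φ =
        (Over.homMk (𝒰.f i) : Over.mk (𝒰.f i ≫ T.hom) ⟶ T) ≫ x) :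
    ∃ φ : (attr a N).obj (op T), (attrToX a N).app _ φ = x := by
  let J := Scheme.zariskiTopology.over S
  let Rs : Sieve T :=
    { arrows := fun V i => ∃ φ : (attr a N).obj (op V), (attrToX a N).app _ φ = i ≫ x
      downward_closed := fun {V W i} hi k => by
        obtain ⟨φ, hφ⟩ := hi
        refine ⟨(attr a N).map k.op φ, ?_⟩
        exact ((ConcreteCategory.congr_hom ((attrToX a N).naturality k.op) φ).trans
          (congrArg (k ≫ ·) hφ)).trans (Category.assoc _ _ _).symm }
  have hR : Rs ∈ J T := by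
    rw [GrothendieckTopology.mem_over_iff]
    refine Scheme.zariskiTopology.superset_covering ?_ 𝒰.mem_grothendieckTopology
    intro V g hg
    rw [Sieve.overEquiv_iff]
    obtain ⟨W, k, l, ⟨i⟩, rfl⟩ := hg
    have hi : Rs (Over.homMk (𝒰.f i) :
        Over.mk (𝒰.f i ≫ T.hom) ⟶ T) :=
      h i
    have := Rs.downward_closed hi (Over.homMk k (by simp) :
      Over.mk ((k ≫ 𝒰.f i) ≫ T.hom) ⟶ Over.mk (𝒰.f i ≫ T.hom))
    convert this using 1
    ext1
    simp
  let fam : Presieve.FamilyOfElements (attr a N) Rs.arrows := fun V i hi => hi.choose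
  have hfam : ∀ V i hi, (attrToX a N).app _ (fam i hi) = i ≫ x := fun V i hi =>
    (hi : ∃ φ : (attr a N).obj (op V), (attrToX a N).app _ φ = i ≫ x).choose_spec
  have hcompat : fam.Compatible := by
    intro V₁ V₂ W g₁ g₂ f₁ f₂ h₁ h₂ hw
    apply attrToX_injective a N
    refine (ConcreteCategory.congr_hom ((attrToX a N).naturality g₁.op) _).trans
      (Eq.trans ?_ (ConcreteCategory.congr_hom ((attrToX a N).naturality g₂.op) _).symm)
    refine (congrArg (g₁ ≫ ·) (hfam _ _ h₁)).trans (Eq.trans ?_ (congrArg (g₂ ≫ ·) (hfam _ _ h₂)).symm)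
    rw [← Category.assoc, hw, Category.assoc]
  have hsh := (isSheaf_iff_isSheaf_of_type _ _).1 (isSheaf_eqvHom J (subAct S M N) a) Rs hR fam hcompat
  obtain ⟨φ, hφ, -⟩ := hsh
  refine ⟨φ, ext_cover J hR fun V i hi => ?_⟩
  have := ConcreteCategory.congr_hom ((attrToX a N).naturality i.op) φ
  exact this.symm.trans ((congrArg _ (hφ i hi)).trans (hfam V i hi))

/-- Lying in the attractor may be checked on affine schemes. -/
theorem exists_attr_of_local [IsSeparated X.hom] (a : MonAct (AMonS S M) X) (N : AddSubmonoid M)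
    (T : Over S) (x : T ⟶ X)
    (h : ∀ (R : Type u) [CommRing R] (str : Spec (CommRingCat.of R) ⟶ S) (j : Over.mk str ⟶ T),
      ∃ φ : (attr a N).obj (op (Over.mk str)), (attrToX a N).app _ φ = j ≫ x) :
    ∃ φ : (attr a N).obj (op T), (attrToX a N).app _ φ = x :=
  exists_attr_of_cover a N T x T.left.affineCover fun i => h _ _ (Over.homMk (T.left.affineCover.f i))

section Affine

variable {R : Type u} [CommRing R]

lemma isIso_snd_of_injective {A B : CommRingCat.{u}} (φ : A ⟶ B) (hφ : Function.Injective φ)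
    {Z Y : Scheme.{u}} (f : Z ⟶ Y) [IsClosedImmersion f] (g : Spec A ⟶ Y) (h : Spec B ⟶ Z)
    (hgh : h ≫ f = Spec.map φ ≫ g) : IsIso (pullback.snd f g) := by
  refine IsClosedImmersion.isIso_iff_ker_eq_bot.2 (le_bot_iff.1 ?_)
  rw [← ker_SpecMap_eq_bot φ hφ, show Spec.map φ = pullback.lift h (Spec.map φ) hgh ≫
    pullback.snd f g from (pullback.lift_snd _ _ _).symm]
  exact Scheme.Hom.le_ker_comp _ _

/-- Factor through a smaller ring into an affine scheme. -/
lemma exists_factor_affine {A B : CommRingCat.{u}} (φ : A ⟶ B) (hφ : Function.Injective φ)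
    {W : Scheme.{u}} [IsAffine W] (ω : Spec B ⟶ W)
    (h : ∀ (e : Γ(W, ⊤)), (ω.appTop ≫ (Scheme.ΓSpecIso B).hom) e ∈ Set.range φ) :
    ∃ ψ : Spec A ⟶ W, Spec.map φ ≫ ψ = ω := by
  let θ : Γ(W, ⊤) ⟶ B := ω.appTop ≫ (Scheme.ΓSpecIso B).hom
  let e := RingEquiv.ofBijective φ.hom.rangeRestrict
    ⟨fun a b hab => hφ (congrArg Subtype.val hab), φ.hom.rangeRestrict_surjective⟩
  let θ' : Γ(W, ⊤) ⟶ A := CommRingCat.ofHom
    (e.symm.toRingHom.comp (θ.hom.codRestrict φ.hom.range fun x => h x))
  refine ⟨Spec.map θ' ≫ W.isoSpec.inv, ?_⟩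
  have he : θ' ≫ φ = θ := CommRingCat.hom_ext (RingHom.ext fun x =>
    congrArg Subtype.val (e.apply_symm_apply ⟨θ x, h x⟩))
  rw [← Category.assoc, ← Spec.map_comp, he, Iso.comp_inv_eq]
  simp only [θ, Spec.map_comp, Scheme.isoSpec_hom]
  rw [SpecMap_ΓSpecIso_hom, Scheme.toSpecΓ_naturality]

attribute [local instance] ULift.algebra'

/-- The projection onto the monomials with exponents in `Q`. -/
def monProj (Q : AddSubmonoid P) :
    MonoidAlgebra (Z.{u}) (Multiplicative P) →ₗ[Z.{u}] MonoidAlgebra (Z.{u}) (Multiplicative P) :=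
  open Classical in
  (MonoidAlgebra.basis (Multiplicative P) (Z.{u})).constr (Z.{u})
    (fun p => if p.toAdd ∈ Q then MonoidAlgebra.single p 1 else 0)

lemma monProj_single (Q : AddSubmonoid P) (p : Multiplicative P) [Decidable (p.toAdd ∈ Q)] :
    monProj.{u} Q (MonoidAlgebra.single p 1) =
      if p.toAdd ∈ Q then MonoidAlgebra.single p 1 else 0 := by
  have : MonoidAlgebra.single p (1 : Z.{u}) = MonoidAlgebra.basis (Multiplicative P) (Z.{u}) p := by simp
  rw [monProj]
  conv_lhs => rw [this, Module.Basis.constr_basis]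
  convert rfl

lemma monProj_mem_range (Q : AddSubmonoid P) (e : MonoidAlgebra (Z.{u}) (Multiplicative P) ⊗[Z.{u}] R) :
    (TensorProduct.map (monProj.{u} Q) LinearMap.id) e ∈
      Set.range (Algebra.TensorProduct.map (monMap.{u} Q.subtype) (AlgHom.id (Z.{u}) R)) := by
  classical
  let L := Algebra.TensorProduct.map (monMap.{u} Q.subtype) (AlgHom.id (Z.{u}) R)
  obtain ⟨s, hs⟩ : ∃ s : MonoidAlgebra (Z.{u}) (Multiplicative P) →ₗ[Z.{u}]
      MonoidAlgebra (Z.{u}) (Multiplicative Q), (monMap.{u} Q.subtype).toLinearMap ∘ₗ s = monProj Q := by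
    refine ⟨(MonoidAlgebra.basis (Multiplicative P) (Z.{u})).constr (Z.{u}) (fun p =>
      if hp : p.toAdd ∈ Q then MonoidAlgebra.single (Multiplicative.ofAdd ⟨p.toAdd, hp⟩) 1 else 0), ?_⟩
    refine (MonoidAlgebra.basis (Multiplicative P) (Z.{u})).ext fun p => ?_
    simp only [LinearMap.comp_apply, Module.Basis.constr_basis]
    rw [show MonoidAlgebra.basis (Multiplicative P) (Z.{u}) p = MonoidAlgebra.single p 1 by simp,
      monProj_single]
    split_ifs with hp
    · simp [monMap]
    · simp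
  refine ⟨TensorProduct.map s LinearMap.id e, ?_⟩
  rw [← hs, ← LinearMap.id_comp (LinearMap.id (R := Z.{u}) (M := R)), TensorProduct.map_comp]
  rfl

lemma monProj_eq_self (Q : AddSubmonoid P) {e : MonoidAlgebra (Z.{u}) (Multiplicative P) ⊗[Z.{u}] R}
    (he : e ∈ Set.range (Algebra.TensorProduct.map (monMap.{u} Q.subtype) (AlgHom.id (Z.{u}) R))) :
    (TensorProduct.map (monProj.{u} Q) LinearMap.id) e = e := by
  classical
  obtain ⟨e, rfl⟩ := he
  have : monProj.{u} Q ∘ₗ (monMap.{u} Q.subtype).toLinearMap = (monMap.{u} Q.subtype).toLinearMap := by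
    refine (MonoidAlgebra.basis (Multiplicative Q) (Z.{u})).ext fun q => ?_
    simp [monMap, monProj_single]
  change TensorProduct.map _ _ (TensorProduct.map _ LinearMap.id e) = TensorProduct.map _ LinearMap.id e
  conv_rhs => rw [← this]
  rw [← LinearMap.comp_apply, ← TensorProduct.map_comp, LinearMap.comp_id]

/-- Supports and injective maps of monoids. -/
lemma mem_range_of_map_mem_range (h : M →+ P) (hh : Function.Injective h) (Q : AddSubmonoid P)
    (e : MonoidAlgebra (Z.{u}) (Multiplicative M) ⊗[Z.{u}] R)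
    (he : Algebra.TensorProduct.map (monMap.{u} h) (AlgHom.id (Z.{u}) R) e ∈
      Set.range (Algebra.TensorProduct.map (monMap.{u} Q.subtype) (AlgHom.id (Z.{u}) R))) :
    e ∈ Set.range (Algebra.TensorProduct.map (monMap.{u} (Q.comap h).subtype) (AlgHom.id (Z.{u}) R)) := by
  classical
  have key : monProj.{u} Q ∘ₗ (monMap.{u} h).toLinearMap =
      (monMap.{u} h).toLinearMap ∘ₗ monProj.{u} (Q.comap h) := by
    refine (MonoidAlgebra.basis (Multiplicative M) (Z.{u})).ext fun m => ?_
    rw [show MonoidAlgebra.basis (Multiplicative M) (Z.{u}) m = MonoidAlgebra.single m 1 by simp]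
    simp only [LinearMap.comp_apply, monProj_single]
    by_cases hm : m.toAdd ∈ Q.comap h
    · rw [if_pos hm]
      have : h m.toAdd ∈ Q := hm
      simp [monMap, monProj_single, this]
    · rw [if_neg hm, map_zero]
      have : ¬ h m.toAdd ∈ Q := hm
      simp [monMap, monProj_single, this]
  have e2 : TensorProduct.map (monMap.{u} h).toLinearMap LinearMap.id
      (TensorProduct.map (monProj.{u} (Q.comap h)) LinearMap.id e) =
      TensorProduct.map (monMap.{u} h).toLinearMap (LinearMap.id (R := Z.{u}) (M := R)) e := by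
    refine Eq.trans ?_ (monProj_eq_self Q he)
    change _ = TensorProduct.map _ _ (TensorProduct.map _ LinearMap.id e)
    rw [← LinearMap.comp_apply, ← LinearMap.comp_apply, ← TensorProduct.map_comp,
      ← TensorProduct.map_comp, key]
  have e3 : TensorProduct.map (monProj.{u} (Q.comap h)) LinearMap.id e = e :=
    monMap_tensor_injective h hh e2
  rw [← e3]
  exact monProj_mem_range _ e

/-- A map out of `A(M)` factors through `A(h⁻¹ Q)` if its restriction to `A(P)` factors through `A(Q)`. -/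
theorem exists_factor_comap [IsAffineHom X.hom] (str : Spec (CommRingCat.of R) ⟶ S) (h : M →+ P)
    (hh : Function.Injective h) (Q : AddSubmonoid P) (ω : AMonS S M ⊗ Over.mk str ⟶ X)
    (θ : AMonS S Q ⊗ Over.mk str ⟶ X)
    (hθ : (AMonS.map S Q.subtype ▷ _) ≫ θ = (AMonS.map S h ▷ _) ≫ ω) :
    ∃ ψ : AMonS S (Q.comap h) ⊗ Over.mk str ⟶ X, (AMonS.map S (Q.comap h).subtype ▷ _) ≫ ψ = ω := by
  let W := pullback X.hom str
  let ω' : Spec (CommRingCat.of (MonoidAlgebra (Z.{u}) (Multiplicative M) ⊗[Z.{u}] R)) ⟶ W :=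
    pullback.lift ((chart str M).inv ≫ ω.left)
      ((chart str M).inv ≫ (snd (AMonS S M) (Over.mk str)).left) (by
        rw [Category.assoc, Over.w, Category.assoc]
        congr 1
        exact (Over.w (snd (AMonS S M) (Over.mk str))).symm)
  let θ' : Spec (CommRingCat.of (MonoidAlgebra (Z.{u}) (Multiplicative Q) ⊗[Z.{u}] R)) ⟶ W :=
    pullback.lift ((chart str Q).inv ≫ θ.left)
      ((chart str Q).inv ≫ (snd (AMonS S Q) (Over.mk str)).left) (by
        rw [Category.assoc, Over.w, Category.assoc]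
        congr 1
        exact (Over.w (snd (AMonS S Q) (Over.mk str))).symm)
  haveI : IsAffine W := isAffine_of_isAffineHom (pullback.snd X.hom str)
  let φ : CommRingCat.of (MonoidAlgebra (Z.{u}) (Multiplicative (Q.comap h)) ⊗[Z.{u}] R) ⟶
      CommRingCat.of (MonoidAlgebra (Z.{u}) (Multiplicative M) ⊗[Z.{u}] R) :=
    CommRingCat.ofHom (Algebra.TensorProduct.map (monMap.{u} (Q.comap h).subtype)
      (AlgHom.id (Z.{u}) R)).toRingHom
  have hcomm : Spec.map (CommRingCat.ofHom (S := MonoidAlgebra (Z.{u}) (Multiplicative P) ⊗[Z.{u}] R) (Algebra.TensorProduct.map (monMap.{u} h)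
      (AlgHom.id (Z.{u}) R)).toRingHom) ≫ ω' =
      Spec.map (CommRingCat.ofHom (S := MonoidAlgebra (Z.{u}) (Multiplicative P) ⊗[Z.{u}] R) (Algebra.TensorProduct.map (monMap.{u} Q.subtype)
      (AlgHom.id (Z.{u}) R)).toRingHom) ≫ θ' := by
    apply pullback.hom_ext
    · simp only [ω', θ', Category.assoc, pullback.lift_fst, ← reassoc_of% (chart_map str h),
        ← reassoc_of% (chart_map str Q.subtype)]
      exact congrArg (fun m => (chart str P).inv ≫ m) (congrArg CommaMorphism.left hθ.symm)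
    · simp only [ω', θ', Category.assoc, pullback.lift_snd, chart_inv_snd, ← Spec.map_comp,
        ← CommRingCat.ofHom_comp]
      congr 2
      ext r
      simp
  obtain ⟨ψ', hψ'⟩ := exists_factor_affine φ (monMap_tensor_injective _ Subtype.val_injective) ω'
    (fun e => by
      refine mem_range_of_map_mem_range h hh Q _ ?_
      have := congrArg (fun f => f.appTop ≫ (Scheme.ΓSpecIso _).hom) hcomm
      simp only [Scheme.Hom.comp_appTop, Category.assoc, Scheme.ΓSpecIso_naturality] at this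
      exact ⟨_, (ConcreteCategory.congr_hom this e).symm⟩)
  have hsnd : ψ' ≫ pullback.snd _ _ =
      (chart str (Q.comap h)).inv ≫ (snd (AMonS S (Q.comap h)) (Over.mk str)).left := by
    obtain ⟨α, hα⟩ := Spec.map_surjective (ψ' ≫ pullback.snd X.hom str)
    rw [← hα, chart_inv_snd]
    refine congrArg Spec.map (CommRingCat.hom_ext (RingHom.ext fun r =>
      monMap_tensor_injective (R := R) (Q.comap h).subtype Subtype.val_injective ?_))
    have e1 : Spec.map φ ≫ Spec.map α = (chart str M).inv ≫ (snd (AMonS S M) (Over.mk str)).left := by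
      rw [hα, reassoc_of% hψ', pullback.lift_snd]
    rw [chart_inv_snd, ← Spec.map_comp] at e1
    exact (ConcreteCategory.congr_hom (Spec.map_injective e1) r).trans (by simp)
  refine ⟨Over.homMk ((chart str (Q.comap h)).hom ≫ ψ' ≫ pullback.fst _ _) ?_, ?_⟩
  · rw [Category.assoc, Category.assoc, pullback.condition, reassoc_of% hsnd, Iso.hom_inv_id_assoc]
    exact Over.w (snd (AMonS S (Q.comap h)) (Over.mk str))
  · apply Over.OverMorphism.ext
    rw [← cancel_epi (chart str M).inv, Over.comp_left, reassoc_of% (chart_map str _)]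
    simp only [Over.homMk_left, Iso.inv_hom_id_assoc]
    exact ((reassoc_of% hψ') (pullback.fst _ _)).trans (pullback.lift_fst _ _ _)

/-- Factor through a closed subscheme. -/
theorem exists_factor_closed {Y Z' : Over S} (f : Z' ⟶ Y) [IsClosedImmersion f.left]
    (str : Spec (CommRingCat.of R) ⟶ S) (h : N →+ M) (hh : Function.Injective h)
    (g : AMonS S N ⊗ Over.mk str ⟶ Y) (ω : AMonS S M ⊗ Over.mk str ⟶ Z')
    (hω : ω ≫ f = (AMonS.map S h ▷ _) ≫ g) :
    ∃ ψ : AMonS S N ⊗ Over.mk str ⟶ Z', ψ ≫ f = g := by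
  let φ : CommRingCat.of (MonoidAlgebra (Z.{u}) (Multiplicative N) ⊗[Z.{u}] R) ⟶
      CommRingCat.of (MonoidAlgebra (Z.{u}) (Multiplicative M) ⊗[Z.{u}] R) :=
    CommRingCat.ofHom (Algebra.TensorProduct.map (monMap.{u} h) (AlgHom.id (Z.{u}) R)).toRingHom
  haveI := isIso_snd_of_injective φ (monMap_tensor_injective h hh) f.left
    ((chart str N).inv ≫ g.left) ((chart str M).inv ≫ ω.left) (by
      rw [Category.assoc, ← Over.comp_left, hω, Over.comp_left]
      exact (reassoc_of% (chart_map str h)) g.left)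
  let k := inv (pullback.snd f.left ((chart str N).inv ≫ g.left)) ≫ pullback.fst _ _
  have hk : k ≫ f.left = (chart str N).inv ≫ g.left := by
    simp [k, pullback.condition]
  refine ⟨Over.homMk ((chart str N).hom ≫ k) ?_, ?_⟩
  · rw [← Over.w f, Category.assoc, reassoc_of% hk, Iso.hom_inv_id_assoc, Over.w]
  · apply Over.OverMorphism.ext
    simp [hk]

end Affine

end Groth.Agent.H15Magnet
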