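import Groth.Agent.H15Magnet.FaceHomotopy

/-!
# Connectedness of fibres of a morphism with a homotopy onto a section
-/

set_option autoImplicit false
set_option linter.style.haveILetI false
set_option backward.isDefEq.respectTransparency false
universe u

open CategoryTheory CategoryTheory.Limits AlgebraicGeometry Opposite Magnet

noncomputable section

namespace Groth.Agent.H15Magnet

/-- Evaluation at `a`, as a morphism `Spec L ⟶ Spec L[t]`. -/
abbrev evPt {L : Type u} [CommRing L] (a : L) :
    Spec (CommRingCat.of L) ⟶ Spec (CommRingCat.of (Polynomial L)) :=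
  Spec.map (CommRingCat.ofHom (Polynomial.evalRingHom a))

/-- The projection `Spec L[t] ⟶ Spec L`. -/
abbrev projPt (L : Type u) [CommRing L] :
    Spec (CommRingCat.of (Polynomial L)) ⟶ Spec (CommRingCat.of L) :=
  Spec.map (CommRingCat.ofHom (Polynomial.C : L →+* Polynomial L))

theorem evPt_proj {L : Type u} [CommRing L] (a : L) : evPt a ≫ projPt L = 𝟙 _ := by
  rw [← Spec.map_comp, ← CommRingCat.ofHom_comp, show (Polynomial.evalRingHom a).comp Polynomial.C = RingHom.id L from
    RingHom.ext fun r => Polynomial.eval_C, CommRingCat.ofHom_id, Spec.map_id]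

section
variable {Z Z₀ : Scheme.{u}} (j : Z ⟶ Z₀) (i : Z₀ ⟶ Z)
  (hom : ∀ (L : Type u) [Field L] (x : Spec (CommRingCat.of L) ⟶ Z),
    ∃ γ : Spec (CommRingCat.of (Polynomial L)) ⟶ Z, evPt (1 : L) ≫ γ = x ∧ evPt (0 : L) ≫ γ = x ≫ j ≫ i ∧
      γ ≫ j = projPt L ≫ x ≫ j)

include hom in
theorem connectedComponents_bijective (hi : i ≫ j = 𝟙 _) :
    Function.Bijective (Continuous.connectedComponentsMap (Scheme.Hom.continuous j)) := by
  refine ⟨?_, fun c => ?_⟩
  · have key : ∀ z : Z, ConnectedComponents.mk (i (j z)) = ConnectedComponents.mk z := fun z => by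
      obtain ⟨γ, h1, h0, -⟩ := hom (Z.residueField z) (Z.fromSpecResidueField z)
      have hc : _root_.IsConnected (Set.range γ) := isConnected_range γ.continuous
      let p : Spec (CommRingCat.of (Z.residueField z)) := IsLocalRing.closedPoint (Z.residueField z)
      have hz : γ (evPt (1 : Z.residueField z) p) = z := by
        rw [← Scheme.Hom.comp_apply, h1]
        exact Scheme.fromSpecResidueField_apply z p
      have hz0 : γ (evPt (0 : Z.residueField z) p) = i (j z) := by
        rw [← Scheme.Hom.comp_apply, h0, Scheme.Hom.comp_apply, Scheme.Hom.comp_apply]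
        exact congrArg (fun w => i (j w)) (Scheme.fromSpecResidueField_apply z p)
      rw [ConnectedComponents.coe_eq_coe']
      exact hc.subset_connectedComponent ⟨_, hz⟩ ⟨_, hz0⟩
    refine Function.LeftInverse.injective
      (g := Continuous.connectedComponentsMap (Scheme.Hom.continuous i)) fun c => ?_
    obtain ⟨z, rfl⟩ := ConnectedComponents.surjective_coe c
    exact key z
  · obtain ⟨z, rfl⟩ := ConnectedComponents.surjective_coe c
    refine ⟨ConnectedComponents.mk (i z), ?_⟩
    show ConnectedComponents.mk (j (i z)) = ConnectedComponents.mk z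
    rw [← Scheme.Hom.comp_apply, hi]
    rfl

include hom in
theorem connectedSpace_fibre (hi : i ≫ j = 𝟙 _) (K : Type u) [Field K]
    (k : Spec (CommRingCat.of K) ⟶ Z₀) : ConnectedSpace ↥(pullback j k) := by
  let σ : Spec (CommRingCat.of K) ⟶ pullback j k :=
    pullback.lift (k ≫ i) (𝟙 _) (by rw [Category.assoc, hi, Category.comp_id, Category.id_comp])
  let p₀ : Spec (CommRingCat.of K) := IsLocalRing.closedPoint K
  let P := pullback j k
  refine connectedSpace_iff_connectedComponent.2 ⟨σ p₀, Set.eq_univ_of_forall fun z => ?_⟩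
  let x : Spec (CommRingCat.of (P.residueField z)) ⟶ Z := P.fromSpecResidueField z ≫ pullback.fst j k
  let q : Spec (CommRingCat.of (P.residueField z)) ⟶ Spec (CommRingCat.of K) :=
    P.fromSpecResidueField z ≫ pullback.snd j k
  have hxq : x ≫ j = q ≫ k := by simp only [x, q, Category.assoc, pullback.condition]
  obtain ⟨γ, h1, h0, hj⟩ := hom (P.residueField z) x
  let γ' : Spec (CommRingCat.of (Polynomial (P.residueField z))) ⟶ P :=
    pullback.lift γ (projPt _ ≫ q) (by rw [hj, hxq]; simp only [Category.assoc])
  have e1 : evPt (1 : P.residueField z) ≫ γ' = P.fromSpecResidueField z := by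
    apply pullback.hom_ext
    · rw [Category.assoc, pullback.lift_fst, h1]
    · rw [Category.assoc, pullback.lift_snd, ← Category.assoc, evPt_proj, Category.id_comp]
  have e0 : evPt (0 : P.residueField z) ≫ γ' = q ≫ σ := by
    apply pullback.hom_ext
    · rw [Category.assoc, pullback.lift_fst, h0, ← Category.assoc x, hxq, Category.assoc]
      exact ((Category.assoc _ _ _).trans (congrArg (q ≫ ·) (pullback.lift_fst _ _ _))).symm
    · rw [Category.assoc, pullback.lift_snd, ← Category.assoc, evPt_proj, Category.id_comp, Category.assoc,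
        pullback.lift_snd, Category.comp_id]
  let p : Spec (CommRingCat.of (P.residueField z)) := IsLocalRing.closedPoint (P.residueField z)
  have hz : γ' (evPt (1 : P.residueField z) p) = z := by
    rw [← Scheme.Hom.comp_apply, e1]
    exact Scheme.fromSpecResidueField_apply z p
  have hz0 : γ' (evPt (0 : P.residueField z) p) = σ p₀ := by
    rw [← Scheme.Hom.comp_apply, e0, Scheme.Hom.comp_apply]
    exact congrArg σ (Subsingleton.elim _ _)
  exact (isConnected_range γ'.continuous).subset_connectedComponent ⟨_, hz0⟩ ⟨_, hz⟩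

end

end Groth.Agent.H15Magnet
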