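import Groth.Agent.H15Magnet.Points
import Groth.Prelude.Def_Magnet4
import Mathlib.AlgebraicGeometry.GammaSpecAdjunction

/-!
# Points of `A(M)_S` given by characters with values in global functions
-/

set_option autoImplicit false
set_option linter.unusedSectionVars false
set_option linter.style.haveILetI false
set_option backward.isDefEq.respectTransparency false

universe u

noncomputable section

open CategoryTheory CategoryTheory.Limits MonoidalCategory CartesianMonoidalCategory MonObj
  AlgebraicGeometry Opposite Magnet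

namespace Groth.Agent.H15Magnet

variable {U : Scheme.{u}} {M N : Type} [AddCommMonoid M] [AddCommMonoid N]

/-- Two points of `A(M)_U` agree if they agree on affine pieces. -/
theorem pt_ext {T : Over U} {a b : T ⟶ AMonS U M}
    (h : ∀ (B : Type u) [CommRing B] (y : Spec (CommRingCat.of B) ⟶ U) (j : Over.mk y ⟶ T), j ≫ a = j ≫ b) :
    a = b := by
  apply Over.OverMorphism.ext
  refine T.left.affineCover.hom_ext _ _ fun i => ?_
  exact congrArg CommaMorphism.left
    (h _ (T.left.affineCover.f i ≫ T.hom) (Over.homMk (T.left.affineCover.f i) rfl))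

/-- The point given by a character with values in the global functions. -/
def gpt (T : Over U) (χ : Multiplicative M →* Γ(T.left, ⊤)) : T ⟶ AMonS U M :=
  Over.homMk (pullback.lift (T.left.toSpecΓ ≫ Spec.map (CommRingCat.ofHom (charRingHom χ))) T.hom
    (specULiftZIsTerminal.hom_ext _ _)) (pullback.lift_snd _ _ _)

theorem gpt_fst (T : Over U) (χ : Multiplicative M →* Γ(T.left, ⊤)) :
    (gpt T χ).left ≫ pullback.fst (AMon (Z.{u}) M).hom (toZ U) =
      T.left.toSpecΓ ≫ Spec.map (CommRingCat.ofHom (charRingHom χ)) :=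
  pullback.lift_fst _ _ _

theorem comp_gpt {T T' : Over U} (t : T' ⟶ T) (χ : Multiplicative M →* Γ(T.left, ⊤)) :
    t ≫ gpt T χ = gpt T' ((t.left.appTop.hom.toMonoidHom).comp χ) := by
  refine amonS_hom_ext ?_
  rw [Over.comp_left, Category.assoc, gpt_fst, gpt_fst, ← Category.assoc, Scheme.toSpecΓ_naturality,
    Category.assoc, ← Spec.map_comp]
  congr 2
  exact CommRingCat.hom_ext (comp_charRingHom t.left.appTop.hom χ)

theorem gpt_eq_mpt {B : Type u} [CommRing B] (y : Spec (CommRingCat.of B) ⟶ U)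
    (χ : Multiplicative M →* Γ(Spec (CommRingCat.of B), ⊤)) :
    gpt (Over.mk y) χ = mpt y ((Scheme.ΓSpecIso (CommRingCat.of B)).hom.hom.toMonoidHom.comp χ) := by
  refine amonS_hom_ext ?_
  rw [gpt_fst, mpt_fst]
  change (Spec (CommRingCat.of B)).toSpecΓ ≫ _ = _
  rw [← AlgebraicGeometry.SpecMap_ΓSpecIso_hom, ← Spec.map_comp]
  congr 1
  exact CommRingCat.hom_ext (comp_charRingHom _ χ)

theorem mpt_one {B : Type u} [CommRing B] (y : Spec (CommRingCat.of B) ⟶ U) :
    mpt y (1 : Multiplicative M →* B) = toUnit (Over.mk y) ≫ η[AMonS U M] := by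
  obtain ⟨χ, hχ⟩ := mpt_surjective y (toUnit (Over.mk y) ≫ η[AMonS U M])
  have h := mpt_mul y χ 1
  rw [_root_.mul_one, hχ, ← Hom.one_def, _root_.one_mul] at h
  rw [← Hom.one_def]
  exact h.symm

theorem gpt_one (T : Over U) :
    gpt T (1 : Multiplicative M →* Γ(T.left, ⊤)) = toUnit T ≫ η[AMonS U M] := by
  refine pt_ext fun B _ y j => ?_
  rw [comp_gpt, gpt_eq_mpt, comp_toUnit_assoc, ← mpt_one]
  congr 1
  ext m
  simp

theorem gpt_map (f : N →+ M) (T : Over U) (χ : Multiplicative M →* Γ(T.left, ⊤)) :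
    gpt T χ ≫ AMonS.map U f = gpt T (χ.comp (AddMonoidHom.toMultiplicative f)) := by
  refine pt_ext fun B _ y j => ?_
  rw [← Category.assoc, comp_gpt, gpt_eq_mpt, mpt_map, comp_gpt, gpt_eq_mpt]
  rfl

section Face

variable {P : Type} [AddCommMonoid P] {A F : AddSubmonoid P}

theorem mpt_face {B : Type u} [CommRing B] (hF : IsFace A F) (y : Spec (CommRingCat.of B) ⟶ U)
    (χ : Multiplicative F →* B) :
    mpt y χ ≫ AMonS.faceMap U hF = mpt y ((charRingHom χ).toMonoidHom.comp (faceMonoidHom (Z.{u}) hF)) := by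
  refine amonS_hom_ext ?_
  rw [mpt_fst, Over.comp_left, Category.assoc]
  refine (congrArg ((mpt y χ).left ≫ ·) (pullback.lift_fst _ _ _)).trans ?_
  rw [← Category.assoc, mpt_fst]
  refine (congrArg (Spec.map (CommRingCat.ofHom (charRingHom χ)) ≫ ·) (AMon.faceMap_left (Z.{u}) hF)).trans ?_
  refine (Spec.map_comp _ _).symm.trans (congrArg Spec.map (CommRingCat.hom_ext (charRingHom_ext fun m => ?_)))
  simp [faceAlgHom]

/-- Multiplying by the origin of a face is the projection to the face. -/
theorem mul_face_one (hF : IsFace A F) {T : Over U} (b : T ⟶ AMonS U A) :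
    b * ((toUnit T ≫ η[AMonS U F]) ≫ AMonS.faceMap U hF) =
      b ≫ AMonS.map U (AddSubmonoid.inclusion hF.le) ≫ AMonS.faceMap U hF := by
  classical
  refine pt_ext fun B _ y j => ?_
  rw [MonObj.comp_mul]
  obtain ⟨χ, hχ⟩ := mpt_surjective y (j ≫ b)
  rw [← Category.assoc j, ← Category.assoc j, ← Category.assoc j, comp_toUnit, ← hχ, ← mpt_one, mpt_face,
    ← Category.assoc, mpt_map, mpt_face, ← mpt_mul]
  refine congrArg (mpt y) (MonoidHom.ext fun m => ?_)
  obtain ⟨m, rfl⟩ := Multiplicative.ofAdd.surjective m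
  simp only [MonoidHom.mul_apply, MonoidHom.coe_comp, Function.comp_apply]
  by_cases h : (m : P) ∈ F
  · rw [faceMonoidHom_apply_of_mem _ hF m h]
    simp [charRingHom]
    rfl
  · rw [faceMonoidHom_apply_of_not_mem _ hF m h]
    simp

end Face

end Groth.Agent.H15Magnet
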