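import Groth.Agent.H15Magnet.CharPt

/-!
# The filtration of `ℤ[N] ⊗ R` by degree
-/

set_option autoImplicit false
set_option linter.unusedSectionVars false
set_option linter.style.haveILetI false
set_option backward.isDefEq.respectTransparency false
set_option backward.isDefEq.respectTransparency.types false

universe u

noncomputable section

open CategoryTheory AlgebraicGeometry
open scoped TensorProduct

namespace Groth.Agent.H15Magnet

attribute [local instance] ULift.algebra'

/-- Square-zero surjections give square-zero thickenings. -/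
theorem ker_specMap_sq {A B : Type u} [CommRing A] [CommRing B] (q : A →+* B)
    (hI : RingHom.ker q ^ 2 = ⊥) :
    (Spec.map (CommRingCat.ofHom q)).ker * (Spec.map (CommRingCat.ofHom q)).ker = ⊥ := by
  rw [Scheme.ker_of_isAffine]
  have hk : RingHom.ker (Spec.map (CommRingCat.ofHom q)).appTop.hom ^ 2 = ⊥ := by
    rw [eq_bot_iff, pow_two, Ideal.mul_le]
    intro a ha b hb
    let ee : Γ(Spec (CommRingCat.of A), ⊤) →+* A := (Scheme.ΓSpecIso (CommRingCat.of A)).hom.hom
    have key : ∀ c, (Spec.map (CommRingCat.ofHom q)).appTop c = 0 → q (ee c) = 0 := fun c hc => by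
      have := ConcreteCategory.congr_hom (Scheme.ΓSpecIso_naturality (CommRingCat.ofHom q)) c
      rw [ConcreteCategory.comp_apply, ConcreteCategory.comp_apply, hc, map_zero] at this
      exact this.symm
    have hab : ee (a * b) = 0 := by
      have h := Ideal.mul_mem_mul (RingHom.mem_ker.2 (key a ha)) (RingHom.mem_ker.2 (key b hb))
      rw [← pow_two, hI, Ideal.mem_bot] at h
      rw [map_mul]
      exact h
    exact (ConcreteCategory.bijective_of_isIso (Scheme.ΓSpecIso (CommRingCat.of A)).hom).1
      (hab.trans (map_zero ee).symm)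
  ext U : 2
  simp only [Scheme.IdealSheafData.ideal_mul, Pi.mul_apply]
  simp [← pow_two, ← Ideal.map_pow, hk]

theorem isNilpotent_ker_specMap {A B : Type u} [CommRing A] [CommRing B] (q : A →+* B)
    (hI : RingHom.ker q ^ 2 = ⊥) : IsNilpotent (Spec.map (CommRingCat.ofHom q)).ker :=
  ⟨2, by rw [pow_two]; exact ker_specMap_sq q hI⟩

section Instances

variable (N : Type) [AddCommMonoid N] (R : Type u) [CommRing R]

/-- The ring structure of `ℤ[N] ⊗ R`. -/
@[reducible] def rmCommRing : CommRing (RM N R) := Algebra.TensorProduct.instCommRing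

/-- The semiring structure of `ℤ[N] ⊗ R`. -/
@[reducible] def rmSemiring : Semiring (RM N R) := (rmCommRing N R).toRing.toSemiring

/-- The non-associative semiring structure of `ℤ[N] ⊗ R`. -/
@[reducible] def rmNonAssoc : NonAssocSemiring (RM N R) :=
  (rmCommRing N R).toCommSemiring.toNonAssocSemiring

end Instances

attribute [local instance 100000] rmCommRing rmSemiring rmNonAssoc

variable {N : Type} [AddCommMonoid N] {R : Type u} [CommRing R]

theorem coef_mul_uphi (m n : N) (r : R) [Decidable (n = m)] :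
    coefAt m (uchi N R (Multiplicative.ofAdd n) * uphi N R r) = if n = m then r else 0 := by
  classical
  rw [← single_tmul, coefAt_tmul,
    show MonoidAlgebra.single (Multiplicative.ofAdd n) (1 : Z.{u}) =
      MonoidAlgebra.basis (Multiplicative N) (Z.{u}) (Multiplicative.ofAdd n) from (MonoidAlgebra.basis_apply _ _).symm,
    Module.Basis.coord_apply, Module.Basis.repr_self, Finsupp.single_apply]
  simp only [EmbeddingLike.apply_eq_iff_eq]
  split_ifs <;> simp

theorem exists_support (z : RM N R) : ∃ s : Finset N, ∀ m ∉ s, coefAt m z = 0 := by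
  classical
  induction z using TensorProduct.induction_on with
  | zero => exact ⟨∅, fun m _ => map_zero _⟩
  | tmul x r =>
    refine ⟨((MonoidAlgebra.basis (Multiplicative N) (Z.{u})).repr x).support.image Multiplicative.toAdd,
      fun m hm => ?_⟩
    rw [coefAt_tmul, Module.Basis.coord_apply, Finsupp.notMem_support_iff.1 fun h => hm
      (Finset.mem_image.2 ⟨Multiplicative.ofAdd m, h, rfl⟩), zero_smul]
  | add x y hx hy =>
    obtain ⟨s, hs⟩ := hx
    obtain ⟨t, ht⟩ := hy
    refine ⟨s ∪ t, fun m hm => ?_⟩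
    rw [Finset.mem_union, not_or] at hm
    rw [map_add, hs m hm.1, ht m hm.2, add_zero]

theorem coef_sum (s : Finset N) (r : N → R) (m : N) [Decidable (m ∈ s)] :
    coefAt m (∑ n ∈ s, uchi N R (Multiplicative.ofAdd n) * uphi N R (r n)) = if m ∈ s then r m else 0 := by
  classical
  simp only [map_sum, coef_mul_uphi, Finset.sum_ite_eq']
  congr

theorem eq_sum (v : RM N R) (s : Finset N) (hs : ∀ m ∉ s, coefAt m v = 0) :
    v = ∑ n ∈ s, uchi N R (Multiplicative.ofAdd n) * uphi N R (coefAt n v) := by
  classical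
  refine sub_eq_zero.1 (eq_zero_of_coefAt _ fun m => ?_)
  rw [map_sub, coef_sum]
  split_ifs with h
  · exact sub_self _
  · rw [hs m h, sub_self]

variable (R) (d : N →+ ℤ)

/-- Elements of degree above `j`. -/
def Jd (j : ℕ) : Ideal (RM N R) :=
  Ideal.span ((fun n => uchi N R (Multiplicative.ofAdd n)) '' {n | (j : ℤ) < d n})

variable {R} {d}

theorem uchi_mem_Jd {j : ℕ} {n : N} (h : (j : ℤ) < d n) : uchi N R (Multiplicative.ofAdd n) ∈ Jd R d j :=
  Ideal.subset_span ⟨n, h, rfl⟩

theorem coef_eq_zero_of_mem (hd : ∀ n, 0 ≤ d n) {j : ℕ} {v : RM N R} (hv : v ∈ Jd R d j) {n : N}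
    (hn : d n ≤ j) : coefAt n v = 0 := by
  classical
  suffices h : ∀ a : RM N R, coefAt n (a * v) = 0 by simpa using h 1
  induction hv using Submodule.span_induction with
  | mem x hx =>
    obtain ⟨k, hk, rfl⟩ := hx
    intro a
    induction a using TensorProduct.induction_on with
    | zero => rw [zero_mul, map_zero]
    | tmul x r =>
      induction x using MonoidAlgebra.induction_linear with
      | zero => rw [TensorProduct.zero_tmul, zero_mul, map_zero]
      | add x y hx hy => rw [TensorProduct.add_tmul, add_mul, map_add, hx, hy, add_zero]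
      | single l z =>
        rw [show MonoidAlgebra.single l z = z • MonoidAlgebra.single l (1 : Z.{u}) by simp,
          ← TensorProduct.smul_tmul', single_tmul]
        obtain ⟨l, rfl⟩ := Multiplicative.ofAdd.surjective l
        rw [smul_mul_assoc, LinearMap.map_smul, mul_right_comm, ← map_mul, ← ofAdd_add, coef_mul_uphi,
          if_neg, smul_zero]
        intro h
        have := hd l
        have hk' : (j : ℤ) < d k := hk
        rw [← h, map_add] at hn
        omega
    | add x y hx hy => rw [add_mul, map_add, hx, hy, add_zero]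
  | zero => intro a; rw [mul_zero, map_zero]
  | add x y _ _ hx hy => intro a; rw [mul_add, map_add, hx, hy, add_zero]
  | smul c x _ hx => intro a; rw [smul_eq_mul, ← mul_assoc]; exact hx _

theorem mem_Jd {j : ℕ} {v : RM N R} (h : ∀ n, d n ≤ (j : ℤ) → coefAt n v = 0) : v ∈ Jd R d j := by
  classical
  obtain ⟨s, hs⟩ := exists_support v
  rw [eq_sum v s hs]
  refine Ideal.sum_mem _ fun n _ => ?_
  by_cases hn : d n ≤ (j : ℤ)
  · rw [h n hn, map_zero, mul_zero]
    exact zero_mem _
  · exact Ideal.mul_mem_right _ _ (uchi_mem_Jd (not_le.1 hn))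

theorem eq_zero_of_forall_mem (hd : ∀ n, 0 ≤ d n) {v : RM N R} (h : ∀ j, v ∈ Jd R d j) : v = 0 :=
  eq_zero_of_coefAt v fun n => coef_eq_zero_of_mem hd (h (d n).toNat) (Int.self_le_toNat _)

variable (R) (d)

theorem Jd_le (j : ℕ) : Jd R d (j + 1) ≤ Jd R d j :=
  Ideal.span_mono (Set.image_mono fun n (hn : ((j + 1 : ℕ) : ℤ) < d n) => show (j : ℤ) < d n by omega)

/-- The transition map. -/
def trd (j : ℕ) : (RM N R ⧸ Jd R d (j + 1)) →+* RM N R ⧸ Jd R d j :=
  Ideal.Quotient.factor (Jd_le R d j)

theorem trd_mk (j : ℕ) (v : RM N R) : trd R d j (Ideal.Quotient.mk _ v) = Ideal.Quotient.mk _ v := rfl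

theorem trd_surjective (j : ℕ) : Function.Surjective (trd R d j) :=
  Ideal.Quotient.factor_surjective _

theorem ker_trd_sq (j : ℕ) : RingHom.ker (trd R d j) ^ 2 = ⊥ := by
  have hk : RingHom.ker (trd R d j) = (Jd R d j).map (Ideal.Quotient.mk (Jd R d (j + 1))) := by
    refine le_antisymm (fun x hx => ?_) (Ideal.map_le_iff_le_comap.2 fun x hx => ?_)
    · obtain ⟨v, rfl⟩ := Ideal.Quotient.mk_surjective x
      exact Ideal.mem_map_of_mem _ (Ideal.Quotient.eq_zero_iff_mem.1 hx)
    · exact Ideal.Quotient.eq_zero_iff_mem.2 hx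
  rw [hk, ← Ideal.map_pow, ← le_bot_iff, Ideal.map_le_iff_le_comap, ← RingHom.ker_eq_comap_bot,
    Ideal.mk_ker, pow_two, Jd, Ideal.span_mul_span', Ideal.span_le]
  rintro _ ⟨_, ⟨a, ha, rfl⟩, _, ⟨b, hb, rfl⟩, rfl⟩
  change uchi N R (Multiplicative.ofAdd a) * uchi N R (Multiplicative.ofAdd b) ∈ Ideal.span _
  rw [← map_mul, ← ofAdd_add]
  refine uchi_mem_Jd ?_
  have ha' : (j : ℤ) < d a := ha
  have hb' : (j : ℤ) < d b := hb
  rw [map_add]
  omega

end Groth.Agent.H15Magnet
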