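import Groth.Agent.H15Magnet.Coef
import Groth.Agent.H15Magnet.Closed
import Mathlib.AlgebraicGeometry.Morphisms.FiniteType

/-!
# Finitely many weights decide attractor membership
-/

set_option autoImplicit false
set_option linter.style.haveILetI false
set_option linter.unusedVariables false
set_option backward.isDefEq.respectTransparency false

universe u

noncomputable section

open CategoryTheory CategoryTheory.Limits MonoidalCategory CartesianMonoidalCategory MonObj AlgebraicGeometry
  Opposite Magnet
open scoped TensorProduct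

namespace Groth.Agent.H15Magnet

attribute [local instance] ULift.algebra'

variable {S : Scheme.{u}} {M : Type} [AddCommMonoid M] {R : Type u} [CommRing R] {X : Over S}

/-- The coefficients of the orbit map, with their functoriality in the base. -/
theorem exists_orbit_coef [IsAffineHom X.hom] (a : MonAct (AMonS S M) X)
    (str : Spec (CommRingCat.of R) ⟶ S) (x : Over.mk str ⟶ X) :
    ∃ θ : Γ(pullback X.hom str, ⊤) ⟶ CommRingCat.of (MonoidAlgebra (Z.{u}) (Multiplicative M) ⊗[Z.{u}] R),
      (∀ r : R, θ ((pullback.snd X.hom str).appTop ((Scheme.ΓSpecIso (CommRingCat.of R)).inv r)) =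
        (Algebra.TensorProduct.includeRight (R := Z.{u}) (A := MonoidAlgebra (Z.{u}) (Multiplicative M))
          (B := R)) r) ∧
      ∀ (N : AddSubmonoid M) (R' : Type u) [CommRing R'] (q : R →+* R'),
        (∃ φ : (attr a N).obj (op (Over.mk (Spec.map (CommRingCat.ofHom q) ≫ str))),
          (attrToX a N).app _ φ = baseMap str q ≫ x) ↔ ∀ e m, m ∉ N → q (coefAt m (θ e)) = 0 := by
  classical
  let W := pullback X.hom str
  haveI : IsAffine W := isAffine_of_isAffineHom (pullback.snd X.hom str)
  let ω : Spec (CommRingCat.of (MonoidAlgebra (Z.{u}) (Multiplicative M) ⊗[Z.{u}] R)) ⟶ W :=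
    pullback.lift ((chart str M).inv ≫ ((AMonS S M ◁ x) ≫ a.act).left)
      ((chart str M).inv ≫ (snd (AMonS S M) (Over.mk str)).left) (by
        rw [Category.assoc, Over.w, Category.assoc]
        congr 1
        exact (Over.w (snd (AMonS S M) (Over.mk str))).symm)
  let θ : Γ(W, ⊤) ⟶ CommRingCat.of (MonoidAlgebra (Z.{u}) (Multiplicative M) ⊗[Z.{u}] R) :=
    ω.appTop ≫ (Scheme.ΓSpecIso _).hom
  refine ⟨θ, fun r => ?_, fun N R' _ q => ?_⟩
  · have h : ω ≫ pullback.snd X.hom str = _ :=
      (pullback.lift_snd _ _ _).trans (chart_inv_snd str M)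
    have h' := congrArg (fun f => (Scheme.ΓSpecIso (CommRingCat.of R)).inv ≫ f.appTop ≫ (Scheme.ΓSpecIso _).hom) h
    simp only [Scheme.Hom.comp_appTop, Category.assoc, Scheme.ΓSpecIso_naturality, Iso.inv_hom_id_assoc] at h'
    exact ConcreteCategory.congr_hom h' r
  let str' := Spec.map (CommRingCat.ofHom q) ≫ str
  let inclM : CommRingCat.of (MonoidAlgebra (Z.{u}) (Multiplicative N) ⊗[Z.{u}] R') ⟶
      CommRingCat.of (MonoidAlgebra (Z.{u}) (Multiplicative M) ⊗[Z.{u}] R') :=
    CommRingCat.ofHom (Algebra.TensorProduct.map (monMap.{u} N.subtype) (AlgHom.id (Z.{u}) R')).toRingHom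
  let x' := baseMap str q ≫ x
  have hω' : Spec.map (tensMap M q) ≫ ω ≫ pullback.fst _ _ =
      (chart str' M).inv ≫ ((AMonS S M ◁ x') ≫ a.act).left := by
    rw [pullback.lift_fst, ← reassoc_of% (chart_whiskerLeft (N := M) str q), ← Over.comp_left]
    simp only [x', MonoidalCategory.whiskerLeft_comp, Category.assoc]
    rfl
  constructor
  · rintro ⟨φ, hφ⟩ e m hm
    rw [← coefAt_map]
    refine (mem_range_iff N _).1 ?_ m hm
    have hfac := factor_of_eq a N _ φ _ hφ
    let θ' : Spec (CommRingCat.of (MonoidAlgebra (Z.{u}) (Multiplicative N) ⊗[Z.{u}] R')) ⟶ W :=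
      pullback.lift ((chart str' N).inv ≫ φ.1.left)
        ((chart str' N).inv ≫ (snd (AMonS S N) (Over.mk str')).left ≫ Spec.map (CommRingCat.ofHom q)) (by
          rw [Category.assoc, Over.w, Category.assoc, Category.assoc]
          congr 1
          exact (Over.w (snd (AMonS S N) (Over.mk str'))).symm)
    have hcomm : Spec.map (tensMap M q) ≫ ω = Spec.map inclM ≫ θ' := by
      apply pullback.hom_ext
      · rw [Category.assoc, hω', Category.assoc, pullback.lift_fst,
          ← reassoc_of% (chart_map str' N.subtype)]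
        exact congrArg (fun f => (chart str' M).inv ≫ f) (congrArg CommaMorphism.left hfac.symm)
      · simp only [ω, θ', inclM, Category.assoc, pullback.lift_snd, chart_inv_snd,
          reassoc_of% chart_inv_snd, ← Spec.map_comp]
        refine congrArg Spec.map (CommRingCat.hom_ext (RingHom.ext fun r => ?_))
        simp [tensMap, zAlg]
    have := congrArg (fun f => f.appTop ≫ (Scheme.ΓSpecIso _).hom) hcomm
    simp only [Scheme.Hom.comp_appTop, Category.assoc, Scheme.ΓSpecIso_naturality] at this
    exact ⟨_, (ConcreteCategory.congr_hom this e).symm⟩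
  · intro hle
    obtain ⟨ψ, hψ⟩ := exists_factor_affine inclM (monMap_tensor_injective _ Subtype.val_injective)
      (Spec.map (tensMap M q) ≫ ω) (fun e => by
        refine (mem_range_iff N _).2 fun m hm => ?_
        have : (Spec.map (tensMap M q) ≫ ω).appTop ≫ (Scheme.ΓSpecIso _).hom = θ ≫ tensMap M q := by
          simp only [θ, Scheme.Hom.comp_appTop, Category.assoc, Scheme.ΓSpecIso_naturality]
        rw [this]
        change coefAt m (Algebra.TensorProduct.map (AlgHom.id (Z.{u}) _) (zAlg q) (θ e)) = 0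
        rw [coefAt_map]
        exact hle e m hm)
    let Ψ : AMonS S N ⊗ Over.mk str' ⟶ X := Over.homMk ((chart str' N).hom ≫ ψ ≫ pullback.fst _ _) (by
      have hsnd : ψ ≫ pullback.snd _ _ = (chart str' N).inv ≫
          (snd (AMonS S N) (Over.mk str')).left ≫ Spec.map (CommRingCat.ofHom q) := by
        obtain ⟨α, hα⟩ := Spec.map_surjective (ψ ≫ pullback.snd X.hom str)
        rw [← hα, reassoc_of% chart_inv_snd, ← Spec.map_comp]
        refine congrArg Spec.map (CommRingCat.hom_ext (RingHom.ext fun r =>
          monMap_tensor_injective (R := R') N.subtype Subtype.val_injective ?_))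
        have e1 : Spec.map inclM ≫ Spec.map α = Spec.map (tensMap M q) ≫ (chart str M).inv ≫
            (snd (AMonS S M) (Over.mk str)).left := by
          rw [hα, reassoc_of% hψ, pullback.lift_snd]
        rw [chart_inv_snd, ← Spec.map_comp, ← Spec.map_comp] at e1
        exact (ConcreteCategory.congr_hom (Spec.map_injective e1) r).trans (by simp [tensMap, zAlg])
      rw [Category.assoc, Category.assoc, pullback.condition, reassoc_of% hsnd, Iso.hom_inv_id_assoc]
      exact Over.w (snd (AMonS S N) (Over.mk str')))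
    obtain ⟨p, -, hp⟩ := exists_attr_of_factor a N _ x' Ψ (by
      apply Over.OverMorphism.ext
      rw [← cancel_epi (chart str' M).inv, Over.comp_left, reassoc_of% (chart_map str' _)]
      simp only [Ψ, Over.homMk_left, Iso.inv_hom_id_assoc]
      exact ((reassoc_of% hψ) (pullback.fst _ _)).trans hω')
    exact ⟨p, hp⟩


theorem exists_coef_support (v : MonoidAlgebra (Z.{u}) (Multiplicative M) ⊗[Z.{u}] R) :
    ∃ s : Finset M, ∀ m ∉ s, coefAt m v = 0 := by
  classical
  induction v using TensorProduct.induction_on with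
  | zero => exact ⟨∅, fun m _ => map_zero _⟩
  | tmul x r =>
    refine ⟨((MonoidAlgebra.basis (Multiplicative M) (Z.{u})).repr x).support.image Multiplicative.toAdd,
      fun m hm => ?_⟩
    rw [coefAt_tmul]
    have : ((MonoidAlgebra.basis (Multiplicative M) (Z.{u})).coord (Multiplicative.ofAdd m)) x = 0 :=
      Finsupp.notMem_support_iff.1 fun hx => hm (Finset.mem_image.2 ⟨_, hx, rfl⟩)
    rw [this, zero_smul]
  | add x y hx hy =>
    obtain ⟨s, hs⟩ := hx
    obtain ⟨t, ht⟩ := hy
    refine ⟨s ∪ t, fun m hm => ?_⟩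
    rw [Finset.mem_union, not_or] at hm
    rw [map_add, hs m hm.1, ht m hm.2, add_zero]

set_option synthInstance.maxHeartbeats 400000 in
set_option maxHeartbeats 1000000 in
/-- The attractor condition depends only on finitely many weights. -/
theorem exists_finset_weights [IsAffineHom X.hom] [LocallyOfFiniteType X.hom] (a : MonAct (AMonS S M) X)
    (str : Spec (CommRingCat.of R) ⟶ S) (x : Over.mk str ⟶ X) :
    ∃ s : Finset M, ∀ N L : AddSubmonoid M, (∀ m ∈ s, m ∈ N ↔ m ∈ L) →
      ∀ (R' : Type u) [CommRing R'] (q : R →+* R'),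
        (∃ φ : (attr a N).obj (op (Over.mk (Spec.map (CommRingCat.ofHom q) ≫ str))),
          (attrToX a N).app _ φ = baseMap str q ≫ x) ↔
        ∃ φ : (attr a L).obj (op (Over.mk (Spec.map (CommRingCat.ofHom q) ≫ str))),
          (attrToX a L).app _ φ = baseMap str q ≫ x := by
  classical
  obtain ⟨θ, hθr, hθ⟩ := exists_orbit_coef a str x
  haveI : IsAffine (pullback X.hom str) := isAffine_of_isAffineHom (pullback.snd X.hom str)
  have hft : (pullback.snd X.hom str).appTop.hom.FiniteType :=
    (HasRingHomProperty.iff_of_isAffine (P := @LocallyOfFiniteType)).1 inferInstance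
  let ι₀ : R →+* Γ(pullback X.hom str, ⊤) :=
    (pullback.snd X.hom str).appTop.hom.comp (Scheme.ΓSpecIso (CommRingCat.of R)).inv.hom
  have hι₀ : ι₀.FiniteType :=
    hft.comp (RingHom.FiniteType.of_surjective _
      (ConcreteCategory.bijective_of_isIso (Scheme.ΓSpecIso (CommRingCat.of R)).inv).2)
  letI := ι₀.toAlgebra
  obtain ⟨gens, hgens⟩ := (show Algebra.FiniteType R Γ(pullback X.hom str, ⊤) from hι₀).out
  choose supp hsupp using fun e => exists_coef_support (θ e)
  refine ⟨gens.biUnion supp, fun N L hNL R' _ q => ?_⟩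
  rw [hθ N R' q, hθ L R' q]
  suffices key : ∀ N L : AddSubmonoid M, (∀ m ∈ gens.biUnion supp, m ∈ L → m ∈ N) →
      (∀ e m, m ∉ L → q (coefAt m (θ e)) = 0) → ∀ e m, m ∉ N → q (coefAt m (θ e)) = 0 from
    ⟨key L N fun m hm => (hNL m hm).1, key N L fun m hm => (hNL m hm).2⟩
  intro N L h hL e
  let T := Algebra.TensorProduct.map (monMap.{u} N.subtype) (AlgHom.id (Z.{u}) R')
  let Φ : Γ(pullback X.hom str, ⊤) →+* MonoidAlgebra (Z.{u}) (Multiplicative M) ⊗[Z.{u}] R' :=
    (Algebra.TensorProduct.map (AlgHom.id (Z.{u}) _) (zAlg q)).toRingHom.comp θ.hom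
  have hΦ : ∀ e m, coefAt m (Φ e) = q (coefAt m (θ e)) := fun e m => coefAt_map m q (θ e)
  suffices htop : Φ e ∈ T.range by
    intro m hm
    rw [← hΦ]
    exact (mem_range_iff N _).1 htop m hm
  have he : e ∈ Algebra.adjoin R (gens : Set Γ(pullback X.hom str, ⊤)) := hgens ▸ Algebra.mem_top
  induction he using Algebra.adjoin_induction with
  | mem g hg =>
    refine (mem_range_iff N _).2 fun m hm => ?_
    rw [hΦ]
    by_cases hms : m ∈ supp g
    · exact hL g m fun hmL => hm (h m (Finset.mem_biUnion.2 ⟨g, hg, hms⟩) hmL)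
    · rw [hsupp g m hms, map_zero]
  | algebraMap r =>
    refine ⟨Algebra.TensorProduct.includeRight (R := Z.{u}) (A := MonoidAlgebra (Z.{u}) (Multiplicative N))
      (B := R') (q r), ?_⟩
    show _ = Algebra.TensorProduct.map (AlgHom.id (Z.{u}) _) (zAlg q) (θ (ι₀ r))
    rw [show θ (ι₀ r) = _ from hθr r]
    simp [T, zAlg]
  | add x y _ _ hx hy => rw [map_add]; exact add_mem hx hy
  | mul x y _ _ hx hy => rw [map_mul]; exact mul_mem hx hy

end Groth.Agent.H15Magnet
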