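import Groth.Agent.S19645

/-!
# Comparing images of attractors along an FPR atlas for a single face
-/

set_option autoImplicit false
set_option linter.style.haveILetI false
set_option backward.isDefEq.respectTransparency false
set_option backward.isDefEq.respectTransparency.types false
universe u

open CategoryTheory CategoryTheory.Limits MonoidalCategory CartesianMonoidalCategory MonObj AlgebraicGeometry Opposite Magnet in
set_option maxHeartbeats 1600000 in
/-- One inclusion between the images of attractors. -/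
theorem Groth.Agent.H15Magnet.range_subset_single (S : Scheme.{u}) (M : Type) [AddCommGroup M]
    [AddGroup.FG M] {X : Over S} [IsSeparated X.hom] [LocallyOfFinitePresentation X.hom]
    (a : MonAct (AMonS S M) X) (U : Over S) [IsAffineHom U.hom]
    (aU : MonAct (AMonS S M) U) (g : U ⟶ X) (hg : MonAct.IsEquivariant aU a g)
    [Etale g.left] [Surjective g.left]
    (N L : AddSubmonoid M) (Z : AddSubgroup M) (hQ : IsFace N Z.toAddSubmonoid)
    (hgZ : MonAct.IsEquivariant
      (aU.restrict (AMonS.map S (QuotientAddGroup.mk' Z)))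
      (a.restrict (AMonS.map S (QuotientAddGroup.mk' Z))) g)
    (hfpr : IsPullback (MonAct.fixedPsh.map g hgZ)
      (MonAct.fixedPshι (aU.restrict (AMonS.map S (QuotientAddGroup.mk' Z))))
      (MonAct.fixedPshι (a.restrict (AMonS.map S (QuotientAddGroup.mk' Z)))) (yoneda.map g))
    (hU : ∀ T : Over S, Set.range (fun φ => (attrToX aU N).app (op T) φ) ⊆
      Set.range (fun φ => (attrToX aU L).app (op T) φ)) (T : Over S) (φ : (attr a N).obj (op T)) :
    ∃ ψ : (attr a L).obj (op T), (attrToX a L).app (op T) ψ = (attrToX a N).app (op T) φ := by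
  obtain ⟨θU, hθU⟩ := Groth.Agent.S18289.result S M Z U ⟨aU.act, aU.one_act, aU.mul_act⟩
  obtain ⟨θX, hθX⟩ := Groth.Agent.S18289.result S M Z X ⟨a.act, a.one_act, a.mul_act⟩
  let φs := (attrFace a hQ).app (op T) φ
  let y : T ⟶ X := (attrToX a Z.toAddSubmonoid).app (op T) φs
  let T' : Over S := Over.mk (pullback.fst y.left g.left ≫ T.hom)
  let t : T' ⟶ T := Over.homMk (pullback.fst y.left g.left) rfl
  let u' : T' ⟶ U := Over.homMk (pullback.snd y.left g.left) (by
    show pullback.snd _ _ ≫ U.hom = pullback.fst _ _ ≫ T.hom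
    rw [← Over.w g, ← pullback.condition_assoc, Over.w y])
  have htu : t ≫ y = u' ≫ g := Over.OverMorphism.ext pullback.condition
  haveI : Etale t.left := inferInstanceAs (Etale (pullback.fst y.left g.left))
  haveI : Surjective t.left := inferInstanceAs (Surjective (pullback.fst y.left g.left))
  -- `u'` is a fixed point by reflection of fixed points
  have hyfix : (MonAct.fixedPshι _).app (op T) (θX.hom.app (op T) φs) = y :=
    ConcreteCategory.congr_hom (NatTrans.congr_app hθX (op T)) φs
  have hcomp : (MonAct.fixedPshι _).app (op T')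
      ((MonAct.fixedPsh (a.restrict (AMonS.map S (QuotientAddGroup.mk' Z)))).map t.op (θX.hom.app (op T) φs)) =
      u' ≫ g := by
    refine Eq.trans ?_ htu
    exact (congrArg (t ≫ ·) hyfix)
  obtain ⟨w, hw1, hw2⟩ := Types.exists_of_isPullback
    (hfpr.map ((evaluation (Over S)ᵒᵖ (Type u)).obj (op T'))) _ u' hcomp
  let p : (attr aU Z.toAddSubmonoid).obj (op T') := θU.inv.app (op T') w
  have hp : (attrToX aU Z.toAddSubmonoid).app (op T') p = u' := by
    refine (ConcreteCategory.congr_hom (NatTrans.congr_app hθU (op T')) p).symm.trans ?_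
    refine Eq.trans ?_ hw2
    exact congrArg (fun z => (MonAct.fixedPshι
      (aU.restrict (AMonS.map S (QuotientAddGroup.mk' Z)))).app (op T') z)
      (ConcreteCategory.congr_hom (θU.inv_hom_id_app (op T')) w)
  let φ' := (attr a N).map t.op φ
  have hc : (AMonS.faceMap S hQ ▷ T') ≫ φ'.1 = p.1 ≫ g := by
    refine congrArg Subtype.val (H15Magnet.attrToX_injective a Z.toAddSubmonoid T'
      (a₁ := (attrFace a hQ).app (op T') φ')
      (a₂ := (MonAct.eqvHom.postcomp (subAct S M Z.toAddSubmonoid) g hg).app (op T') p) ?_)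
    have h1 : (attrFace a hQ).app (op T') φ' = (attr a Z.toAddSubmonoid).map t.op φs :=
      ConcreteCategory.congr_hom ((attrFace a hQ).naturality t.op) φ
    have h2 : (attrToX a Z.toAddSubmonoid).app (op T') ((attr a Z.toAddSubmonoid).map t.op φs) = t ≫ y :=
      H15Magnet.toX_map a Z.toAddSubmonoid t φs
    refine ((congrArg (fun z => (attrToX a Z.toAddSubmonoid).app (op T') z) h1).trans h2).trans (htu.trans ?_)
    exact ((Groth.Agent.S19645.evalAt_postcomp (subAct S M Z.toAddSubmonoid) g hg η[AMonS S Z.toAddSubmonoid] p).trans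
      (congrArg (fun z : T' ⟶ U => z ≫ g) hp)).symm
  obtain ⟨x, ⟨hx, -⟩, -⟩ := H15Magnet.EtaleFace.good a aU g hg hQ (Or.inr ⟨inferInstance, inferInstance⟩)
    T' φ' p hc
  obtain ⟨ψ₀, hψ₀⟩ := hU T' ⟨x, rfl⟩
  let ψ' := (MonAct.eqvHom.postcomp (subAct S M L) g hg).app (op T') ψ₀
  have hψ' : (attrToX a L).app (op T') ψ' = t ≫ (attrToX a N).app (op T) φ := by
    refine (Groth.Agent.S19645.evalAt_postcomp (subAct S M L) g hg η[AMonS S L] ψ₀).trans ?_
    refine (congrArg (fun z : T' ⟶ U => z ≫ g) hψ₀).trans ?_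
    refine Eq.trans ?_ (H15Magnet.toX_map a N t φ)
    refine (Groth.Agent.S19645.evalAt_postcomp (subAct S M N) g hg η[AMonS S N] x).symm.trans ?_
    exact congrArg ((attrToX a N).app (op T')) (Subtype.ext hx)
  have hsh : Presheaf.IsSheaf (Scheme.fppfTopology.over S) (attr a L) :=
    Groth.Agent.S18294.result S _ _ X _ _
  have hfor := H15Magnet.AffineRep.isSheafFor_singleton_over (attr a L) hsh t
  rw [Presieve.isSheafFor_singleton] at hfor
  obtain ⟨ψ, hψ, -⟩ := hfor ψ' fun p₁ p₂ hp => H15Magnet.attrToX_injective a L _ (by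
    show (attrToX a L).app _ ((attr a L).map p₁.op ψ') = (attrToX a L).app _ ((attr a L).map p₂.op ψ')
    rw [H15Magnet.toX_map, H15Magnet.toX_map, hψ', ← Category.assoc, ← Category.assoc, hp])
  refine ⟨ψ, Over.OverMorphism.ext ?_⟩
  have he : t ≫ (attrToX a L).app (op T) ψ = t ≫ (attrToX a N).app (op T) φ := by
    rw [← H15Magnet.toX_map a L t ψ, hψ, hψ']
  exact (cancel_epi t.left).1 (congrArg CommaMorphism.left he)

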