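import Groth.Agent.H15Magnet.Weights

/-!
# Finitely many weights decide attractor membership over a quasi-compact base
-/

set_option autoImplicit false
set_option linter.style.haveILetI false
set_option backward.isDefEq.respectTransparency false

universe u

open CategoryTheory CategoryTheory.Limits MonoidalCategory CartesianMonoidalCategory MonObj AlgebraicGeometry
  Opposite Magnet

namespace Groth.Agent.H15Magnet

/-- A finite set of weights deciding which points lie in which attractors. -/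
theorem exists_finset_weights_global (S : Scheme.{u}) [CompactSpace S] {M : Type} [AddCommMonoid M]
    {X : Over S} [IsAffineHom X.hom] [LocallyOfFiniteType X.hom] (a : MonAct (AMonS S M) X) :
    ∃ E₀ : Finset M, ∀ N L : AddSubmonoid M, (∀ m ∈ E₀, m ∈ N ↔ m ∈ L) → ∀ (T : Over S) (x : T ⟶ X),
      (∃ φ, (attrToX a N).app (op T) φ = x) → ∃ φ, (attrToX a L).app (op T) φ = x := by
  classical
  obtain ⟨s, hs, hsU⟩ := (isCompact_iff_finite_and_eq_biUnion_affineOpens (X := S) (U := ⊤)).mp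
    (by simpa using isCompact_univ (X := S))
  have hA : ∀ V : S.affineOpens, IsAffineOpen (X.hom ⁻¹ᵁ V.1) := fun V => V.2.preimage X.hom
  choose E hE using fun V : S.affineOpens => Groth.Agent.H15Magnet.exists_finset_weights a
    ((hA V).fromSpec ≫ X.hom) (Over.homMk (hA V).fromSpec rfl)
  let E₀ : Finset M := hs.toFinset.biUnion E
  have key : ∀ N L : AddSubmonoid M, (∀ m ∈ E₀, m ∈ N ↔ m ∈ L) → ∀ (T : Over S) (x : T ⟶ X),
      (∃ φ, (Magnet.attrToX a N).app (op T) φ = x) → ∃ φ, (Magnet.attrToX a L).app (op T) φ = x := by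
    intro N L h T x ⟨φ, hφ⟩
    have hc : ∀ t : T.left, ∃ (V : S.affineOpens) (W : T.left.Opens), V ∈ s ∧ IsAffineOpen W ∧ t ∈ W ∧
        W ≤ x.left ⁻¹ᵁ (X.hom ⁻¹ᵁ V.1) := fun t => by
      have ht : X.hom (x.left t) ∈ (⊤ : S.Opens) := trivial
      rw [hsU] at ht
      simp only [TopologicalSpace.Opens.mem_iSup] at ht
      obtain ⟨V, hV, hmem⟩ := ht
      obtain ⟨W, hW, htW, hle⟩ := exists_isAffineOpen_mem_and_subset
        (U := x.left ⁻¹ᵁ (X.hom ⁻¹ᵁ V.1)) (x := t) hmem
      exact ⟨V, W, hV, hW, htW, hle⟩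
    choose V W hV hW htW hle using hc
    let 𝒰 : T.left.OpenCover :=
      { I₀ := T.left
        X := fun t => Spec Γ(T.left, W t)
        f := fun t => (hW t).fromSpec
        mem₀ := by
          rw [Scheme.presieve₀_mem_precoverage_iff]
          exact ⟨fun t => ⟨t, by rw [(hW t).range_fromSpec]; exact htW t⟩, inferInstance⟩ }
    refine Groth.Agent.H15Magnet.exists_attr_of_cover a L T x 𝒰 fun t => ?_
    have hr : Set.range ((hW t).fromSpec ≫ x.left) ⊆ Set.range (hA (V t)).fromSpec := by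
      rintro _ ⟨z, rfl⟩
      rw [(hA (V t)).range_fromSpec]
      exact hle t ((hW t).range_fromSpec.subset ⟨z, rfl⟩)
    obtain ⟨q, hq⟩ := Spec.map_surjective (IsOpenImmersion.lift (hA (V t)).fromSpec _ hr)
    have hq' : Spec.map q ≫ (hA (V t)).fromSpec = (hW t).fromSpec ≫ x.left := by
      rw [hq, IsOpenImmersion.lift_fac]
    let T' : Over S := Over.mk (Spec.map (CommRingCat.ofHom q.hom) ≫ (hA (V t)).fromSpec ≫ X.hom)
    let b : T' ⟶ X := Groth.Agent.H15Magnet.baseMap ((hA (V t)).fromSpec ≫ X.hom) q.hom ≫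
      Over.homMk (hA (V t)).fromSpec rfl
    let e : Over.mk (𝒰.f t ≫ T.hom) ⟶ T' := Over.homMk (𝟙 _) (by
      show 𝟙 _ ≫ Spec.map q ≫ _ = (hW t).fromSpec ≫ T.hom
      rw [Category.id_comp, reassoc_of% hq', Over.w x])
    let e' : T' ⟶ T := Over.homMk (hW t).fromSpec (by
      show (hW t).fromSpec ≫ T.hom = Spec.map q ≫ _
      rw [reassoc_of% hq', Over.w x])
    have hb : b = e' ≫ x := Over.OverMorphism.ext hq'
    have hmem : ∀ m ∈ E (V t), m ∈ N ↔ m ∈ L := fun m hm =>
      h m (Finset.mem_biUnion.2 ⟨V t, hs.mem_toFinset.2 (hV t), hm⟩)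
    obtain ⟨ψ, hψ⟩ := (hE (V t) N L hmem _ q.hom).1
      ⟨(Magnet.attr a N).map e'.op φ, (Groth.Agent.H15Magnet.toX_map a N e' φ).trans (by rw [hφ]; exact hb.symm)⟩
    refine ⟨(Magnet.attr a L).map e.op ψ, (Groth.Agent.H15Magnet.toX_map a L e ψ).trans ?_⟩
    rw [hψ]
    apply Over.OverMorphism.ext
    show 𝟙 _ ≫ Spec.map q ≫ (hA (V t)).fromSpec = (hW t).fromSpec ≫ x.left
    rw [Category.id_comp, hq']
  exact ⟨E₀, key⟩

end Groth.Agent.H15Magnet
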